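import Cfsg.Agent.Lib.GO.Simple

/-! Components modulo the odd core inside the normal closure of a strongly closed subgroup. -/

set_option autoImplicit false
set_option linter.unusedSectionVars false
set_option linter.unusedVariables false

namespace Cfsg.Agent.GO

open Subgroup Cfsg.Agent.FT Cfsg.Agent.SF Cfsg.Agent.SF.GP Cfsg.Agent.SC
open Cfsg.Agent.Tr (SylowIn)

universe u

section

variable {G : Type*} [Group G]

/-- `L / O(H)` is a component of `⟨T ∩ H⟩ O(H) / O(H)` -/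
structure Cmp (T : Set G) (H L : Subgroup G) : Prop where
  D_le : 𝐎(H) ≤ L
  le : L ≤ NN T H ⊔ 𝐎(H)
  nrm : NN T H ≤ 𝐍(L)
  perf : L ≤ ⁅L, L⁆ ⊔ 𝐎(H)
  ne : ¬ L ≤ 𝐎(H)
  qs : ∀ M, M ≤ L → L ≤ 𝐍(M) → L ≤ M ⊔ 𝐎(H) ∨ ⁅M, L⁆ ≤ 𝐎(H)

/-- the centralizer in `H` of `L` modulo `O(H)` -/
def Gam (H L : Subgroup G) : Subgroup G := H ⊓ cmod 𝐎(H) L

theorem mem_Gam {H L : Subgroup G} {x : G} :
    x ∈ Gam H L ↔ x ∈ H ∧ ∀ y ∈ L, x * y * x⁻¹ * y⁻¹ ∈ 𝐎(H) :=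
  ⟨fun h => ⟨h.1, h.2.2⟩, fun h => ⟨h.1, pcore_norm _ H h.1, h.2⟩⟩

theorem Gam_le (H L : Subgroup G) : Gam H L ≤ H := inf_le_left

theorem le_Gam {H L X : Subgroup G} : X ≤ Gam H L ↔ X ≤ H ∧ ⁅X, L⁆ ≤ 𝐎(H) :=
  ⟨fun h => ⟨h.trans inf_le_left, comm_le_of_le_cmod (h.trans inf_le_right)⟩,
    fun h => le_inf h.1 (le_cmod (h.1.trans (pcore_norm _ H)) h.2)⟩

theorem comm_Gam (H L : Subgroup G) : ⁅Gam H L, L⁆ ≤ 𝐎(H) := (le_Gam.1 le_rfl).2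

theorem Gam_anti (H : Subgroup G) {L L' : Subgroup G} (h : L ≤ L') : Gam H L' ≤ Gam H L :=
  le_Gam.2 ⟨Gam_le _ _, (commgS _ h).trans (comm_Gam H L')⟩

theorem cent_le_Gam (H L : Subgroup G) : H ⊓ 𝐂(L) ≤ Gam H L :=
  le_Gam.2 ⟨inf_le_left, by rw [commG1P.2 inf_le_right]; exact bot_le⟩

theorem D_le_Gam {H L : Subgroup G} (h : L ≤ H) : 𝐎(H) ≤ Gam H L :=
  le_Gam.2 ⟨pcore_sub _ H, commg_subl.2 (h.trans (pcore_norm _ H))⟩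

theorem Gam_sup {H L : Subgroup G} (h : L ≤ H) : Gam H (L ⊔ 𝐎(H)) = Gam H L :=
  le_antisymm (Gam_anti H le_sup_left) (le_Gam.2 ⟨Gam_le _ _, by
    rw [commGC]
    exact commMG_le (h.trans (pcore_norm _ H)) (by rw [commGC]; exact comm_Gam H L)
      (commg_subl.2 ((Gam_le _ _).trans (pcore_norm _ H))) (normG _)⟩)

variable [Finite G]

theorem Gam_cj (g : G) (H L : Subgroup G) : Gam (cj g H) (cj g L) = cj g (Gam H L) := by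
  have key : ∀ (g : G) (H L : Subgroup G), cj g (Gam H L) ≤ Gam (cj g H) (cj g L) := fun g H L =>
    le_Gam.2 ⟨Tr.cj_mono g (Gam_le _ _), by
      rw [← Tr.cj_commutator, pcoreJ]; exact Tr.cj_mono g (comm_Gam H L)⟩
  refine le_antisymm (Tr.le_cj_iff_cj_inv_le.2 ?_) (key g H L)
  simpa only [Tr.cj_inv_cj] using key g⁻¹ (cj g H) (cj g L)

theorem norm_Gam (H L : Subgroup G) : 𝐍(H) ⊓ 𝐍(L) ≤ 𝐍(Gam H L) := fun g hg =>
  Tr.cj_eq_iff.1 (by rw [← Gam_cj, Tr.cj_eq_iff.2 hg.1, Tr.cj_eq_iff.2 hg.2])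

theorem norm_Gam' (H L : Subgroup G) : H ⊓ 𝐍(L) ≤ 𝐍(Gam H L) :=
  (inf_le_inf_right _ (normG H)).trans (norm_Gam H L)

theorem simple_of {L : Subgroup G} (h1 : L ≠ ⊥)
    (h : ∀ N, N ≤ L → L ≤ 𝐍(N) → N = ⊥ ∨ L ≤ N) : IsSimpleGroup L := by
  have := (nontrivial_iff_ne_bot L).2 h1
  refine ⟨fun N hN => (h _ (map_subtype_le N) (nrm_map_subtype N).2).imp (fun e => ?_) fun e => ?_⟩
  · exact (map_eq_bot_iff_of_injective _ L.subtype_injective).1 e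
  · exact eq_top_iff.2 fun x _ => (mem_map_iff_mem L.subtype_injective).1 (e x.2)

/-- lifting of centralizers -/
theorem cover {D F K : Subgroup G} (hD : Odd #|D|) (hF : IsPGroup 2 F) (hK : D ≤ K) (hn : K ≤ 𝐍(D))
    (hn' : F ≤ 𝐍(D)) (h : ⁅K, F⁆ ≤ D) : K ≤ D ⊔ (K ⊓ 𝐂(F)) :=
  (le_sup_cent_of_commg_le hK hn hn' (cop2 hD hF) (Or.inl (pgroup_sol hF)) h).ge

namespace Cmp

variable {T : Set G} {H L : Subgroup G} (c : Cmp T H L)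
include c

theorem le_H : L ≤ H := c.le.trans (sup_le (NN_le T H) (pcore_sub _ H))

theorem nD : L ≤ 𝐍(𝐎(H)) := c.le_H.trans (pcore_norm _ H)

theorem not_le_Gam : ¬ L ≤ Gam H L := fun h =>
  c.ne (c.perf.trans (sup_le (le_Gam.1 h).2 le_rfl))

theorem Gam_norm : Gam H L ≤ 𝐍(L) := commg_subr.1 ((comm_Gam H L).trans c.D_le)

theorem norm_Gam : L ≤ 𝐍(Gam H L) := (le_inf c.le_H (normG L)).trans (norm_Gam' H L)

theorem cj (hT : Fam T) (g : G) : Cmp T (cj g H) (cj g L) where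
  D_le := by rw [pcoreJ]; exact Tr.cj_mono g c.D_le
  le := by rw [pcoreJ, Red.NN_cj hT, ← Tr.cj_sup]; exact Tr.cj_mono g c.le
  nrm := by rw [Red.NN_cj hT, normJ]; exact Tr.cj_mono g c.nrm
  perf := by rw [pcoreJ, ← Tr.cj_commutator, ← Tr.cj_sup]; exact Tr.cj_mono g c.perf
  ne := by rw [pcoreJ, Tr.cj_le_cj]; exact c.ne
  qs M h1 h2 := by
    rw [← Tr.cj_cj_inv g M] at h1 h2 ⊢
    rw [normJ, Tr.cj_le_cj] at h2
    rw [pcoreJ, ← Tr.cj_commutator, ← Tr.cj_sup, Tr.cj_le_cj, Tr.cj_le_cj]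
    exact c.qs _ (Tr.cj_le_cj.1 h1) h2

theorem cj_mem (hT : Fam T) {g : G} (hg : g ∈ H) : Cmp T H (Tr.cj g L) := by
  simpa only [Tr.cj_eq_of_mem hg] using c.cj hT g

theorem three {X : Subgroup G} (hX : X ≤ H) (h : ⁅⁅X, L⁆, L⁆ ≤ 𝐎(H)) : X ≤ Gam H L := by
  have hn := hX.trans (pcore_norm {2}ᶜ H)
  refine le_Gam.2 ⟨hX, (commgS X c.perf).trans ?_⟩
  rw [commGC]
  exact commMG_le ((der_sub L).trans c.nD)
    (three_subgroup_mod c.nD hn c.nD (commGC L X ▸ h) h) (commg_subl.2 hn) (normG _)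

theorem dich {X : Subgroup G} (hX : X ≤ H) (hn : X ≤ 𝐍(L)) :
    X ≤ Gam H L ∨ L ≤ ⁅L, X⁆ ⊔ 𝐎(H) :=
  (c.qs _ (commg_subl.2 hn) (commg_norml L X)).symm.imp_left fun h => c.three hX (commGC L X ▸ h)

theorem nrm' : NN T H ⊔ 𝐎(H) ≤ 𝐍(L) := sup_le c.nrm (normsG c.D_le)

theorem two {L' : Subgroup G} (c' : Cmp T H L') (hne : L' ≠ L) : L' ≤ Gam H L := by
  have h1 : L ≤ 𝐍(L') := c.le.trans c'.nrm'
  have h2 : L' ≤ 𝐍(L) := c'.le.trans c.nrm'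
  rcases c.qs (L' ⊓ L) inf_le_right (normsI h1 (normG L)) with h | h
  · have h3 : L ≤ L' := h.trans (sup_le inf_le_left c'.D_le)
    rcases c'.qs L h3 h2 with h | h
    · exact absurd (le_antisymm (h.trans (sup_le le_rfl c.D_le)) h3) hne
    · exact absurd (le_Gam.2 ⟨c.le_H, (commgS L h3).trans h⟩) c.not_le_Gam
  · exact c.three c'.le_H ((commSg L (commg_subI h2 h1)).trans h)

theorem not_E_le {E : Subgroup G} (h : Scl T E) (hE : E ≤ H) : ¬ E ≤ Gam H L := fun h1 => by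
  refine c.not_le_Gam (c.le.trans (sup_le (NN_le_iff.2 fun t ht htH => ?_) (D_le_Gam c.le_H)))
  obtain ⟨k, hk, h2⟩ := h.conj_mem (h.le_NN hE) ht (mem_NN ht htH)
  exact (memJ_norm (norm_Gam' H L ⟨NN_le T H hk, c.nrm hk⟩)).1 (h1 h2)

end Cmp

end

variable {G : Type u} [Group G] [Finite G] {T : Set G} {H L E : Subgroup G}

theorem Cmp.not_sol (c : Cmp T H L) {M : Subgroup G} (h : L ≤ M ⊔ 𝐎(H)) (hM : M ≤ H) :
    ¬ Group.IsSolvable M := fun hs => by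
  have : Fact OddOrderThm.{u} := ⟨FT.oddOrder⟩
  refine c.ne (le_of_le_sup_der (solvableS h ?_) c.nD (sup_comm ⁅L, L⁆ _ ▸ c.perf))
  rw [sup_comm]
  exact sol_join (hM.trans (pcore_norm _ H)) (odd_sol (odd_core H)) hs

/-- the simple quotient -/
theorem Cmp.quot (c : Cmp T H L) {n : ℕ} (hG : GN.{u} n) (hn : #|H| < n) (h : Sce T E)
    (hE : E ≤ H) : ∃ (Y : Type u) (_ : Group Y) (_ : Finite Y) (f : ↥(H ⊓ 𝐍(L)) →* Y),
      (∀ x, f x = 1 ↔ (x : G) ∈ Gam H L) ∧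
        Gd ((L.subgroupOf _).map f) ((E.subgroupOf _).map f) := by
  have hN := normal_subgroupOf_of_norm (norm_Gam' H L)
  have hs := QuotientGroup.mk'_surjective ((Gam H L).subgroupOf (H ⊓ 𝐍(L)))
  have hk : ∀ x, QuotientGroup.mk' ((Gam H L).subgroupOf (H ⊓ 𝐍(L))) x = 1 ↔ (x : G) ∈ Gam H L :=
    fun x => QuotientGroup.eq_one_iff x
  refine ⟨_, inferInstance, inferInstance, _, hk, ?_⟩
  generalize QuotientGroup.mk' ((Gam H L).subgroupOf (H ⊓ 𝐍(L))) = f at hs hk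
  have hL : L ≤ H ⊓ 𝐍(L) := le_inf c.le_H (normG L)
  have hE' : E ≤ H ⊓ 𝐍(L) := le_inf hE ((h.le_NN hE).trans c.nrm)
  have := (normal_subgroupOf_of_norm (H := L) (K := H ⊓ 𝐍(L)) inf_le_right).map f hs
  have := simple_of (L := (L.subgroupOf _).map f)
    (fun e => c.not_le_Gam fun x hx => (hk ⟨x, hL hx⟩).1 (e.le (mem_map_of_mem f hx)))
    fun N h1 h2 => by
      rcases c.qs (L ⊓ (N.comap f).map (H ⊓ 𝐍(L)).subtype) inf_le_left (normsIG le_rfl (by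
        refine norms_of_conj_mem ?_
        rintro a ha _ ⟨b, hb, rfl⟩
        refine ⟨⟨a, hL ha⟩ * b * ⟨a, hL ha⟩⁻¹, ?_, rfl⟩
        show f _ ∈ N
        rw [map_mul, map_mul, map_inv]
        exact (memJ_norm (h2 (mem_map_of_mem f ha))).2 hb)) with h3 | h3
      · right
        rintro _ ⟨x, hx, rfl⟩
        obtain ⟨y, hy, e⟩ := (sup_le inf_le_right fun d hd => ⟨⟨d, hL (c.D_le hd)⟩, by
          show f _ ∈ N
          rw [(hk _).2 (D_le_Gam c.le_H hd)]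
          exact one_mem N, rfl⟩ : _ ⊔ 𝐎(H) ≤ (N.comap f).map (H ⊓ 𝐍(L)).subtype) (h3 hx)
        exact Subtype.ext e ▸ hy
      · left
        refine eq_bot_iff.2 fun y hy => ?_
        obtain ⟨x, hx, rfl⟩ := h1 hy
        exact (hk x).2 (le_Gam.2 ⟨inf_le_left.trans c.le_H, h3⟩ ⟨hx, x, hy, rfl⟩)
  refine gd_of hG (lt_of_le_of_lt ?_ hn) (eq_bot_iff.2 fun y hy => ?_) ((h.subgroupOf hE').image hs)
    fun e => c.not_E_le h.toScl hE fun x hx => (hk ⟨x, hE' hx⟩).1 (e.le (mem_map_of_mem f hx))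
  · exact (Nat.le_of_dvd Nat.card_pos (card_map_dvd _ _)).trans
      ((Nat.card_congr (subgroupOfEquivOfLe hL).toEquiv).le.trans (card_le_of_le c.le_H))
  · obtain ⟨x, rfl⟩ := hs y
    refine (hk x).2 (c.three (cycle_subG.2 x.2.1) ((commSg L (comm_le_of_le_cmod (cycle_subG.2
      ⟨norm_Gam' H L x.2, fun t ht => (hk (x * ⟨t, hL ht⟩ * x⁻¹ * ⟨t, hL ht⟩⁻¹)).1 ?_⟩))).trans
        (comm_Gam H L)) (mem_zpowers _))
    rw [map_mul, map_mul, map_mul, map_inv, map_inv, ← mem_cent.1 hy _ (mem_map_of_mem f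
      (show (⟨t, hL ht⟩ : ↥(H ⊓ 𝐍(L))) ∈ L.subgroupOf _ from ht))]
    group

/-- the properties of a component, stated in the ambient group -/
structure Prp (E H L : Subgroup G) : Prop where
  four : 4 ≤ (E ⊓ Gam H L).relIndex E
  tr : ∀ a ∈ E, a ∉ Gam H L → ∀ b ∈ E, b ∉ Gam H L →
    ∃ n ∈ L, n ∈ 𝐍(E) ∧ n * a * n⁻¹ * b ∈ Gam H L
  cent : ∀ x ∈ L, x ∈ 𝐍(E) → El2 x → ∀ e ∈ E, x * e * x⁻¹ * e⁻¹ ∈ Gam H L
  sq : ∀ x ∈ L, x ∈ 𝐍(E) → El2 x → ∃ e ∈ E, x * x * e ∈ Gam H L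
  inv : ∀ x ∈ L, x ∈ 𝐍(E) → x * x ∈ Gam H L → ∃ e ∈ E, x * e ∈ Gam H L
  zen : ∀ Q, SylowIn 2 Q L → E ≤ 𝐍(Q) → ∀ x ∈ Q, (∀ y ∈ Q, x * y * x⁻¹ * y⁻¹ ∈ Gam H L) →
    x * x ∈ Gam H L
  inner : ∀ Q, SylowIn 2 Q L → E ≤ 𝐍(Q) → ∀ x ∈ H, x ∈ 𝐍(L) → x ∈ 𝐍(Q) → El2 x → x ∈ 𝐂(E) →
    (∀ y ∈ Q, x * y * x⁻¹ * y⁻¹ ∈ E) → ∃ y ∈ Q, y * x ∈ Gam H L

theorem Cmp.prp (c : Cmp T H L) {n : ℕ} (hG : GN.{u} n) (hn : #|H| < n) (h : Sce T E)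
    (hE : E ≤ H) : Prp E H L := by
  obtain ⟨Y, _, _, f, hk, g⟩ := c.quot hG hn h hE
  have hL : L ≤ H ⊓ 𝐍(L) := le_inf c.le_H (normG L)
  have hE' : E ≤ H ⊓ 𝐍(L) := le_inf hE ((h.le_NN hE).trans c.nrm)
  have hm : ∀ {A : Subgroup G} {x : ↥(H ⊓ 𝐍(L))}, (x : G) ∈ A → f x ∈ (A.subgroupOf _).map f :=
    fun hx => mem_map_of_mem f hx
  have hN : ∀ {A : Subgroup G} {x : ↥(H ⊓ 𝐍(L))}, (x : G) ∈ 𝐍(A) → f x ∈ 𝐍((A.subgroupOf _).map f) :=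
    fun {A x} hx => norms_map f (A := zpowers x) (cycle_subG.2 (Tr.mem_normalizer_of_forall
      fun a ha => (memJ_norm hx).2 ha)) (mem_map_of_mem f (mem_zpowers x))
  have h2 : ∀ {x : ↥(H ⊓ 𝐍(L))}, El2 (x : G) → El2 (f x) := fun {x} hx => by
    obtain ⟨k, e⟩ := Tr.isPGroup_iff_forall_mem.1 hx x (mem_zpowers _)
    exact Tr.isPGroup_zpowers (k := k) (by rw [← map_pow, show x ^ 2 ^ k = 1 from Subtype.ext e, map_one])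
  have hee : ∀ {y}, y ∈ (E.subgroupOf _).map f → y * y = 1 := by
    rintro _ ⟨x, hx, rfl⟩
    rw [← map_mul, show x * x = 1 from Subtype.ext (h.ee hx), map_one]
  have hS : ∀ Q, SylowIn 2 Q L → E ≤ 𝐍(Q) → SylowIn 2 ((Q.subgroupOf _).map f)
      ((L.subgroupOf _).map f) ∧ (E.subgroupOf _).map f ≤ (Q.subgroupOf _).map f := fun Q hQ hn => by
    have h3 := (hQ.subgroupOf hL).map f
    refine ⟨h3, h3.le_of_le_normalizer' ((Tr.isPGroup_subgroupOf h.two _).map f) g.le ?_⟩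
    rintro _ ⟨x, hx, rfl⟩
    exact hN (hn hx)
  refine ⟨?_, fun a ha a1 b hb b1 => ?_, fun x hx hx' x2 e he => ?_, fun x hx hx' x2 => ?_,
    fun x hx hx' x2 => ?_, fun Q hQ hQn x hx hy => ?_, fun Q hQ hQn x hx hxL hxQ x2 hxE hy => ?_⟩
  · have h3 : f.ker = (Gam H L).subgroupOf _ := Subgroup.ext hk
    have := g.four
    rwa [← relIndex_ker, h3, relIndex_subgroupOf hE', ← inf_relIndex_right, inf_comm] at this
  · obtain ⟨_, ⟨m, hm1, rfl⟩, hm2, e⟩ := g.tr _ (hm (x := ⟨a, hE' ha⟩) ha) (fun e => a1 ((hk _).1 e)) _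
      (hm (x := ⟨b, hE' hb⟩) hb) fun e => b1 ((hk _).1 e)
    have h3 : E ≤ 𝐍(Gam H L) := hE'.trans (norm_Gam' H L)
    obtain ⟨k, hk1, e1⟩ := h.conj_eq (h.toScl.cj (m : G)) (H := (E ⊔ Gam H L) ⊓ (E ⊔ L))
      (le_inf le_sup_left le_sup_left) (Tr.cj_le_iff.2 fun x hx => ⟨by
        obtain ⟨z, hz, e⟩ := (memJ_norm hm2).2 (hm (x := ⟨x, hE' hx⟩) hx)
        have h4 := (hk (z⁻¹ * (m * ⟨x, hE' hx⟩ * m⁻¹))).1 (by simp [e, mul_assoc])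
        simpa using (E ⊔ Gam H L).mul_mem (mem_sup_left (show (z : G) ∈ E from hz)) (mem_sup_right h4),
        (E ⊔ L).mul_mem ((E ⊔ L).mul_mem (mem_sup_right hm1) (mem_sup_left hx))
          ((E ⊔ L).inv_mem (mem_sup_right hm1))⟩)
    obtain ⟨e', he', γ, hγ, e2⟩ := (mem_join_norm' h3).1 hk1.1
    obtain ⟨e'', he'', l, hl, rfl⟩ := (mem_join_norm' (hE'.trans inf_le_right)).1 hk1.2
    have h5 : f ⟨l, hL hl⟩ ∈ (E.subgroupOf _).map f := by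
      have h8 : γ ∈ H ⊓ 𝐍(L) := ⟨Gam_le _ _ hγ, c.Gam_norm hγ⟩
      have h6 : (⟨l, hL hl⟩ : ↥(H ⊓ 𝐍(L))) = ⟨e'', hE' he''⟩⁻¹ * ⟨e', hE' he'⟩ *
        ⟨γ, h8⟩ := Subtype.ext (by simp [mul_assoc, e2])
      rw [h6, map_mul, (hk ⟨γ, h8⟩).2 hγ, mul_one]
      exact hm (mul_mem (inv_mem he'') he')
    refine ⟨l * m, mul_mem hl hm1, ?_, (hk (⟨l, hL hl⟩ * m * ⟨a, hE' ha⟩ * (⟨l, hL hl⟩ * m)⁻¹ *
      ⟨b, hE' hb⟩)).1 ?_⟩
    · rw [← Tr.cj_mul, Tr.cj_eq_iff, mul_assoc] at e1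
      simpa using mul_mem (inv_mem (normG E he'')) e1
    · have h7 := hm (x := ⟨b, hE' hb⟩) hb
      simp only [map_mul, map_inv, mul_inv_rev]
      rw [show ∀ u v w z : Y, u * v * w * (v⁻¹ * u⁻¹) * z = u * (v * w * v⁻¹) * u⁻¹ * z from
        fun _ _ _ _ => by group, e, mem_cent.1 (g.cent _ (g.le h7) (normG _ h7) (pgroup_invol (hee h7)))
        _ h5, mul_inv_cancel_right, hee h7]
  · refine (hk (⟨x, hL hx⟩ * ⟨e, hE' he⟩ * ⟨x, hL hx⟩⁻¹ * ⟨e, hE' he⟩⁻¹)).1 ?_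
    simp only [map_mul, map_inv]
    rw [← mem_cent.1 (g.cent _ (hm (x := ⟨x, hL hx⟩) hx) (hN hx') (h2 x2)) _ (hm (x := ⟨e, hE' he⟩) he)]
    group
  · obtain ⟨z, hz, e⟩ := g.sq _ (hm (x := ⟨x, hL hx⟩) hx) (hN hx') (h2 x2)
    exact ⟨z, hz, (hk (⟨x, hL hx⟩ * ⟨x, hL hx⟩ * z)).1 (by
      rw [map_mul, map_mul, ← e, hee (hm hz)])⟩
  · obtain ⟨z, hz, e⟩ := g.inv _ (hm (x := ⟨x, hL hx⟩) hx) (hN hx')
      ((map_mul f _ _).symm.trans ((hk _).2 x2))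
    exact ⟨z, hz, (hk (⟨x, hL hx⟩ * z)).1 (by rw [map_mul, ← e, hee (hm hz)])⟩
  · have hQ' := hQ.le.trans hL
    refine (hk (⟨x, hQ' hx⟩ * ⟨x, hQ' hx⟩)).1 ((map_mul f _ _).trans
      (g.zen _ (hS Q hQ hQn).1 (hS Q hQ hQn).2 _ (hm (x := ⟨x, hQ' hx⟩) hx) (mem_cent.2 ?_)))
    rintro _ ⟨y, hy', rfl⟩
    have := (hk (⟨x, hQ' hx⟩ * y * ⟨x, hQ' hx⟩⁻¹ * y⁻¹)).2 (hy y hy')
    simp only [map_mul, map_inv] at this
    rw [mul_inv_eq_one, mul_inv_eq_iff_eq_mul] at this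
    exact this.symm
  · have h3 := g.inner _ (hS Q hQ hQn).1 (hS Q hQ hQn).2 (f ⟨x, hx, hxL⟩) (h2 x2) (mem_cent.2 (by
      rintro _ ⟨y, hy', rfl⟩
      rw [← map_mul, ← map_mul]
      exact congrArg f (Subtype.ext (mem_cent.1 hxE y hy')))) (by
      rintro _ ⟨y, hy', rfl⟩
      simpa only [map_mul, map_inv] using
        hm (x := ⟨x, hx, hxL⟩ * y * ⟨x, hx, hxL⟩⁻¹ * y⁻¹) (hy y hy'))
    obtain ⟨y, hy', e⟩ := (hS Q hQ hQn).1.le_of_le_normalizer' (h2 (x := ⟨x, hx, hxL⟩) x2)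
      (cycle_subG.2 h3) (cycle_subG.2 (hN hxQ)) (mem_zpowers _)
    exact ⟨(y⁻¹ : ↥(H ⊓ 𝐍(L))), inv_mem hy', (hk (y⁻¹ * ⟨x, hx, hxL⟩)).1 (by simp [e])⟩

end Cfsg.Agent.GO
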