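import Cfsg.Agent.Lib.GO.Cmp

/-! The structure of the normal closure of a strongly closed elementary abelian 2-subgroup. -/

set_option autoImplicit false
set_option linter.unusedSectionVars false
set_option linter.unusedVariables false

namespace Cfsg.Agent.GO

open Subgroup Cfsg.Agent.FT Cfsg.Agent.SF Cfsg.Agent.SF.GP Cfsg.Agent.SC
open Cfsg.Agent.Tr (SylowIn)

universe u

variable {G : Type u} [Group G] [Finite G] {T : Set G} {E H L : Subgroup G} {n : ℕ}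

theorem exists_two {F : Subgroup G} (h : 4 ≤ F.relIndex E) {e : G} (he : e ∈ E) :
    ∃ a ∈ E, a ∉ F ∧ a * e ∉ F := by
  by_contra hc
  push Not at hc
  have := Nat.le_of_dvd two_pos (relIndex_dvd_two_iff.2 ⟨e, he, fun b hb =>
    (em (b ∈ F)).symm.imp_left (hc b hb)⟩ : F.relIndex E ∣ 2)
  omega

theorem Prp.dec (p : Prp E H L) (h : Sce T E) (hn : E ≤ 𝐍(L)) {e : G} (he : e ∈ E) :
    ∃ a ∈ E ⊓ L, a * e ∈ Gam H L := by
  by_cases h1 : e ∈ Gam H L
  · exact ⟨1, one_mem _, by simpa using h1⟩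
  obtain ⟨a, ha, h2, h3⟩ := exists_two p.four he
  obtain ⟨m, hm, hm', h4⟩ := p.tr a ha (fun x => h2 ⟨ha, x⟩) _ (mul_mem ha he)
    fun x => h3 ⟨mul_mem ha he, x⟩
  refine ⟨m * a * m⁻¹ * a, ⟨mul_mem ((memJ_norm hm').2 ha) ha, ?_⟩, by simpa [mul_assoc] using h4⟩
  have := mul_mem hm ((memJ_norm (hn ha)).2 (inv_mem hm))
  rwa [h.inv ha, ← mul_assoc, ← mul_assoc] at this

theorem Sce.tcomm (h : Sce T E) {P : Subgroup G} (hP : IsPGroup 2 P) {a b : G} (ha : a ∈ T)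
    (hb : b ∈ T) (haP : a ∈ P) (hbP : b ∈ P) : a * b = b * a := by
  rw [← Tr.inv_eq_of_mul_self (h.sq _ (h.fam.mul P hP a ha b hb haP hbP)), mul_inv_rev,
    Tr.inv_eq_of_mul_self (h.sq a ha), Tr.inv_eq_of_mul_self (h.sq b hb)]

theorem comp_cj {K : Subgroup G} (hK : IsComponent K) (g : G) : IsComponent (cj g K) :=
  Tr.Comp.map_equiv hK (MulAut.conj g)

theorem Sce.norm_comp (h : Sce T E) {K : Subgroup G} (hK : IsComponent K) : closure T ≤ 𝐍(K) := by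
  have : Fact OddOrderThm.{u} := ⟨FT.oddOrder⟩
  refine (closure_le _).2 fun t ht => ?_
  by_contra hne
  have hc : K ≤ 𝐂(Tr.cj t K) := (Tr.Comp.eq_or_le_centralizer hK (comp_cj hK t)).resolve_left
    fun e => hne (Tr.cj_eq_iff.1 e.symm)
  obtain ⟨P, hP⟩ := Tr.exists_sylowIn (p := 2) K
  have hPc : Tr.cj t P ≤ 𝐍(P) := cents_norm (centsC.1 (centSS hP.le (Tr.cj_mono t hP.le) hc))
  have hR := pgroup_sup_elt (x := t) (isPGroup_sup hP.isPGroup (Tr.isPGroup_cj t hP.isPGroup) hPc)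
    (h.fam.two t ht) (Tr.cj_eq_iff.1 (by
      rw [Tr.cj_sup, ← Tr.cj_mul, h.sq t ht, Tr.cj_one, sup_comm]))
  have hPR : ∀ x ∈ P, x ∈ P ⊔ Tr.cj t P ⊔ zpowers t := fun x hx => mem_sup_left (mem_sup_left hx)
  have htR := mem_sup_elt (P ⊔ Tr.cj t P) t
  have h1 : ⁅K, K⁆ ⊓ P ≤ 𝐂(K) := hP.commutator_inf_le_of_fusion fun x hx k hk hx' => by
    have h2 : x * t * x⁻¹ * t⁻¹ ∈ T := h.fam.comm_mem hR ht htR
      (mul_mem (mul_mem (hPR x hx) htR) (inv_mem (hPR x hx)))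
    have h3 : k * (x * t * x⁻¹ * t⁻¹) * k⁻¹ = k * x * k⁻¹ * (t * x⁻¹ * t⁻¹) := by
      have := mem_cent.1 (hc (inv_mem hk)) _ (Tr.conj_mem_cj (g := t).2 (inv_mem (hP.le hx)))
      rw [mul_assoc (k * x), ← this]
      group
    have h4 : t * x⁻¹ * t⁻¹ ∈ P ⊔ Tr.cj t P ⊔ zpowers t :=
      mul_mem (mul_mem htR (inv_mem (hPR x hx))) (inv_mem htR)
    have h5 := h.fam.mul _ hR _ (h3 ▸ h.fam.conj _ h2 k) _ (h.fam.inv h2)
      (mul_mem (hPR _ hx') h4) (inv_mem (by simpa only [mul_assoc] using mul_mem (hPR x hx) h4))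
    rw [show k * x * k⁻¹ * (t * x⁻¹ * t⁻¹) * (x * t * x⁻¹ * t⁻¹)⁻¹ = k * x * k⁻¹ * x⁻¹ by group] at h5
    have h6 := h.tcomm hR ht h5 htR (hPR _ (mul_mem hx' (inv_mem hx)))
    refine centsC.1 hc (Tr.mem_cj'.2 ⟨_, hP.le (mul_mem hx' (inv_mem hx)), ?_⟩)
    rw [h6, mul_inv_cancel_right]
  rw [Tr.Comp.perfect hK, inf_of_le_right hP.le] at h1
  have hn : K ≤ 𝐍(K ⊓ 𝐂(K)) := norms_subcent (normG K) (normG K)
  refine Tr.Comp.not_isSolvable hK (series_sol hn (nilpotent_sol (abelian_nil (abelianE.2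
    (inf_le_right.trans (centS inf_le_left))))) (odd_sol ?_))
  rw [card_quotient hn, ← Nat.not_even_iff_odd, even_iff_two_dvd]
  exact hP.not_dvd_relIndex_of_le (le_inf hP.le h1) inf_le_left

section top

variable (hO : 𝐎((⊤ : Subgroup G)) = ⊥)
include hO

theorem gam_top (K : Subgroup G) : Gam ⊤ K = 𝐂(K) :=
  le_antisymm (commG1P.1 (eq_bot_iff.2 (hO ▸ comm_Gam ⊤ K))) (le_Gam.2 ⟨le_top, by
    rw [commG1P.2 le_rfl]; exact bot_le⟩)

variable (h : Sce T E)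
include h

theorem Sce.cmp_or {K : Subgroup G} (hK : IsComponent K) : Cmp T ⊤ K ∨ closure T ≤ 𝐂(K) := by
  have := h.fam.normal
  refine (Tr.Comp.le_or_le_centralizer_of_le_normalizer hK (norms_of_normal K)).imp
    (fun h1 => ?_) centsC.1
  rw [← NN_top] at h1
  refine ⟨hO ▸ bot_le, h1.trans le_sup_left, NN_top T ▸ h.norm_comp hK,
    (Tr.Comp.perfect hK).ge.trans le_sup_left, by simpa [hO] using Tr.Comp.ne_bot hK,
    fun M _ h2 => (Tr.Comp.le_or_le_centralizer_of_le_normalizer hK h2).imp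
      (fun h3 => h3.trans le_sup_left) fun h3 => by rw [commG1P.2 (centsC.1 h3)]; exact bot_le⟩

omit h in
theorem eq_one_of_cent {x : G} (hx : Odd (orderOf x)) (h1 : x ∈ 𝐂(layer G))
    (h2 : x ∈ 𝐂(pCore 2 G)) : x = 1 := by
  have e := Fit.fitting_eq_pCore (G := G) Nat.prime_two (core_top_eq.symm.trans hO)
  refine eq_one_of_odd (by rwa [card_cycle]) (Fit.isPGroup_pCore 2 G) (mem_zpowers x) ?_
  rw [← e] at h2 ⊢
  exact Tr.centralizer_fstar_le_fitting ((centY _ _).ge ⟨h1, h2⟩)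

theorem Sce.le_two {X : Subgroup G} (h1 : X ≤ closure T) (h2 : ∀ K, Cmp T ⊤ K → X ≤ 𝐂(K)) :
    X ≤ pCore 2 G := by
  have := h.fam.normal
  have := Tr.layer_normal G
  have hV := Fit.isPGroup_pCore 2 G
  have h3 : closure T ≤ 𝐂(NN T (pCore 2 G)) ⊓ cmod (NN T (pCore 2 G)) (pCore 2 G) :=
    (closure_le _).2 fun t ht => by
      have hR := pgroup_sup_elt hV (h.fam.two t ht) (norms_of_normal ⊤ (mem_top t))
      refine ⟨mem_cent.2 fun a ha => ?_, h.fam.norm_NN _ (norms_of_normal ⊤ (mem_top t)),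
        fun v hv => comm_mem_symm (mem_NN (h.fam.comm_mem hR ht (mem_sup_elt _ t) (mul_mem (mul_mem
          (mem_sup_left hv) (mem_sup_elt _ t)) (inv_mem (mem_sup_left hv)))) ?_)⟩
      · obtain ⟨h4, h5⟩ := (h.fam.mem_NN_iff hV).1 ha
        exact h.tcomm hR h4 ht (mem_sup_left h5) (mem_sup_elt _ t)
      · simpa only [mul_assoc] using mul_mem hv (Normal.conj_mem inferInstance _ (inv_mem hv) t)
  refine (le_inf h1 (centsC.1 (Tr.layer_le_iff.2 fun K hK => centsC.1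
    ((h.cmp_or hO hK).elim (h2 K) h1.trans)))).trans (Fit.le_pCore inferInstance
      (Tr.isPGroup_iff_forall_mem.2 fun x hx => ?_))
  obtain ⟨a, ha, b, hb, a2, b2, e⟩ := exists_parts x
  have hb' := cycle_subG.2 hx hb
  have h6 := (cycle_subG.2 hb'.1).trans h3
  rw [eq_one_of_cent hO b2 hb'.2 (coprime_stable_cent (by
      rw [commGC]; exact comm_le_of_le_cmod (h6.trans inf_le_right)) (h6.trans inf_le_left)
    (cop2 (by rwa [card_cycle]) (pgroup_sub (NN_le _ _) hV)).symm (mem_zpowers b)), mul_one] at e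
  exact Tr.isPGroup_iff_forall_mem.1 a2 x (e ▸ mem_zpowers a)

theorem Sce.faith_top {a : G} (ha : a ∈ T) {X : Subgroup G} (h1 : X ≤ 𝐎(𝐂[a]))
    (h2 : ∀ K, Cmp T ⊤ K → X ≤ 𝐂(K)) : X = ⊥ := by
  have : Fact OddOrderThm.{u} := ⟨FT.oddOrder⟩
  have hV := Fit.isPGroup_pCore 2 G
  have h3 : pCore 2 G ≤ 𝐂(𝐎(𝐂[a])) := pxq_lemma (h.fam.two a ha)
    (Nat.coprime_two_right.2 (odd_core _)) (cycle_subG.2 (sub_cent1.1 (pcore_sub _ _))) hV
    (norms_of_normal _) (norms_of_normal _) (by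
      rw [show 𝐂(zpowers a) = 𝐂[a] from cent_gen {a} ▸ congrArg _ (by rw [zpowers_eq_closure])]
      exact coprime_normal_cent (⟨inf_le_right, normsI (norms_of_normal _) (normG _)⟩)
        (pcore_normal _ _) (cop2 (odd_core _) (pgroup_sub inf_le_left hV)).symm)
  refine eq_bot_iff.2 fun x hx => eq_one_of_cent hO
    (Tr.odd_orderOf_of_odd_card (odd_core _) (h1 hx)) (centsC.1 (Tr.layer_le_iff.2 fun K hK => ?_) hx)
    (centsC.1 h3 (h1 hx))
  refine (h.cmp_or hO hK).elim (fun c => centsC.1 (h2 K c)) fun h4 => ?_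
  exact (Tr.Comp.le_centralizer_of_isSolvable hK ((sub_cent1.2 (h4 (subset_closure ha))).trans
    (pcore_norm _ _)) (odd_sol (odd_core _))).trans (centS h1)

theorem Sce.gen_top (hG : GN.{u} n) (hn : Nat.card G < n) {M : Subgroup G} (h1 : 𝐍(E) ≤ M)
    (h2 : ∀ K, Cmp T ⊤ K → K ≤ M) : ⊤ ≤ M := by
  have hN := h.fam.normal
  have hle : ∀ K, Cmp T ⊤ K → K ≤ closure T := fun K c => by simpa [hO, NN_top] using c.le
  have h3 : ∀ K, Cmp T ⊤ K → closure T ≤ K ⊔ 𝐂(K) := fun K c => (closure_le _).2 fun t ht => by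
    obtain ⟨k, -, hk⟩ := h.conj_mem le_top ht (mem_top t)
    obtain ⟨a, ha, h4⟩ := (c.prp hG (by simpa using hn) (h.cj k⁻¹) le_top).dec (h.cj k⁻¹)
      (((h.cj k⁻¹).le_NN le_top).trans c.nrm) (Tr.mem_cj_inv.2 hk)
    rw [gam_top hO] at h4
    simpa using (K ⊔ 𝐂(K)).mul_mem (mem_sup_left (inv_mem ha.2)) (mem_sup_right h4)
  have h4 : ∀ s : Set (Subgroup G), s.Finite → (∀ K ∈ s, Cmp T ⊤ K) → ∀ x ∈ closure T,
      ∃ j ∈ M ⊓ closure T, ∀ K ∈ s, j * x ∈ 𝐂(K) := by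
    intro s hs
    induction s, hs using Set.Finite.induction_on with
    | empty => exact fun _ x _ => ⟨1, one_mem _, by simp⟩
    | @insert K s hK _ ih =>
      intro hc x hx
      obtain ⟨j, hj, h5⟩ := ih (fun K' hK' => hc K' (Or.inr hK')) x hx
      have c := hc K (Or.inl rfl)
      obtain ⟨k, hk, y, hy, e⟩ := (mem_join_norm (cent_sub K)).1 (h3 K c (mul_mem hj.2 hx))
      refine ⟨k⁻¹ * j, mul_mem (inv_mem ⟨h2 K c hk, hle K c hk⟩) hj, ?_⟩
      rintro K' (rfl | hK')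
      · rwa [mul_assoc, ← e, inv_mul_cancel_left]
      · rw [mul_assoc]
        refine mul_mem (inv_mem ?_) (h5 K' hK')
        rw [← gam_top hO]
        exact (hc K' (Or.inr hK')).two c (fun e => hK (e ▸ hK')) hk
  intro g _
  obtain ⟨k, hk, h5⟩ := h.frattini (NN_top T ▸ h.le_NN le_top) (FT.normal_top.2 hN) (mem_top g)
  obtain ⟨j, hj, h6⟩ := h4 {K | Cmp T ⊤ K} (Set.toFinite _) (fun _ c => c) k hk
  have h7 : j * k ∈ M := h1 (h.le_norm (isPGroup_sup (Fit.isPGroup_pCore 2 G) h.two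
    (norms_of_normal _)) le_sup_right (mem_sup_left (h.le_two hO (cycle_subG.2 (mul_mem hj.2 hk))
      (fun K c => cycle_subG.2 (h6 K c)) (mem_zpowers _))))
  simpa [mul_assoc] using mul_mem (inv_mem h7) (mul_mem hj.1 (h1 h5))

end top

section pull

variable {Y : Type u} [Group Y] [Finite Y] (f : H →* Y)

/-- image of a subgroup of `H` -/
def im (X : Subgroup G) : Subgroup Y := (X.subgroupOf H).map f

/-- preimage in `H` -/
def pre (K : Subgroup Y) : Subgroup G := (K.comap f).map H.subtype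

variable {f}

theorem pre_le (K : Subgroup Y) : pre f K ≤ H := map_subtype_le _

theorem mem_pre {K : Subgroup Y} {x : H} : (x : G) ∈ pre f K ↔ f x ∈ K :=
  mem_map_iff_mem H.subtype_injective

theorem mem_im {X : Subgroup G} {x : H} (h : (x : G) ∈ X) : f x ∈ im f X := mem_map_of_mem f h

theorem im_le {X : Subgroup G} {K : Subgroup Y} (hX : X ≤ H) : im f X ≤ K ↔ X ≤ pre f K :=
  ⟨fun h x hx => (mem_pre (x := ⟨x, hX hx⟩)).2 (h (mem_im hx)), fun h => by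
    rintro _ ⟨x, hx, rfl⟩
    exact mem_pre.1 (h hx)⟩

theorem im_mono {X X' : Subgroup G} (h : X ≤ X') : im f X ≤ im f X' := map_mono (comap_mono h)

theorem im_comm {X X' : Subgroup G} (h : X ≤ H) (h' : X' ≤ H) :
    im f ⁅X, X'⁆ = ⁅im f X, im f X'⁆ := by
  rw [im, im, im, ← map_commutator]
  congr 1
  apply map_injective H.subtype_injective
  rw [map_commutator, map_subgroupOf_eq_of_le h, map_subgroupOf_eq_of_le h',
    map_subgroupOf_eq_of_le (comm_subG h h')]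

theorem im_norm {X X' : Subgroup G} (h : X ≤ 𝐍(X')) : im f X ≤ 𝐍(im f X') :=
  norms_map f (norms_comap H.subtype h)

theorem im_pre (hs : Function.Surjective f) (K : Subgroup Y) : im f (pre f K) = K := by
  rw [im, pre, subgroupOf, comap_map_eq_self_of_injective H.subtype_injective,
    map_comap_eq_self_of_surjective hs]

theorem pre_im (hk : ∀ x, f x = 1 ↔ (x : G) ∈ 𝐎(H)) {X : Subgroup G} {K : Subgroup Y}
    (h : K ≤ im f X) : pre f K ≤ X ⊓ H ⊔ 𝐎(H) := by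
  rintro _ ⟨x, hx, rfl⟩
  obtain ⟨y, hy, e⟩ := h hx
  simpa using (X ⊓ H ⊔ 𝐎(H)).mul_mem (mem_sup_left ⟨hy, y.2⟩)
    (mem_sup_right ((hk (y⁻¹ * x)).1 (by simp [e])))

theorem im_bot (hk : ∀ x, f x = 1 ↔ (x : G) ∈ 𝐎(H)) {X : Subgroup G} (hX : X ≤ H) :
    im f X = ⊥ ↔ X ≤ 𝐎(H) :=
  ⟨fun h x hx => (hk ⟨x, hX hx⟩).1 (h.le (mem_im hx)), fun h => eq_bot_iff.2 (by
    rintro _ ⟨x, hx, rfl⟩
    exact (hk x).2 (h hx))⟩

theorem im_NN : im f (NN T H) = closure (f '' (H.subtype ⁻¹' T)) := by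
  rw [im, NN_eq_map, subgroupOf, comap_map_eq_self_of_injective H.subtype_injective,
    MonoidHom.map_closure]

theorem cmp_pre (hs : Function.Surjective f) (hk : ∀ x, f x = 1 ↔ (x : G) ∈ 𝐎(H))
    (hO : 𝐎((⊤ : Subgroup Y)) = ⊥) {K : Subgroup Y} (c : Cmp (f '' (H.subtype ⁻¹' T)) ⊤ K) :
    Cmp T H (pre f K) ∧ ∀ X, X ≤ Gam H (pre f K) → im f X ≤ 𝐂(K) := by
  have hl := pre_le (f := f) K
  refine ⟨⟨(im_le (pcore_sub _ H)).1 (by rw [(im_bot hk (pcore_sub _ H)).2 le_rfl]; exact bot_le),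
    (pre_im hk (by simpa [hO, NN_top, im_NN] using c.le)).trans (sup_le_sup_right inf_le_left _),
    fun x hx => Tr.mem_normalizer_of_forall ?_,
    (pre_im hk (by simpa [hO, im_comm hl hl, im_pre hs] using c.perf)).trans
      (sup_le_sup_right inf_le_left _),
    fun h => c.ne (by rw [hO, ← im_pre hs K, (im_bot hk hl).2 h]), fun M h1 h2 => ?_⟩,
    fun X hX => ?_⟩
  · rintro _ ⟨y, hy, rfl⟩
    refine (mem_pre (f := f) (x := ⟨x, NN_le T H hx⟩ * y * ⟨x, NN_le T H hx⟩⁻¹)).2 ?_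
    rw [map_mul, map_mul, map_inv]
    exact (memJ_norm (c.nrm (by rw [NN_top, ← im_NN (f := f)]; exact mem_im hx))).2 hy
  · refine (c.qs (im f M) ((im_le (h1.trans hl)).2 h1) (im_pre hs K ▸ im_norm h2)).imp
      (fun h3 => (pre_im hk (by simpa [hO] using h3)).trans (sup_le_sup_right inf_le_left _))
      fun h3 => (im_bot hk (comm_subG (h1.trans hl) hl)).1 ?_
    rw [im_comm (h1.trans hl) hl, im_pre hs]
    simpa [hO] using h3
  · rw [← commG1P, ← im_pre hs K, ← im_comm (le_Gam.1 hX).1 hl,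
      im_bot hk (comm_subG (le_Gam.1 hX).1 hl)]
    exact (le_Gam.1 hX).2

end pull

theorem exists_quot (H : Subgroup G) : ∃ (Y : Type u) (_ : Group Y) (_ : Finite Y) (f : H →* Y),
    Function.Surjective f ∧ (∀ x, f x = 1 ↔ (x : G) ∈ 𝐎(H)) ∧ 𝐎((⊤ : Subgroup Y)) = ⊥ :=
  ⟨_, inferInstance, inferInstance, QuotientGroup.mk' (oddCore H), QuotientGroup.mk'_surjective _,
    fun x => (QuotientGroup.eq_one_iff x).trans (by rw [← mem_core_iff, core_top_eq]), core_quot⟩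

variable (h : Sce T E) (hE : E ≤ H)
include h hE

theorem Sce.gen (hG : GN.{u} n) (hn : #|H| < n) {M : Subgroup G} (h0 : 𝐎(H) ≤ M)
    (h1 : H ⊓ 𝐍(E) ≤ M) (h2 : ∀ L, Cmp T H L → L ≤ M) : H ≤ M := by
  obtain ⟨Y, _, _, f, hs, hk, hO⟩ := exists_quot H
  have h3 := ((h.subgroupOf hE).image hs).gen_top hO hG
    ((Nat.card_le_card_of_surjective f hs).trans_lt hn) (M := im f M) (fun y hy => by
      obtain ⟨x, rfl⟩ := hs y
      have h4 : E ⊔ 𝐎(H) ≤ H := sup_le hE (pcore_sub _ H)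
      obtain ⟨k, hk', h5⟩ := h.conj_eq (h.toScl.cj (x : G)) (le_sup_left (b := 𝐎(H)))
        (Tr.cj_le_iff.2 fun e he => (pre_im hk le_rfl).trans (sup_le_sup_right inf_le_left _)
          ((mem_pre (x := x * ⟨e, hE he⟩ * x⁻¹)).2 (by
            rw [map_mul, map_mul, map_inv]
            exact (memJ_norm hy).2 (mem_im (f := f) he))))
      rw [← Tr.cj_mul, Tr.cj_eq_iff] at h5
      refine mem_im ?_
      simpa using mul_mem (inv_mem (sup_le ((le_inf hE (normG E)).trans h1) h0 hk'))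
        (h1 ⟨mul_mem (h4 hk') x.2, h5⟩))
    fun K c => im_pre hs K ▸ im_mono (h2 _ (cmp_pre hs hk hO c).1)
  exact fun x hx => (pre_im hk h3).trans (sup_le inf_le_left h0)
    ((mem_pre (x := ⟨x, hx⟩)).2 (mem_top _))

theorem Sce.sol {X : Subgroup G} (h1 : X ≤ NN T H) (h2 : ∀ L, Cmp T H L → X ≤ Gam H L) :
    Group.IsSolvable X := by
  have : Fact OddOrderThm.{u} := ⟨FT.oddOrder⟩
  obtain ⟨Y, _, _, f, hs, hk, hO⟩ := exists_quot H
  have h3 := ((h.subgroupOf hE).image hs).le_two hO (X := im f X) (im_NN (f := f) ▸ im_mono h1)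
    fun K c => (cmp_pre hs hk hO c).2 X (h2 _ (cmp_pre hs hk hO c).1)
  refine solvableS ((im_le (h1.trans (NN_le T H))).1 h3) (solvable_map _ ?_)
  have := pgroup_sol (Fit.isPGroup_pCore 2 Y)
  have : Group.IsSolvable f.ker := odd_sol ((odd_core H).of_dvd_nat (by
    rw [show f.ker = 𝐎(H).subgroupOf H from Subgroup.ext hk]
    exact (Nat.card_congr (subgroupOfEquivOfLe (pcore_sub _ H)).toEquiv).dvd))
  exact Group.isSolvable_of_ker_le_range (inclusion (ker_le_comap f _)) (f.subgroupComap _)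
    fun x hx => ⟨⟨x, congrArg Subtype.val hx⟩, rfl⟩

theorem Sce.faith {a : G} (ha : a ∈ E) {X : Subgroup G} (h1 : X ≤ 𝐎(H ⊓ 𝐂[a]))
    (h2 : ∀ L, Cmp T H L → X ≤ Gam H L) : X ≤ 𝐎(H) := by
  obtain ⟨Y, _, _, f, hs, hk, hO⟩ := exists_quot H
  have hl : 𝐎(H ⊓ 𝐂[a]) ≤ H := (pcore_sub _ _).trans inf_le_left
  refine (im_bot hk (h1.trans hl)).1 (((h.subgroupOf hE).image hs).faith_top hO
    (a := f ⟨a, hE ha⟩) ⟨_, h.sub a ha, rfl⟩ ((im_mono h1).trans (le_core ?_ ⟨?_, ?_⟩))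
    fun K c => (cmp_pre hs hk hO c).2 X (h2 _ (cmp_pre hs hk hO c).1))
  · exact (odd_core _).of_dvd_nat ((card_map_dvd _ _).trans
      (Nat.card_congr (subgroupOfEquivOfLe hl).toEquiv).dvd)
  · rintro _ ⟨x, hx, rfl⟩
    refine mem_cent1.2 ?_
    rw [← map_mul, ← map_mul]
    exact congrArg f (Subtype.ext (mem_cent1.1 (pcore_sub _ _ hx).2))
  · refine le_trans ?_ (im_norm (pcore_norm _ (H ⊓ 𝐂[a])))
    have hn := (pre_le (f := f) 𝐂[f ⟨a, hE ha⟩]).trans (pcore_norm {2}ᶜ H)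
    have h3 := cover (odd_core H) (h.el2 ha) (K := pre f 𝐂[f ⟨a, hE ha⟩])
      ((im_le (pcore_sub _ H)).1 (by rw [(im_bot hk (pcore_sub _ H)).2 le_rfl]; exact bot_le)) hn
      ((cycle_subG.2 (hE ha)).trans (pcore_norm _ H)) (by
        rw [commGC]
        refine comm_le_of_le_cmod (cycle_subG.2 ⟨pcore_norm _ H (hE ha), ?_⟩)
        rintro _ ⟨y, hy, rfl⟩
        refine (hk (⟨a, hE ha⟩ * y * ⟨a, hE ha⟩⁻¹ * y⁻¹)).1 ?_
        rw [map_mul, map_mul, map_mul, map_inv, map_inv, ← mem_cent1.1 hy]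
        group)
    rw [← im_pre hs 𝐂[f ⟨a, hE ha⟩], im_le (pre_le _)]
    refine h3.trans (sup_le ((im_le (pcore_sub _ H)).1 ?_) ((im_le (inf_le_left.trans (pre_le _))).1
      (im_mono (inf_le_inf (pre_le _) fun y hy => mem_cent1.2 (mem_cent.1 hy a (mem_zpowers a)).symm))))
    rw [(im_bot hk (pcore_sub _ H)).2 le_rfl]
    exact bot_le

end Cfsg.Agent.GO
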