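import Cfsg.Agent.Lib.GO.Loc
import Cfsg.Agent.Lib.SC.QZ
import Cfsg.Agent.Lib.Transfer.Alperin

/-! The normalizer of a strongly closed elementary abelian subgroup controls fusion. -/

set_option autoImplicit false
set_option linter.unusedSectionVars false
set_option linter.unusedVariables false

namespace Cfsg.Agent.GO

open Subgroup Cfsg.Agent.FT Cfsg.Agent.SF Cfsg.Agent.SF.GP Cfsg.Agent.SC
open Cfsg.Agent.Tr (SylowIn)

variable {G : Type*} [Group G] [Finite G] {T : Set G} {E P Q K M : Subgroup G}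

theorem le_of_sq (hP : SylowIn 2 P K) (h1 : P ≤ M) (h2 : M ≤ K) (h : ∀ x ∈ K, x * x ∈ M) :
    K ≤ M := fun x hx => by
  by_contra hne
  have hn : x ∈ 𝐍(M) := Tr.mem_normalizer_of_forall fun m hm => by
    have := mul_mem (mul_mem (h _ (mul_mem hx (h2 hm))) (inv_mem hm)) (inv_mem (h x hx))
    rwa [show x * m * (x * m) * m⁻¹ * (x * x)⁻¹ = x * m * x⁻¹ by group] at this
  have h3 : M ⊔ zpowers x ≤ K := sup_le h2 (cycle_subG.2 hx)
  exact (hP.mono (h1.trans le_sup_left) h3).not_dvd_relIndex_of_le h1 le_sup_left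
    (relIndex_sup2 hn (h x hx) hne).symm.dvd

theorem Sce.le_ess (h : Sce T E) (hP : IsPGroup 2 P) (hE : E ≤ P) (q : Tr.IsEssential 2 P Q) :
    E ≤ Q := by
  have hQ := pgroup_sub q.le hP
  have hB : ∀ {a}, a ∈ NN T Q ↔ a ∈ E ∧ a ∈ Q := fun {a} => (h.fam.mem_NN_iff hQ).trans
    ⟨fun e => ⟨h.max P hP hE a e.1 (q.le e.2), e.2⟩, fun e => ⟨h.sub a e.1, e.2⟩⟩
  obtain ⟨R, hR⟩ : ∃ R, R = 𝐍(Q) ⊓ (𝐂(NN T Q) ⊓ cmod (NN T Q) Q) := ⟨_, rfl⟩
  have h1 : ∀ {y}, y ∈ R ↔ y ∈ 𝐍(Q) ∧ y ∈ 𝐂(NN T Q) ∧ ∀ t ∈ Q, y * t * y⁻¹ * t⁻¹ ∈ NN T Q :=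
    fun {y} => hR ▸ ⟨fun e => ⟨e.1, e.2.1, e.2.2.2⟩, fun e => ⟨e.1, e.2.1, cent_sub _ e.2.1, e.2.2⟩⟩
  have h2 : 𝐍(Q) ≤ 𝐍(R) := fun n hn => Tr.mem_normalizer_of_forall fun y hy => by
    obtain ⟨h3, h4, h5⟩ := h1.1 hy
    have h6 := h.fam.norm_NN Q hn
    refine h1.2 ⟨mul_mem (mul_mem hn h3) (inv_mem hn), (memJ_norm (cent_norm _ h6)).2 h4, fun t ht => ?_⟩
    simpa [mul_assoc] using (memJ_norm h6).2 (h5 _ ((memJ_norm' hn).2 ht))
  have h3 : 𝐂(Q) ≤ R := fun y hy => h1.2 ⟨cent_sub Q hy, centS (NN_le T Q) hy, fun t ht => by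
    rw [← mem_cent.1 hy t ht]; simp⟩
  have h4 : R ≤ 𝐍(Q) := hR ▸ inf_le_left
  have h5 := q.sylow.inf_of_le_normalizer h4 (inf_le_left.trans h2)
  have h6 : R ≤ 𝐍(Q) ⊓ P ⊓ R ⊔ 𝐂(Q) := le_of_sq h5 le_sup_left (sup_le inf_le_right h3)
    fun y hy => mem_sup_right (mem_cent.2 fun t ht => by
      obtain ⟨-, h7, h8⟩ := h1.1 hy
      have h9 := mem_cent.1 h7 _ (h8 t ht)
      have h10 := h.ee (hB.1 (h8 t ht)).1
      calc t * (y * y) = (y * t * y⁻¹ * t⁻¹) * (y * t * y⁻¹ * t⁻¹) * (t * (y * y)) := by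
            rw [h10, one_mul]
        _ = (y * t * y⁻¹ * t⁻¹) * y * (t * y) := by group
        _ = y * y * t := by rw [h9]; group)
  have h7 := q.radical (R := Q ⊔ 𝐍(Q) ⊓ P ⊓ R) le_sup_left (sup_le (le_inf (normG Q) q.le)
    inf_le_left) (by
      rw [sup_assoc, le_antisymm (sup_le inf_le_right h3) h6]
      exact normsY le_rfl h2)
  by_contra hne
  obtain ⟨y, hy, hn, h8⟩ := Tr.exists_mem_normalizer_not_mem (pgroup_sub (sup_le q.le hE) hP)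
    (left_lt_sup.2 hne)
  obtain ⟨a, ha, e, he, rfl⟩ := (mem_join_norm' (q.le.trans (h.le_norm hP hE))).1 hy
  have h9 : e ∈ 𝐍(Q) := by simpa using mul_mem (inv_mem (normG Q ha)) hn
  refine h8 (mul_mem ha (h7.le (mem_sup_right ⟨⟨h9, hE he⟩, h1.2 ⟨h9, mem_cent.2 fun b hb =>
    h.comm (hB.1 hb).1 he, fun t ht => hB.2 ⟨?_, mul_mem ((memJ_norm h9).2 ht) (inv_mem ht)⟩⟩⟩)))
  simpa [mul_assoc] using mul_mem he ((memJ_norm (h.le_norm hP hE (q.le ht))).2 (inv_mem he))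

theorem Sce.fusion (h : Sce T E) (hP : SylowIn 2 P ⊤) (hE : E ≤ P) {x g : G} (hx : x ∈ P)
    (hg : g * x * g⁻¹ ∈ P) : ∃ n ∈ 𝐍(E), n * x * n⁻¹ = g * x * g⁻¹ := by
  obtain ⟨n, hn, e⟩ := Tr.alperin_control hP 𝐍(E)
    (fun n hn => ⟨n, h.norm_le hP.isPGroup hE hn, fun _ _ => rfl⟩)
    (fun Q q n hn => ⟨n, h.norm_le (pgroup_sub q.le hP.isPGroup) (h.le_ess hP.isPGroup hE q) hn,
      fun _ _ => rfl⟩) (cycle_subG.2 hx) (g := g) (by rwa [Tr.cj_zpowers, cycle_subG])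
  exact ⟨n, hn, e x (mem_zpowers x)⟩

theorem Sce.no_index_two (h : Sce T E) (hG : ⁅(⊤ : Subgroup G), (⊤ : Subgroup G)⁆ = ⊤)
    (hK : ∀ n ∈ 𝐍(E), ∀ n' ∈ 𝐍(E), n ∉ K → n' ∉ K → n * n' ∈ K) : 𝐍(E) ≤ K := by
  obtain ⟨P, hP, hE⟩ := Tr.exists_sylowIn_ge h.two le_top
  have hn := h.le_norm hP.isPGroup hE
  have h1 : P ≤ K := by
    have := hP.commutator_inf_le_of_fusion (K := K) fun x hx g _ hg => by
      obtain ⟨n, h2, e⟩ := h.fusion hP hE hx hg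
      rw [← e, show n * x * n⁻¹ * x⁻¹ = n * x * (x * n)⁻¹ by group]
      have h3 := hn hx
      by_cases h4 : n * x ∈ K
      · refine mul_mem h4 (inv_mem (by_contra fun h5 => ?_))
        by_cases h6 : n ∈ K
        · exact h5 (mul_mem (by simpa using mul_mem (inv_mem h6) h4) h6)
        · exact h5 (hK x h3 n h2 (fun h7 => h6 (by simpa using mul_mem h4 (inv_mem h7))) h6)
      · refine hK _ (mul_mem h2 h3) _ (inv_mem (mul_mem h3 h2)) h4 fun h5 => ?_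
        rw [inv_mem_iff] at h5
        by_cases h6 : n ∈ K
        · exact h4 (mul_mem h6 (by simpa using mul_mem h5 (inv_mem h6)))
        · exact h4 (hK n h2 x h3 h6 fun h7 => h6 (by simpa using mul_mem (inv_mem h7) h5))
    rwa [hG, top_inf_eq] at this
  refine (le_of_sq (hP.mono hn le_top) (le_inf h1 hn) inf_le_right fun x hx =>
    ⟨?_, mul_mem hx hx⟩).trans inf_le_left
  by_cases h2 : x ∈ K
  exacts [mul_mem h2 h2, hK x hx x hx h2 h2]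

end Cfsg.Agent.GO
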