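import Cfsg.Agent.Lib.SC.Bas2
import Cfsg.Agent.Lib.SC.Red1
import Cfsg.Agent.Lib.Transfer.FStar

/-! Goldschmidt's theorem on strongly closed abelian 2-subgroups (`docs/GO_PLAN.md`): definitions
and first facts. -/

set_option autoImplicit false
set_option linter.unusedSectionVars false
set_option linter.unusedVariables false

namespace Cfsg.Agent.GO

open Subgroup Cfsg.Agent.FT Cfsg.Agent.SF Cfsg.Agent.SF.GP Cfsg.Agent.SC
open Cfsg.Agent.Tr (SylowIn)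

universe u

variable {G : Type*} [Group G]

/-- a strongly closed elementary abelian 2-subgroup with its family -/
structure Sce (T : Set G) (E : Subgroup G) : Prop extends Scl T E where
  sq : ∀ t ∈ T, t * t = 1

/-- `N_H(E)` is transitive on `E#` -/
def Trs (H E : Subgroup G) : Prop :=
  ∀ a ∈ E, a ≠ 1 → ∀ b ∈ E, b ≠ 1 → ∃ n ∈ H, n ∈ 𝐍(E) ∧ n * a * n⁻¹ = b

/-- the theorem for simple groups of order less than `n` -/
def GN (n : ℕ) : Prop :=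
  ∀ (G : Type u) [Group G] [Finite G] [IsSimpleGroup G] (T : Set G) (E : Subgroup G),
    Nat.card G < n → Sce T E → E ≠ ⊥ →
      (SC.Mx E ⊤ ∧ Trs ⊤ E) ∨ ∃ H : Subgroup G, IsStronglyEmbedded H

/-- a 2-element -/
abbrev El2 (x : G) : Prop := IsPGroup 2 (zpowers x)

/-- the properties of a simple normal subgroup `L` with trivial centralizer -/
structure Gd (L E : Subgroup G) : Prop where
  le : E ≤ L
  four : 4 ≤ #|E|
  tr : Trs L E
  cent : ∀ x ∈ L, x ∈ 𝐍(E) → El2 x → x ∈ 𝐂(E)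
  sq : ∀ x ∈ L, x ∈ 𝐍(E) → El2 x → x * x ∈ E
  inv : ∀ x ∈ L, x ∈ 𝐍(E) → x * x = 1 → x ∈ E
  zen : ∀ Q, SylowIn 2 Q L → E ≤ Q → ∀ x ∈ Q, x ∈ 𝐂(Q) → x * x = 1
  inner : ∀ Q, SylowIn 2 Q L → E ≤ Q → ∀ x, El2 x → x ∈ 𝐂(E) →
    (∀ y ∈ Q, x * y * x⁻¹ * y⁻¹ ∈ E) → x ∈ L

theorem el2_conj {x : G} (h : El2 x) (g : G) : El2 (g * x * g⁻¹) := by
  unfold El2
  rw [← Tr.cj_zpowers]
  exact Tr.isPGroup_cj g h

theorem map_cj {G' : Type*} [Group G'] (f : G →* G') (g : G) (A : Subgroup G) :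
    (cj g A).map f = cj (f g) (A.map f) := by
  rw [Tr.cj, Tr.cj, map_map, map_map]
  congr 1
  ext x
  simp

theorem Gd.cj {L E : Subgroup G} [hL : L.Normal] {g : G} (h : Gd L (cj g E)) : Gd L E := by
  have hn : ∀ {x}, x ∈ 𝐍(E) → g * x * g⁻¹ ∈ 𝐍(Tr.cj g E) := fun hx => by
    rw [normJ]; exact Tr.conj_mem_cj.2 hx
  have hs : ∀ {Q}, SylowIn 2 Q L → SylowIn 2 (Tr.cj g Q) L := fun hQ =>
    hQ.cj_of_mem_normalizer (norms_of_normal ⊤ (mem_top g))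
  refine ⟨Tr.cj_le_cj.1 (by rw [Tr.cj_normal g L]; exact h.le), Tr.card_cj g E ▸ h.four, ?_,
    fun x hx hx' h2 => ?_, fun x hx hx' h2 => ?_, fun x hx hx' h2 => ?_,
    fun Q hQ hE x hx hc => ?_, fun Q hQ hE x h2 hc hy => ?_⟩
  · intro a ha a1 b hb b1
    obtain ⟨n, hn1, hn2, e⟩ := h.tr _ (Tr.conj_mem_cj.2 ha) (by simpa using a1) _
      (Tr.conj_mem_cj.2 hb) (by simpa using b1)
    refine ⟨g⁻¹ * n * g, hL.conj_mem' n hn1 g, Tr.mem_cj.1 (normJ g E ▸ hn2), ?_⟩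
    calc _ = g⁻¹ * (n * (g * a * g⁻¹) * n⁻¹) * g := by group
      _ = b := by rw [e]; group
  · have := h.cent _ (hL.conj_mem x hx g) (hn hx') (el2_conj h2 g)
    rwa [centJ, Tr.conj_mem_cj] at this
  · have := h.sq _ (hL.conj_mem x hx g) (hn hx') (el2_conj h2 g)
    rwa [show g * x * g⁻¹ * (g * x * g⁻¹) = g * (x * x) * g⁻¹ by group, Tr.conj_mem_cj] at this
  · exact Tr.conj_mem_cj.1 (h.inv _ (hL.conj_mem x hx g) (hn hx') (Tr.conj_mul_self h2 g))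
  · have := h.zen _ (hs hQ) (Tr.cj_mono g hE) _ (Tr.conj_mem_cj.2 hx)
      (by rw [centJ]; exact Tr.conj_mem_cj.2 hc)
    rwa [show g * x * g⁻¹ * (g * x * g⁻¹) = g * (x * x) * g⁻¹ by group, conj_eq_one_iff] at this
  · have := h.inner _ (hs hQ) (Tr.cj_mono g hE) _ (el2_conj h2 g)
      (by rw [centJ]; exact Tr.conj_mem_cj.2 hc) (by
        intro y hy'
        obtain ⟨a, ha, rfl⟩ := Tr.mem_cj'.1 hy'
        rw [show g * x * g⁻¹ * (g * a * g⁻¹) * (g * x * g⁻¹)⁻¹ * (g * a * g⁻¹)⁻¹ =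
          g * (x * a * x⁻¹ * a⁻¹) * g⁻¹ by group]
        exact Tr.conj_mem_cj.2 (hy a ha))
    simpa [mul_assoc] using hL.conj_mem' _ this g

variable [Finite G]

namespace Sce

variable {T : Set G} {E : Subgroup G} (h : Sce T E)
include h

theorem ee {e : G} (he : e ∈ E) : e * e = 1 := h.sq e (h.sub e he)

theorem inv {e : G} (he : e ∈ E) : e⁻¹ = e := Tr.inv_eq_of_mul_self (h.ee he)

theorem comm {a b : G} (ha : a ∈ E) (hb : b ∈ E) : a * b = b * a := by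
  rw [← h.inv (mul_mem ha hb), mul_inv_rev, h.inv ha, h.inv hb]

theorem cent : E ≤ 𝐂(E) := centsP.2 fun _ ha _ hb => h.comm ha hb

theorem cent1 {e : G} (he : e ∈ E) : E ≤ 𝐂[e] := h.cent.trans (cent_le_cent1 he)

theorem cents {F : Subgroup G} (hF : F ≤ E) : E ≤ 𝐂(F) := h.cent.trans (centS hF)

theorem order {e : G} (he : e ∈ E) (h1 : e ≠ 1) : orderOf e = 2 := Tr.orderOf_eq_two (h.ee he) h1

theorem el2 {e : G} (he : e ∈ E) : El2 e := pgroup_mem h.two he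

theorem elem : IsElementaryAbelian 2 E :=
  ⟨abelianE.2 h.cent, fun x hx => by rw [pow_two, h.ee hx]⟩

theorem cj (g : G) : Sce T (cj g E) := ⟨h.toScl.cj g, h.sq⟩

theorem subgroupOf {H : Subgroup G} (hE : E ≤ H) : Sce (H.subtype ⁻¹' T) (E.subgroupOf H) :=
  ⟨h.toScl.subgroupOf hE, fun t ht => Subtype.ext (h.sq _ ht)⟩

theorem image {G' : Type*} [Group G'] [Finite G'] {f : G →* G'} (hf : Function.Surjective f) :
    Sce (f '' T) (E.map f) :=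
  ⟨h.toScl.image hf, by
    rintro _ ⟨t, ht, rfl⟩
    rw [← map_mul, h.sq t ht, map_one]⟩

theorem inter (L : Subgroup G) [hL : L.Normal] : Sce (T ∩ L) (E ⊓ L) where
  fam := Red.fam_inter h.fam
  two := pgroup_sub inf_le_left h.two
  sub z hz := ⟨h.sub z hz.1, hz.2⟩
  sq t ht := h.sq t ht.1
  max P hP hE t ht htP := by
    have hP' : IsPGroup 2 ↥(P ⊓ L) := pgroup_sub inf_le_left hP
    obtain ⟨S, hS, hES⟩ := Tr.exists_sylowIn_ge h.two le_top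
    obtain ⟨c, -, hc⟩ := hS.exists_cj_le hP' le_top
    have h1 : Tr.cj c (NN T (P ⊓ L)) ≤ E ⊓ L := Tr.cj_le_iff.2 fun a ha => by
      obtain ⟨h2, h3⟩ := (h.fam.mem_NN_iff hP').1 ha
      exact ⟨h.max S hS.isPGroup hES _ (h.fam.conj a h2 c) (hc (Tr.conj_mem_cj.2 h3)),
        hL.conj_mem a h3.2 c⟩
    have h2 : E ⊓ L ≤ NN T (P ⊓ L) :=
      SF.GP.le_NN (fun e he => h.sub e he.1) (le_inf hE inf_le_right)
    rw [eq_of_le_of_card_ge h2 (by rw [← Tr.card_cj c]; exact card_le_of_le h1)]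
    exact mem_NN ht.1 ⟨htP, ht.2⟩

end Sce

/-- Burnside's fusion lemma -/
theorem burnside {P M : Subgroup G} (hP : SylowIn 2 P M) (hab : P ≤ 𝐂(P)) {a g : G} (ha : a ∈ P)
    (hg : g ∈ M) (h : g * a * g⁻¹ ∈ P) : ∃ n ∈ M, n ∈ 𝐍(P) ∧ n * a * n⁻¹ = g * a * g⁻¹ := by
  have h1 : SylowIn 2 P (M ⊓ 𝐂[g * a * g⁻¹]) :=
    hP.mono (le_inf hP.le (hab.trans (cent_le_cent1 h))) inf_le_left
  obtain ⟨c, hc, e⟩ := h1.exists_cj_eq ((hP.cj_of_mem hg).mono (le_inf (hP.cj_of_mem hg).le (by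
    rw [cent1J]; exact Tr.cj_mono g (hab.trans (cent_le_cent1 ha)))) inf_le_left)
  refine ⟨c * g, mul_mem hc.1 hg, Tr.cj_eq_iff.1 (by rw [Tr.cj_mul, e]), ?_⟩
  calc _ = c * (g * a * g⁻¹) * c⁻¹ := by group
    _ = _ := cent1_conj.1 hc.2

/-- the `Z*`-theorem for isolated subgroups -/
theorem iso_cent {P M A : Subgroup G} (hP : SylowIn 2 P M) (hO : 𝐎(M) = ⊥) (hA : A ≤ P)
    (h : ∀ a ∈ A, ∀ g ∈ M, g * a * g⁻¹ ∈ P → g * a * g⁻¹ = a) : A ≤ 𝐂(M) := by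
  have h1 := Tr.le_center_of_isolated (p'core_eq_bot_iff_pPrimeCore.1 hO) hP.toSylow
    (A := A.subgroupOf M) (fun a ha => by rw [hP.coe_toSylow]; exact hA ha)
    (fun a ha g hg => Subtype.ext (h a ha g g.2 (by rw [hP.coe_toSylow] at hg; exact hg)))
  exact fun a ha => mem_cent.2 fun m hm => congrArg Subtype.val
    (mem_center_iff.1 (h1 (show (⟨a, hP.le (hA ha)⟩ : M) ∈ _ from ha)) ⟨m, hm⟩)

/-- an odd order complement in the normalizer of a Sylow subgroup -/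
theorem exists_compl {P M : Subgroup G} (hP : SylowIn 2 P M) :
    ∃ K, Odd #|K| ∧ K ≤ M ⊓ 𝐍(P) ∧ ∀ n ∈ M ⊓ 𝐍(P), ∃ p ∈ P, ∃ k ∈ K, p * k = n := by
  have h1 : SylowIn 2 P (M ⊓ 𝐍(P)) := hP.mono (le_inf hP.le (normG P)) inf_le_left
  obtain ⟨K, hK⟩ := SchurZassenhaus_split (Sylow_Hall (sylowIn_iff.1 h1)) inf_le_right
  refine ⟨K, ?_, hK.right_le, fun n hn => hK.exists hn⟩
  rw [← Nat.not_even_iff_odd, even_iff_two_dvd, ← hK.index_left]
  exact h1.not_dvd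

end Cfsg.Agent.GO
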