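import Cfsg.Agent.Lib.GO.LinB
import Cfsg.Agent.Lib.SF.ThmA

/-! The TI case, step C: `E` is a Sylow subgroup. -/

set_option autoImplicit false
set_option linter.unusedSectionVars false
set_option linter.unusedVariables false

namespace Cfsg.Agent.GO

open Subgroup Cfsg.Agent.FT Cfsg.Agent.SF Cfsg.Agent.SF.GP Cfsg.Agent.SC
open Cfsg.Agent.Tr (SylowIn)

universe u

variable {G : Type u} [Group G] [Finite G] {T : Set G} {E S : Subgroup G} {c c' t w : G}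
  {Φ : Set (Subgroup G)}

theorem norm_cmod {B V : Subgroup G} : 𝐍(B) ⊓ 𝐍(V) ≤ 𝐍(GP.cmod B V) := fun n hn =>
  Tr.mem_normalizer_of_forall fun g hg => ⟨mul_mem (mul_mem hn.1 hg.1) (inv_mem hn.1), fun v hv => by
    simpa [mul_assoc] using (memJ_norm hn.1).2 (hg.2 _ ((memJ_norm' hn.2).2 hv))⟩

/-- the centralizer of the component of `C(c)` -/
abbrev Gc (E : Subgroup G) (c : G) : Subgroup G := Gb E c (zpowers c)

theorem Gc_cj {n : G} (hn : n ∈ 𝐍(E)) (c : G) : Gc E (n * c * n⁻¹) = cj n (Gc E c) := by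
  rw [Gc, ← Tr.cj_zpowers, Gb_cj hn]

theorem mem_Gc_all {n g : G} (hn : n ∈ 𝐍(E)) {P : Subgroup G → Subgroup G}
    (hP : ∀ X, P (cj n X) = cj n (P X)) (h : ∀ c ∈ E, c ≠ 1 → g ∈ P (Gc E c)) (hc : c ∈ E)
    (h1 : c ≠ 1) : n * g * n⁻¹ ∈ P (Gc E c) := by
  have := Tr.conj_mem_cj (g := n).2 (h (n⁻¹ * c * n⁻¹⁻¹) ((memJ_norm (inv_mem hn)).2 hc)
    (mt conj_eq_one_iff.1 h1))
  rwa [← hP, ← Gc_cj hn, show n * (n⁻¹ * c * n⁻¹⁻¹) * n⁻¹ = c by group] at this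

namespace Fa

variable (x : Fa T E Φ) (hG : ⁅(⊤ : Subgroup G), (⊤ : Subgroup G)⁆ = ⊤)
include x hG

theorem lc (hc : c ∈ E) (h1 : c ≠ 1) : Loc T E c (zpowers c) :=
  (x.mi _ (x.zp hG hc h1)).loc x.toCtx (mem_zpowers c) h1

theorem eq_of_zp (hc : c ∈ E) (h1 : c ≠ 1) (h : t ∈ zpowers c) (h2 : t ≠ 1) : t = c :=
  x.b4 hG (x.zp hG hc h1) h (mem_zpowers c) h2 h1

theorem exists_third (hc : c ∈ E) (h1 : c ≠ 1) : ∃ c' ∈ E, c' ≠ 1 ∧ c' ≠ c := by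
  obtain ⟨a, ha, h2, -⟩ := exists_two ((x.lc hG hc h1).four x.toCtx) hc
  exact ⟨a, ha, fun e => h2 (e ▸ one_mem _), fun e => h2 (e ▸ mem_zpowers c)⟩

variable (hS : SylowIn 2 S ⊤) (hE : E ≤ S)
include hS hE

theorem S_cent : S ≤ 𝐂(E) := x.b5 hG hS.isPGroup hE

theorem S_le (hc : c ∈ E) : S ≤ 𝐂(zpowers c) := (x.S_cent hG hS hE).trans (centS (cycle_subG.2 hc))

theorem S_norm (hc : c ∈ E) (h1 : c ≠ 1) : S ≤ 𝐍(Gc E c) :=
  (le_inf ((x.S_le hG hS hE hc).trans (cent_cycle c).le) ((x.S_le hG hS hE hc).trans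
    ((x.lc hG hc h1).cent_normL x.toCtx))).trans (norm_Gam' _ _)

theorem comm_one {g y : G} (hg : g ∈ Gc E c) (hy : y ∈ LL E c (zpowers c))
    (h : g * y * g⁻¹ * y⁻¹ ∈ S) : y ∈ 𝐂[g] :=
  c1.1 (eq_one_of_odd (odd_core _) hS.isPGroup ((mem_Gam.1 hg).2 y hy) h)

theorem moves' (hc : c ∈ E) (h1 : c ≠ 1) {e : G} (he : e ∈ E) (h : e ∉ zpowers c) :
    ∃ a ∈ YY E (zpowers c) ⊓ 𝐍(S), a * e * a⁻¹ * e ∉ zpowers c := by
  have l := x.lc hG hc h1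
  obtain ⟨a, ha, h2⟩ := l.moves x.toCtx he h
  have h3 := x.S_cent hG hS hE
  obtain ⟨w, hw, h4⟩ := (hS.mono (le_inf (le_sup_left (b := YY E (zpowers c))) h3) le_top).exists_cj_eq
    ((hS.cj_of_mem (mem_top a)).mono (le_inf (Tr.cj_le_of_mem le_sup_left (mem_sup_right ha.1))
      ((Tr.cj_mono a h3).trans (Tr.cj_eq_iff.2 (cent_norm E ha.2)).le)) le_top)
  obtain ⟨s, hs, y, hy, rfl⟩ := (mem_join_norm' ((x.S_le hG hS hE hc).trans (norm_YY _ _))).1 hw.1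
  rw [← Tr.cj_mul, Tr.cj_eq_iff, mul_assoc, mul_mem_cancel_left (normG S hs)] at h4
  refine ⟨y * a, ⟨mul_mem hy ha.1, h4⟩, ?_⟩
  rwa [show y * a * e * (y * a)⁻¹ = y * (a * e * a⁻¹) * y⁻¹ by group, cent1_conj.1 (cent_le_cent1
    ((memJ_norm ha.2).2 he) ((mul_mem_cancel_left (h3 hs)).1 hw.2))]

variable [IsSimpleGroup G] (h74 : S1174Stmt.{u})
include h74

theorem c0 (hw : w ∈ S) (h : ∀ c ∈ E, c ≠ 1 → w ∈ Gc E c) : w = 1 := by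
  obtain ⟨S, rfl⟩ := hS.exists_sylow
  have h3 := x.S_cent hG hS hE
  have hm : ∀ {g}, g ∈ (S : Subgroup G) ⊓ ⨅ c : {c // c ∈ E ∧ c ≠ 1}, Gc E c.1 ↔
      g ∈ (S : Subgroup G) ∧ ∀ c ∈ E, c ≠ 1 → g ∈ Gc E c := fun {g} => by
    simp [mem_iInf]
  obtain ⟨F, hF⟩ := x.ne
  obtain ⟨b, l⟩ := x.loc hF
  have h1 := thmA_of FT.oddOrder sft BS.bsc G S _ E ⟨inf_le_left, fun g hg k hk => by
    obtain ⟨n, -, hn, e⟩ := x.control1 le_top (mem_top k) (h3 hg.1) (h3 hk)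
    exact hm.2 ⟨hk, fun c hc c1 => e ▸ mem_Gc_all hn (P := id) (fun _ => rfl) (hm.1 hg).2 hc c1⟩⟩
    (x.sc S.isPGroup' hE) (inf_le_left.trans h3) (eq_bot_iff.2 fun e he => by_contra fun e1 => by
      obtain ⟨c, hc, c1, h2⟩ := x.exists_third hG he.2 e1
      exact h2 (x.eq_of_zp hG hc c1 ((x.lc hG hc c1).mem_F he.2 ((hm.1 he.1).2 c hc c1)) e1).symm)
    (Or.inr h74)
  have h2 : oddCore G = ⊥ := (IsSimpleGroup.eq_bot_or_eq_top_of_normal _ inferInstance).resolve_right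
    fun e => l.ne (eq_one_of_odd odd_oddCore x.two (e.ge (mem_top b)) l.mem)
  rw [h2, (IsSimpleGroup.eq_bot_or_eq_top_of_normal (normalClosure (E : Set G))
    inferInstance).resolve_left fun e => l.ne (e.le (subset_normalClosure l.mem))] at h1
  refine (IsSimpleGroup.eq_bot_or_eq_top_of_normal _ normalClosure_normal).elim
    (fun e => e.le (subset_normalClosure (hm.2 ⟨hw, h⟩))) fun e => ?_
  rw [e, hG] at h1
  exact h1 (mem_top w)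

theorem c1' (hw : w ∈ S) (h1 : ∀ s ∈ S, w * s * w⁻¹ * s⁻¹ ∈ E)
    (h : ∀ c ∈ E, c ≠ 1 → w ∈ E ⊔ Gc E c) : w ∈ E := by
  obtain ⟨W, hW⟩ : ∃ W, W = S ⊓ GP.cmod E S ⊓ ⨅ c : {c // c ∈ E ∧ c ≠ 1}, E ⊔ Gc E c.1 := ⟨_, rfl⟩
  have hm : ∀ {g}, g ∈ W ↔ (g ∈ S ∧ g ∈ GP.cmod E S) ∧ ∀ c ∈ E, c ≠ 1 → g ∈ E ⊔ Gc E c := fun {g} => by
    simp [hW, mem_iInf]
  have hn := x.norm_le hS.isPGroup hE
  have hC := x.S_cent hG hS hE
  have h2 : 𝐍(S) ≤ 𝐍(W) := fun n h => Tr.mem_normalizer_of_forall fun g hg =>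
    hm.2 ⟨⟨(memJ_norm h).2 (hm.1 hg).1.1, (memJ_norm (norm_cmod ⟨hn h, h⟩)).2 (hm.1 hg).1.2⟩,
      fun c hc c1 => mem_Gc_all (hn h) (P := fun X => E ⊔ X)
        (fun X => by rw [Tr.cj_sup, Tr.cj_eq_iff.2 (hn h)]) (hm.1 hg).2 hc c1⟩
  have hdec : ∀ g ∈ W, ∀ c ∈ E, c ≠ 1 → ∃ e ∈ E, ∃ γ ∈ Gc E c, γ ∈ S ∧ e * γ = g := fun g hg c hc c1 => by
    obtain ⟨e, he, γ, h3, rfl⟩ := (mem_join_norm' (hE.trans (x.S_norm hG hS hE hc c1))).1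
      ((hm.1 hg).2 c hc c1)
    exact ⟨e, he, γ, h3, (mul_mem_cancel_left (hE he)).1 (hm.1 hg).1.1, rfl⟩
  obtain ⟨K, h3, h4, h5⟩ := exists_compl hS
  have h6 : IsPGroup 2 W := pgroup_sub (fun g hg => (hm.1 hg).1.1) hS.isPGroup
  refine (coprime_cent_prod (A := K ⊓ GP.cmod E W) (inf_le_left.trans (h4.trans (inf_le_right.trans h2)))
    (cop2 (odd_of_le inf_le_left h3) h6).symm (Or.inr (pgroup_sol h6))).sup.ge.trans
    (sup_le ((commGC _ _).le.trans (comm_le_of_le_cmod inf_le_right)) fun g hg => ?_)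
    (hm.2 ⟨⟨hw, cent_sub E (hC hw), h1⟩, h⟩)
  rw [x.c0 hG hS hE h74 (hm.1 hg.1).1.1 fun c hc c1 => ?_]
  · exact one_mem _
  obtain ⟨e, he, γ, h7, h8, rfl⟩ := hdec g hg.1 c hc c1
  have l := x.lc hG hc c1
  refine mul_mem (l.le_Gb (by_contra fun h9 => ?_)) h7
  obtain ⟨a, ha, h10⟩ := x.moves' hG hS hE hc c1 he h9
  have h11 : ∀ γ ∈ Gc E c, γ ∈ S → γ * a = a * γ := fun γ h1 h2 => (mem_cent1.1 (x.comm_one hG hS hE h1
    (mem_sup_left ha.1) (by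
      simpa only [mul_assoc] using mul_mem h2 ((memJ_norm ha.2).2 (inv_mem h2))))).symm
  obtain ⟨s, hs, k, hk, rfl⟩ := h5 a ⟨mem_top a, ha.2⟩
  have h12 : k ∈ GP.cmod E W := (mul_mem_cancel_left (H := GP.cmod E W) (mem_cmod.2 ⟨cent_sub E (hC hs),
    fun g hg => comm_mem_symm ((hm.1 hg).1.2.2 s hs)⟩)).1 <| mem_cmod.2 ⟨hn ha.2, fun g hg => by
      obtain ⟨e, he, γ, h7, h8, rfl⟩ := hdec g hg c hc c1
      rw [show s * k * (e * γ) * (s * k)⁻¹ * (e * γ)⁻¹ = s * k * e * (γ * (s * k)⁻¹ * γ⁻¹) * e⁻¹ by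
        group, cent1_conj.1 (mem_cent1.2 (Commute.inv_right (h11 γ h7 h8)).eq)]
      exact mul_mem ((memJ_norm (hn ha.2)).2 he) (inv_mem he)⟩
  refine h10 (l.mem_F (mul_mem ((memJ_norm (hn ha.2)).2 he) he) ?_)
  have h13 := mem_cent.1 hg.2 k ⟨hk, h12⟩
  rw [x.comm ((memJ_norm (hn ha.2)).2 he) he, show e * (s * k * e * (s * k)⁻¹) =
    e * (s * (k * (e * γ)) * (s * k * γ)⁻¹) by group, h13, ← h11 γ h7 h8,
    show e * (s * (e * γ * k) * (γ * (s * k))⁻¹) = e * (s * e) * γ * s⁻¹ * γ⁻¹ by group,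
    ← mem_cent.1 (hC hs) e he, ← mul_assoc e, x.ee he, one_mul]
  exact mul_mem ((memJ_norm (x.S_norm hG hS hE hc c1 hs)).2 h7) (inv_mem h7)

omit h74 in
theorem inner (hw : w ∈ S) (h1 : ∀ s ∈ S, w * s * w⁻¹ * s⁻¹ ∈ E) (hc : c ∈ E) (c1 : c ≠ 1) :
    ∃ y ∈ S ⊓ LL E c (zpowers c), y * w ∈ Gc E c ∧ (y * y ∈ Gc E c ↔ w * w ∈ Gc E c) := by
  have l := x.lc hG hc c1
  have h2 := x.S_le hG hS hE hc
  have h3 := h2.trans (l.cent_normL x.toCtx)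
  obtain ⟨y, hy, h4⟩ := (l.prp x.toCtx).inner _ (hS.inf_of_le_normalizer le_top h3)
    (hE.trans (normsI (normG S) h3)) w ((cent_cycle c).le (h2 hw)) (h3 hw) (normsI (normG S) h3 hw)
    (pgroup_mem hS.isPGroup hw) (x.S_cent hG hS hE hw) fun y hy => h1 y hy.1
  have h5 := mul_mem hy.1 hw
  have h6 := mem_cent1.1 (x.comm_one hG hS hE h4 hy.2
    (mul_mem (mul_mem (mul_mem h5 hy.1) (inv_mem h5)) (inv_mem hy.1)))
  refine ⟨y, hy, h4, ?_⟩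
  have h7 := mul_mem h4 h4
  rw [← mul_assoc, ← h6, ← mul_assoc, mul_assoc (y * y)] at h7
  exact ⟨fun h => (mul_mem_cancel_left h).1 h7, fun h => (mul_mem_cancel_right h).1 h7⟩

omit h74 in
theorem mem_sup_Gc (hw : w ∈ S) (h1 : ∀ s ∈ S, w * s * w⁻¹ * s⁻¹ ∈ E) (hc : c ∈ E) (c1 : c ≠ 1)
    (h : w * w ∈ Gc E c) : w ∈ E ⊔ Gc E c := by
  obtain ⟨y, hy, h2, h3⟩ := x.inner hG hS hE hw h1 hc c1
  obtain ⟨e, he, h4⟩ := ((x.lc hG hc c1).prp x.toCtx).inv y hy.2 (x.le_norm hS.isPGroup hE hy.1)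
    (h3.2 h)
  exact (mul_mem_cancel_left ((mul_mem_cancel_right (mem_sup_left he)).1 (mem_sup_right h4))).1
    (mem_sup_right h2)

omit h74 in
theorem sq_comm (hw : w ∈ S) (h1 : ∀ s ∈ S, w * s * w⁻¹ * s⁻¹ ∈ E) (hc : w * w ∈ E) (c1 : w * w ≠ 1) :
    (∀ s ∈ S, w * s * w⁻¹ * s⁻¹ ≠ 1 → w * s * w⁻¹ * s⁻¹ = w * w) ∧
      S ⊓ LL E (w * w) (zpowers (w * w)) ≤ 𝐂[w] := by
  have l := x.lc hG hc c1
  obtain ⟨e, he, γ, h2, h3⟩ := (mem_join_norm' (hE.trans (x.S_norm hG hS hE hc c1))).1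
    (x.mem_sup_Gc hG hS hE hw h1 hc c1 (l.le_Gb (mem_zpowers _)))
  have h4 : ∀ s ∈ S, w * s * w⁻¹ * s⁻¹ = γ * s * γ⁻¹ * s⁻¹ := fun s hs => by
    rw [← h3, x.S_cent hG hS hE ((mul_mem_cancel_left (hE he)).1 (h3 ▸ hw)) e he, mul_assoc γ,
      x.S_cent hG hS hE hs e he]
    group
  refine ⟨fun s hs => x.eq_of_zp hG hc c1 (l.mem_F (h1 s hs) ?_), fun y hy => GO.c1.1 ?_⟩
  · rw [h4 s hs, mul_assoc γ, mul_assoc γ]
    exact mul_mem h2 ((memJ_norm (x.S_norm hG hS hE hc c1 hs)).2 (inv_mem h2))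
  · rw [h4 y hy.1]
    exact GO.c1.2 (x.comm_one hG hS hE h2 hy.2 (h4 y hy.1 ▸ hE (h1 y hy.1)))

theorem S_le_E : S ≤ E := by
  by_contra hne
  have hn := x.le_norm hS.isPGroup hE
  have hC := x.S_cent hG hS hE
  have hq := quotient_isPGroup E hS.isPGroup
  obtain ⟨z, hz, z2⟩ := Tr.exists_orderOf_two_of_ne_bot (pgroup_sub inf_le_left hq)
    (pgroup_fix_ne_bot hq hq (normG _) fun e => hne ((quotient_eq_bot hn).1 e))
  obtain ⟨w, hw, rfl⟩ := (mem_qt_of_le hn).1 hz.1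
  have h1 : ∀ s ∈ S, w * s * w⁻¹ * s⁻¹ ∈ E := fun s hs =>
    comm_mem_symm ((cst_mem_cent (hn hw) hn).1 hz.2 s hs)
  have hc : w * w ∈ E := coset_idr (hn (mul_mem hw hw)) (by
    rw [cst_mul (hn hw) (hn hw), Tr.mul_self_of_orderOf_two z2])
  have c1 : w * w ≠ 1 := fun e => Tr.ne_one_of_orderOf_two z2 (coset_id (x.c1' hG hS hE h74 hw h1
    fun c hc c1 => x.mem_sup_Gc hG hS hE hw h1 hc c1 (e ▸ one_mem _)))
  obtain ⟨c', hc', c1', h2⟩ := x.exists_third hG hc c1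
  obtain ⟨n, -, h3, h4⟩ := x.trs hG _ hc c1 c' hc' c1'
  obtain ⟨v, hv, n, h5, rfl⟩ := (hS.mono hC le_top).frattini (cent_norm E h3)
  have h6 := x.norm_le hS.isPGroup hE h5
  have hw' := (memJ_norm h5).2 hw
  have h7 : n * w * n⁻¹ * (n * w * n⁻¹) = c' := by
    rw [← h4, show v * n * (w * w) * (v * n)⁻¹ = v * (n * (w * w) * n⁻¹) * v⁻¹ by group,
      cent1_conj.1 (cent_le_cent1 ((memJ_norm h6).2 hc) hv)]
    group
  have h1' : ∀ s ∈ S, n * w * n⁻¹ * s * (n * w * n⁻¹)⁻¹ * s⁻¹ ∈ E :=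
    ((memJ_norm (norm_cmod ⟨h6, h5⟩)).2 (⟨hn hw, h1⟩ : w ∈ GP.cmod E S)).2
  generalize n * w * n⁻¹ = w' at hw' h7 h1'
  subst h7
  obtain ⟨k1, k2⟩ := x.sq_comm hG hS hE hw h1 hc c1
  obtain ⟨k3, -⟩ := x.sq_comm hG hS hE hw' h1' hc' c1'
  have h8 : w' * w = w * w' := mem_cent1.1 (GO.c1.1 (by_contra fun h => h2 (by
    have h9 := k1 w' hw' h
    rw [← x.inv (h1 w' hw'), show (w * w' * w⁻¹ * w'⁻¹)⁻¹ = w' * w * w'⁻¹ * w⁻¹ by group] at h h9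
    rw [← k3 w hw h, h9])))
  have h9 : w * w' * (w * w') = w * w * (w' * w') := by
    rw [mul_assoc, ← mul_assoc w', h8]; group
  have h10 : ∀ s ∈ S, w * w' * s * (w * w')⁻¹ * s⁻¹ = w' * s * w'⁻¹ * s⁻¹ * (w * s * w⁻¹ * s⁻¹) :=
    fun s hs => calc _ = w * (w' * s * w'⁻¹ * s⁻¹) * s * w⁻¹ * s⁻¹ := by group
      _ = _ := by rw [← mem_cent.1 (hC hw) _ (h1' s hs)]; group
  obtain ⟨k4, -⟩ := x.sq_comm hG hS hE (mul_mem hw hw') (fun s hs => h10 s hs ▸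
    mul_mem (h1' s hs) (h1 s hs)) (h9 ▸ mul_mem hc hc') (by
      rw [h9, ← x.inv hc, Ne, inv_mul_eq_one]; exact Ne.symm h2)
  have h11 : S ⊓ LL E (w * w) (zpowers (w * w)) ≤ 𝐂[w'] := fun y hy => GO.c1.1 (by_contra fun h => by
    have := k4 y hy.1
    rw [h10 y hy.1, GO.c1.2 (k2 hy), mul_one, h9, k3 y hy.1 h, right_eq_mul] at this
    exact c1 (this c1'))
  have l := x.lc hG hc c1
  have h12 := (x.S_le hG hS hE hc).trans (l.cent_normL x.toCtx)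
  obtain ⟨y, hy, h13, h14⟩ := x.inner hG hS hE hw' h1' hc c1
  refine h2 (x.eq_of_zp hG hc c1 (l.mem_F hc' (h14.1 ((l.prp x.toCtx).zen _
    (hS.inf_of_le_normalizer le_top h12) (hE.trans (normsI (normG S) h12)) y hy fun t ht => ?_))) c1')
  have := l.D_le ((mem_Gam.1 h13).2 t ht.2)
  rwa [mul_assoc y, ← mem_cent1.1 (h11 ht), show y * (t * w') * (y * w')⁻¹ = y * t * y⁻¹ by group] at this

end Fa

end Cfsg.Agent.GO
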