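import Cfsg.Agent.Lib.GO.Ctrl

/-! The TI case, step A (first part): elements acting on `E` as transvections. -/

set_option autoImplicit false
set_option linter.unusedSectionVars false
set_option linter.unusedVariables false

namespace Cfsg.Agent.GO

open Subgroup Cfsg.Agent.FT Cfsg.Agent.SF Cfsg.Agent.SF.GP Cfsg.Agent.SC
open Cfsg.Agent.Tr (SylowIn)

universe u

variable {G : Type u} [Group G] [Finite G] {T : Set G} {E F F' : Subgroup G} {b y y' e : G}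
  {Φ : Set (Subgroup G)}

theorem c1 {y e : G} : y * e * y⁻¹ * e⁻¹ = 1 ↔ e ∈ 𝐂[y] := by
  rw [mem_cent1, mul_inv_eq_one, mul_inv_eq_iff_eq_mul, eq_comm]

theorem mem_cmod' {B : Subgroup G} (hB : B ≤ E) {g : G} :
    g ∈ GP.cmod B E ↔ ∀ e ∈ E, g * e * g⁻¹ * e⁻¹ ∈ B :=
  ⟨fun h => h.2, fun h => ⟨Tr.mem_normalizer_of_forall fun b hb => by
    simpa using mul_mem (h b (hB hb)) hb, h⟩⟩

/-- the stabilizer of the chain `1 ≤ F ≤ E` -/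
def UU (E F : Subgroup G) : Subgroup G := 𝐍(E) ⊓ (𝐂(F) ⊓ GP.cmod F E)

theorem mem_UU : y ∈ UU E F ↔ y ∈ 𝐍(E) ∧ y ∈ 𝐂(F) ∧ ∀ e ∈ E, y * e * y⁻¹ * e⁻¹ ∈ F :=
  ⟨fun h => ⟨h.1, h.2.1, h.2.2.2⟩, fun h => ⟨h.1, h.2.1, cent_sub F h.2.1, h.2.2⟩⟩

theorem UU_mul (hy : y ∈ UU E F) (hy' : y' ∈ UU E F) (he : e ∈ E) :
    y * y' * e * (y * y')⁻¹ * e⁻¹ = y' * e * y'⁻¹ * e⁻¹ * (y * e * y⁻¹ * e⁻¹) :=
  calc _ = y * (y' * e * y'⁻¹ * e⁻¹) * e * y⁻¹ * e⁻¹ := by group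
    _ = _ := by rw [← mem_cent.1 hy.2.1 _ (hy'.2.2.2 e he)]; group

theorem UU_conj {a : G} (ha : a ∈ 𝐍(E)) (ha' : a ∈ 𝐂(F)) (hy : y ∈ UU E F) : a * y * a⁻¹ ∈ UU E F :=
  mem_UU.2 ⟨mul_mem (mul_mem ha hy.1) (inv_mem ha), mul_mem (mul_mem ha' hy.2.1) (inv_mem ha'),
    fun e he => by
      simpa [mul_assoc] using (memJ_norm (cent_sub F ha')).2 (hy.2.2.2 _ ((memJ_norm' ha).2 he))⟩

theorem Sce.UU_sq (h : Sce T E) (hF : F ≤ E) (hy : y ∈ UU E F) : y * y ∈ 𝐂(E) :=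
  sub_cent1.1 fun e he => c1.1 (by rw [UU_mul hy hy he, h.ee (hF (hy.2.2.2 e he))])

theorem Sce.UU_comm (h : Sce T E) (hF : F ≤ E) (hy : y ∈ UU E F) (hy' : y' ∈ UU E F) :
    y * y' * (y' * y)⁻¹ ∈ 𝐂(E) := by
  have := mul_mem (mul_mem (h.UU_sq hF (mul_mem hy hy')) ((memJ_norm' (cent_norm E hy'.1)).2
    (inv_mem (h.UU_sq hF hy)))) (inv_mem (h.UU_sq hF hy'))
  rwa [show y * y' * (y * y') * (y'⁻¹ * (y * y)⁻¹ * y') * (y' * y')⁻¹ = y * y' * (y' * y)⁻¹ by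
    group] at this

theorem Sce.two_part (h : Sce T E) (hF : F ≤ E) (hy : y ∈ UU E F) :
    ∃ a ∈ zpowers y, El2 a ∧ a⁻¹ * y ∈ 𝐂(E) := by
  obtain ⟨a, ha, c, hc, a2, c2, rfl⟩ := exists_parts y
  have h1 := (cycle_subG.2 (cycle_subG.2 hy hc))
  refine ⟨a, ha, a2, ?_⟩
  rw [inv_mul_cancel_left]
  exact coprime_stable_cent (N := F) (by
    rw [commGC]; exact comm_le_of_le_cmod (h1.trans (inf_le_right.trans inf_le_right)))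
    (h1.trans (inf_le_right.trans inf_le_left))
    (cop2 (by rwa [card_cycle]) (pgroup_sub hF h.two)).symm (mem_zpowers c)

/-- a variant of Glauberman's lemma -/
theorem glaub {H R B V : Subgroup G} (hR : SylowIn 2 R H) (h1 : H ≤ 𝐂(B)) (h2 : H ≤ 𝐍(V))
    {a c e : G} (ha : a ∈ H) (h3 : a * c * a⁻¹ * e⁻¹ ∈ B) (hc : ∀ r ∈ R, r * c * r⁻¹ * c⁻¹ ∈ B)
    (he : ∀ r ∈ R, r * e * r⁻¹ * e⁻¹ ∈ B) (h : c ∈ ⁅R, V⁆ ⊔ B) : e ∈ ⁅R, V⁆ ⊔ B := by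
  have hn := h1.trans (cent_sub B)
  have h4 : SylowIn 2 R (H ⊓ GP.cmod B {e}) := hR.mono (le_inf hR.le fun r hr =>
    ⟨hn (hR.le hr), by simpa using he r hr⟩) inf_le_left
  obtain ⟨s, hs, h5⟩ := h4.exists_cj_eq ((hR.cj_of_mem ha).mono (le_inf (hR.cj_of_mem ha).le
    (Tr.cj_le_iff.2 fun r hr => ⟨hn (mul_mem (mul_mem ha (hR.le hr)) (inv_mem ha)), by
      intro e' he'
      rw [Set.mem_singleton_iff.1 he']
      have h6 := mem_cent.1 (h1 (mul_mem (mul_mem ha (hR.le hr)) (inv_mem ha))) _ (inv_mem h3)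
      have h7 := (memJ_norm (hn ha)).2 (hc r hr)
      obtain ⟨f, hf⟩ : ∃ f, f = a * c * a⁻¹ * e⁻¹ := ⟨_, rfl⟩
      rw [← hf] at h3 h6
      rw [show e = f⁻¹ * (a * c * a⁻¹) by rw [hf]; group, ← mul_assoc _ f⁻¹, ← h6,
        show f⁻¹ * (a * r * a⁻¹) * (a * c * a⁻¹) * (a * r * a⁻¹)⁻¹ * (f⁻¹ * (a * c * a⁻¹))⁻¹ =
          f⁻¹ * (a * (r * c * r⁻¹ * c⁻¹) * a⁻¹) * f by group]
      exact mul_mem (mul_mem (inv_mem h3) h7) h3⟩)) inf_le_left)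
  rw [← Tr.cj_mul, Tr.cj_eq_iff] at h5
  have h6 := mul_mem hs.1 ha
  have h7 := (memJ_norm (normsY (normsR (cycle_subG.2 h5) (cycle_subG.2 (h2 h6)))
    (cycle_subG.2 (hn h6)) (mem_zpowers _))).2 h
  have := mul_mem (inv_mem (mem_sup_right (mul_mem ((memJ_norm (hn hs.1)).2 h3) (hs.2.2 e rfl)))) h7
  rwa [show (s * (a * c * a⁻¹ * e⁻¹) * s⁻¹ * (s * e * s⁻¹ * e⁻¹))⁻¹ * (s * a * c * (s * a)⁻¹) = e by
    group] at this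

namespace Loc

variable (l : Loc T E b F) (x : Ctx T E)
include l x

theorem two_UU (hy : y ∈ YY E F ⊓ 𝐍(E)) (h2 : El2 y) : y ∈ UU E F :=
  mem_UU.2 ⟨hy.2, l.Y_cent x hy.1, fun e he => l.mem_F (mul_mem ((memJ_norm hy.2).2 he) (inv_mem he))
    ((l.prp x).cent y (mem_sup_left hy.1) hy.2 h2 e he)⟩

theorem cent_of_sq (hy : y ∈ YY E F ⊓ 𝐍(E)) (h : y * y ∈ Gb E b F) : y ∈ 𝐂(E) := by
  obtain ⟨e, he, h1⟩ := (l.prp x).inv y (mem_sup_left hy.1) hy.2 h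
  simpa using mul_mem (l.gam_cent x h1 (mul_mem hy.2 (normG E he))
    (mul_mem (l.Y_cent x hy.1) (l.E_le x he))) (inv_mem (x.cent he))

theorem exists_sq (hy : y ∈ YY E F ⊓ 𝐍(E)) (h2 : El2 y) (h : y ∉ 𝐂(E)) :
    ∃ e ∈ E, e ∉ F ∧ e ∈ 𝐂[y] ∧ y * y * e ∈ Gb E b F := by
  obtain ⟨e, he, h1⟩ := (l.prp x).sq y (mem_sup_left hy.1) hy.2 h2
  refine ⟨e, he, fun h3 => h (l.cent_of_sq x hy (by
    simpa [Gb] using mul_mem h1 (inv_mem (l.le_Gb h3)))), ?_, h1⟩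
  have h3 := mul_mem hy.2 hy.2
  have h4 := l.eq_one x ((memJ_norm h3).2 (mul_mem he ((memJ_norm hy.2).2 (inv_mem he)))) (by
    have := (mem_Gam.1 h1).2 y (mem_sup_left hy.1)
    rwa [show y * y * e * y * (y * y * e)⁻¹ * y⁻¹ = y * y * (e * (y * e⁻¹ * y⁻¹)) * (y * y)⁻¹ by
      group] at this)
  rw [conj_eq_one_iff] at h4
  rw [mem_cent1, ← mul_inv_eq_one, ← h4]
  group

end Loc

/-- a conjugacy class of minimal subgroups `F` with trivial intersections -/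
structure Fa (T : Set G) (E : Subgroup G) (Φ : Set (Subgroup G)) : Prop extends Ctx T E where
  mi : ∀ F ∈ Φ, Mi T E F
  cj : ∀ F ∈ Φ, ∀ n ∈ 𝐍(E), cj n F ∈ Φ
  tr : ∀ F ∈ Φ, ∀ F' ∈ Φ, ∃ n ∈ 𝐍(E), Tr.cj n F = F'
  ti : ∀ F ∈ Φ, ∀ F' ∈ Φ, F ≠ F' → ∀ e ∈ F, e ∈ F' → e = 1
  ne : ∃ F, F ∈ Φ

namespace Fa

variable (x : Fa T E Φ) (hF : F ∈ Φ)
include x hF

theorem le : F ≤ E := (x.mi F hF).le

theorem loc : ∃ b, Loc T E b F := (x.mi F hF).1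

theorem exists_ne : ∃ F' ∈ Φ, F ≠ F' := by
  obtain ⟨b, l⟩ := x.loc hF
  obtain ⟨n, hn, h⟩ := l.exists_cj x.toCtx
  exact ⟨_, x.cj F hF n hn, h.symm⟩

theorem norm_of {n : G} (hn : n ∈ 𝐍(E)) (he : e ∈ F) (h1 : e ≠ 1) (h : n * e * n⁻¹ ∈ F) : n ∈ 𝐍(F) := by
  by_contra hc
  exact h1 (conj_eq_one_iff.1 (x.ti F hF _ (x.cj F hF n hn) (fun e => hc (Tr.cj_eq_iff.1 e.symm))
    _ h (Tr.conj_mem_cj.2 he)))

theorem cover (he : e ∈ E) (h : e ∉ F) : ∃ F' ∈ Φ, F ≠ F' ∧ ∃ f ∈ F', f * e ∈ F := by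
  obtain ⟨F', hF', hne⟩ := x.exists_ne hF
  obtain ⟨b, l⟩ := x.loc hF
  obtain ⟨b', l'⟩ := x.loc hF'
  obtain ⟨a, ha, h1⟩ := l.tr x.toCtx l'.mem (fun h => l'.ne (x.ti F hF F' hF' hne _ h l'.memF)) he h
  exact ⟨_, x.cj F' hF' a ha.2, fun h2 => h (by
    simpa only [inv_mul_cancel_left] using
      mul_mem (inv_mem (h2.ge (Tr.conj_mem_cj.2 l'.memF))) h1), _,
    Tr.conj_mem_cj.2 l'.memF, h1⟩

variable (hF' : F' ∈ Φ) (hne : F ≠ F') (hy : y ∈ UU E F)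
include hF' hne hy

theorem k1 (he : e ∈ F ⊔ F') (h1 : e ∉ F) (h : e ∈ 𝐂[y]) : y ∈ 𝐂(F') := by
  obtain ⟨f, hf, f', hf', rfl⟩ := (mem_join_norm' ((x.le hF).trans (cents_norm
    (x.cents (x.le hF'))))).1 he
  have h2 : f' ∈ 𝐂[y] := by simpa using mul_mem (inv_mem (sub_cent1.2 hy.2.1 hf)) h
  have h3 := x.norm_of hF' hy.1 hf' (fun e => h1 (by simpa [e] using hf))
    (by rwa [cent1_conj'.1 h2])
  exact sub_cent1.1 fun a ha => c1.1 (x.ti F hF F' hF' hne _ (hy.2.2.2 a (x.le hF' ha))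
    (mul_mem ((memJ_norm h3).2 ha) (inv_mem ha)))

theorem moves (h : y ∉ 𝐂(E)) : ∃ e ∈ E, y * e * y⁻¹ * e⁻¹ ∉ F' := by
  by_contra hc
  push Not at hc
  exact h (sub_cent1.1 fun e he => c1.1 (x.ti F hF F' hF' hne _ (hy.2.2.2 e he) (hc e he)))

theorem k2 (h1 : y ∈ 𝐂(F')) (h : y ∉ 𝐂(E)) (he : e ∈ E) (h2 : y * e * y⁻¹ * e⁻¹ ∈ F') :
    e ∈ F ⊔ F' := by
  by_cases h3 : e ∈ F'
  · exact mem_sup_right h3
  obtain ⟨v, hv, v2, h4⟩ := x.toSce.two_part (x.le hF) hy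
  have hvU := cycle_subG.2 hy hv
  have h5 : ∀ e ∈ E, y * e * y⁻¹ = v * e * v⁻¹ := fun e he => by
    conv_rhs => rw [← cent1_conj.1 (cent_le_cent1 he h4)]
    group
  obtain ⟨e₀, h6, h7⟩ := x.moves hF hF' hne hy h
  rw [h5 e₀ h6] at h7
  rw [h5 e he] at h2
  obtain ⟨b, l⟩ := x.loc hF'
  have h8 := hvU.2.2.2 e₀ h6
  obtain ⟨a, ha, h9⟩ := l.tr x.toCtx (x.le hF h8) h7 he h3
  have hv1 : zpowers v ≤ 𝐂(F') := cycle_subG.2 (cycle_subG.2 h1 hv)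
  have hv2 : zpowers v ≤ 𝐍(E) := cycle_subG.2 hvU.1
  obtain ⟨R, hR, h10⟩ := Tr.exists_sylowIn_ge v2 (le_sup_right (a := YY E F' ⊓ 𝐍(E)))
  have h11 : ∀ M, v ∈ M → UU E F' ≤ M → R ≤ M := fun M h1 h2 => (le_inf hR.le le_rfl).trans
    ((group_modr (normsI (hv1.trans (norm_YY E F')) (normsG hv2)) h10).ge.trans (sup_le
      (fun r hr => h2 (l.two_UU x.toCtx hr.1 (pgroup_mem hR.isPGroup hr.2))) (cycle_subG.2 h1)))
  have h12 : ∀ e ∈ E, v * e * v⁻¹ * e⁻¹ ∈ F' → ∀ r ∈ R, r * e * r⁻¹ * e⁻¹ ∈ F' := fun e he h r hr =>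
    (h11 (GP.cmod F' {e}) ⟨cent_sub _ (hv1 (mem_zpowers v)), by simpa using h⟩
      (fun u hu => ⟨hu.2.2.1, by simpa using hu.2.2.2 e he⟩) hr).2 e rfl
  have h13 := glaub hR (B := F') (V := E) (sup_le (inf_le_left.trans (l.Y_cent x.toCtx)) hv1)
    (sup_le inf_le_right hv2) (mem_sup_left ha) (by rwa [x.inv he]) (h12 _ (x.le hF h8) (by
      rw [c1.2 (sub_cent1.2 hvU.2.1 h8)]; exact one_mem _)) (h12 e he h2)
    (mem_sup_left (commutator_mem_commutator (h10 (mem_zpowers v)) h6))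
  have h14 := sup_le (x.le hF) (x.le hF')
  exact sup_le (comm_le_of_le_cmod (h11 _ ((mem_cmod' h14).2 fun e he =>
    mem_sup_left (hvU.2.2.2 e he)) fun u hu => (mem_cmod' h14).2 fun e he =>
      mem_sup_right (hu.2.2.2 e he))) le_sup_right h13

theorem k3 (h1 : y ∈ 𝐂(F')) (h : y ∉ 𝐂(E)) (hy' : y' ∈ UU E F) (h1' : y' ∈ 𝐂(F')) (h' : y' ∉ 𝐂(E)) :
    y * y' ∈ 𝐂(E) := by
  by_contra h''
  obtain ⟨b, l⟩ := x.loc hF'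
  have hn : ∀ {g}, g ∈ 𝐍(E) → g ∈ 𝐂(F') → g ∈ 𝐍(UU E F') := fun h1 h2 =>
    Tr.mem_normalizer_of_forall fun _ => UU_conj h1 h2
  have hA : YY E F' ⊓ 𝐍(E) ≤ 𝐍(UU E F') := fun g hg => hn hg.2 (l.Y_cent x.toCtx hg.1)
  have hC : 𝐂(E) ≤ UU E F' := fun g hg => mem_UU.2 ⟨cent_sub E hg, centS l.le hg, fun e he => by
    rw [c1.2 (sub_cent1.2 hg he)]; exact one_mem _⟩
  have h2 : ∀ {w}, w ∈ UU E F → w ∈ 𝐂(F') → cst (UU E F') w * cst (UU E F') w = 1 := fun h1 h2 => by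
    rw [← cst_mul (hn h1.1 h2) (hn h1.1 h2), coset_id (hC (x.toSce.UU_sq (x.le hF) h1))]
  have h3 : ∀ {w}, w ∈ UU E F → w ∈ 𝐂(F') → w ∉ 𝐂(E) → cst (UU E F') w ≠ 1 := fun h1 h2 h3 e => by
    obtain ⟨e', h4, h5⟩ := x.moves hF hF' hne h1 h3
    exact h5 ((coset_idr (hn h1.1 h2) e).2.2.2 e' h4)
  have hy1 := hn hy.1 h1
  have hy2 := hn hy'.1 h1'
  have h4 : cst (UU E F') y * cst (UU E F') y' = cst (UU E F') y' * cst (UU E F') y := by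
    rw [← cst_mul hy1 hy2, ← cst_mul hy2 hy1, cst_eq_iff' (mul_mem hy1 hy2) (mul_mem hy2 hy1)]
    exact hC (x.toSce.UU_comm (x.le hF) hy hy')
  have h5 : ∀ {w}, w ∈ UU E F → w ∈ 𝐂(F') → w ∈ 𝐍(YY E F' ⊓ 𝐍(E)) := fun h1 h2 =>
    normsI (cycle_subG.2 (norm_YY E F' h2)) (normsG (cycle_subG.2 h1.1)) (mem_zpowers _)
  have h6 : ∀ {w}, w ∈ UU E F → w ∈ 𝐂(F') → w ∉ 𝐂(E) → (YY E F' ⊓ 𝐍(E)) /c UU E F' ⊓
      𝐂[cst (UU E F') w] ≤ (𝐍(UU E F') ⊓ 𝐍(F ⊔ F')) /c UU E F' := by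
    rintro w h1 h2 h3 z ⟨hz, hz'⟩
    obtain ⟨a, ha, rfl⟩ := (mem_qt_of_le hA).1 hz
    refine mem_quotient _ ⟨hA ha, Tr.mem_normalizer_of_forall fun e he => ?_⟩
    have h7 := (memJ_norm ha.2).2 (sup_le (x.le hF) l.le he)
    have h8 := mem_cent1.1 hz'
    rw [← cst_mul (hA ha) (hn h1.1 h2), ← cst_mul (hn h1.1 h2) (hA ha), eq_comm,
      cst_eq_iff' (mul_mem (hn h1.1 h2) (hA ha)) (mul_mem (hA ha) (hn h1.1 h2))] at h8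
    refine x.k2 hF hF' hne h1 h2 h3 h7 ?_
    have h9 := h8.2.2.2 _ h7
    have h10 := mem_cent1.1 (sup_le (sub_cent1.2 h1.2.1) (sub_cent1.2 h2) he)
    rwa [show w * a * (a * w)⁻¹ * (a * e * a⁻¹) * (w * a * (a * w)⁻¹)⁻¹ =
      w * a * w⁻¹ * (e * w) * a⁻¹ * w⁻¹ by group, h10,
      show w * a * w⁻¹ * (w * e) * a⁻¹ * w⁻¹ = w * (a * e * a⁻¹) * w⁻¹ by group] at h9
  obtain ⟨P, hP⟩ := Tr.exists_sylowIn (p := 2) (YY E F' ⊓ 𝐍(E))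
  have h7 := gen4 (TwoGrp.isKleinFour_four (h2 hy h1) (h2 hy' h1') h4 (h3 hy h1 h) (h3 hy' h1' h')
    fun e => h3 (mul_mem hy hy') (mul_mem h1 h1') h'' (by rw [cst_mul hy1 hy2, e, h2 hy' h1']))
    (X := (YY E F' ⊓ 𝐍(E)) /c UU E F') (by
      rw [card_quotient hA, ← inf_relIndex_right, ← Nat.not_even_iff_odd, even_iff_two_dvd]
      exact hP.not_dvd_relIndex_of_le (le_inf (fun r hr => l.two_UU x.toCtx (hP.le hr)
        (pgroup_mem hP.isPGroup hr)) hP.le) inf_le_right)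
    (four_le (cst_mem_norm (h5 hy h1)) (cst_mem_norm (h5 hy' h1'))) fun z hz z1 => by
      rcases TwoGrp.mem_four.1 hz with rfl | rfl | rfl | rfl
      exacts [absurd rfl z1, h6 hy h1 h, h6 hy' h1' h',
        cst_mul hy1 hy2 ▸ h6 (mul_mem hy hy') (mul_mem h1 h1') h'']
  rw [quotientSK hA inf_le_left] at h7
  have h8 := sup_le (x.le hF) l.le
  obtain ⟨c, l1⟩ := x.loc hF
  refine h (centS (fun e he => by_contra fun h9 => h9 ?_) ((centY F F').ge ⟨hy.2.1, h1⟩))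
  obtain ⟨a, ha, h10⟩ := l.tr x.toCtx l1.mem (fun h => l1.ne (x.ti F hF F' hF' hne _ l1.memF h)) he
    fun h => h9 (mem_sup_right h)
  simpa only [inv_mul_cancel_left] using (F ⊔ F').mul_mem (inv_mem ((memJ_norm (h7.trans (sup_le (fun u hu =>
    ((mem_cmod' h8).2 fun e he => mem_sup_right (hu.2.2.2 e he)).1) inf_le_right) ha)).2
      (mem_sup_left l1.memF))) (mem_sup_right h10)

end Fa

end Cfsg.Agent.GO
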