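import Cfsg.Agent.Lib.GO.LinA

/-! The TI case, step A: the 2-elements of `A_F` centralize `E`. -/

set_option autoImplicit false
set_option linter.unusedSectionVars false
set_option linter.unusedVariables false

namespace Cfsg.Agent.GO

open Subgroup Cfsg.Agent.FT Cfsg.Agent.SF Cfsg.Agent.SF.GP Cfsg.Agent.SC
open Cfsg.Agent.Tr (SylowIn)

universe u

variable {G : Type u} [Group G] [Finite G] {T : Set G} {E F F' : Subgroup G} {b y y' e : G}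
  {Φ : Set (Subgroup G)}

theorem inv_of_sq {Y : Type*} [Group Y] {a c : Y} (h : a * c * (a * c) = a * a) : c * a = a * c⁻¹ := by
  rw [mul_assoc, mul_right_inj, ← mul_assoc] at h
  rw [← h, mul_inv_cancel_right, h]

theorem comm_of_three {Y : Type*} [Group Y] {a a' c : Y} (h : a * c * (a * c) = a * a)
    (h' : a' * c * (a' * c) = a' * a') (h'' : a * a' * c * (a * a' * c) = a * a' * (a * a')) :
    a * c = c * a := by
  have h1 := inv_of_sq h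
  have h2 := inv_of_sq h'
  have h3 := inv_of_sq h''
  have h4 : c⁻¹ * a' = a' * c := by
    rw [inv_mul_eq_iff_eq_mul, ← mul_assoc, h2, inv_mul_cancel_right]
  rw [← mul_assoc, h1, mul_assoc, h4, mul_assoc, mul_right_inj, mul_right_inj] at h3
  rw [h1, ← h3]

namespace Fa

variable (x : Fa T E Φ) (hF : F ∈ Φ)
include x hF

theorem k4' (hF' : F' ∈ Φ) (hne : F ≠ F') (hy : y ∈ UU E F) (h1 : y ∈ 𝐂(F')) (h : y ∉ 𝐂(E))
    {g : G} (hg : g ∈ 𝐍(E)) (hg' : g ∈ 𝐂(F)) {c : G} (hc : c ∈ F ⊔ F') (hc' : c ∉ F)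
    (h2 : c ∈ 𝐂[g * y * g⁻¹]) (he : e ∈ E) : g * e * g⁻¹ * e⁻¹ ∈ F ⊔ F' := by
  have h3 := UU_conj hg hg' hy
  have h4 := (memJ_norm hg).2 he
  have h5 := c1.2 (sub_cent1.2 (x.k3 hF hF' hne h3 (x.k1 hF hF' hne h3 hc hc' h2)
    (fun h5 => h ((memJ_norm (cent_norm E hg)).1 h5)) hy h1 h) h4)
  rw [UU_mul h3 hy h4, show g * y * g⁻¹ * (g * e * g⁻¹) * (g * y * g⁻¹)⁻¹ * (g * e * g⁻¹)⁻¹ =
    g * (y * e * y⁻¹ * e⁻¹) * g⁻¹ by group, cent1_conj.1 (cent_le_cent1 (hy.2.2.2 e he) hg'),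
    mul_eq_one_iff_eq_inv, x.inv (x.le hF (hy.2.2.2 e he))] at h5
  refine x.k2 hF hF' hne hy h1 h (mul_mem h4 (inv_mem he)) ?_
  rw [show y * (g * e * g⁻¹ * e⁻¹) * y⁻¹ * (g * e * g⁻¹ * e⁻¹)⁻¹ = y * (g * e * g⁻¹) * y⁻¹ *
    ((y * e * y⁻¹)⁻¹ * e) * (g * e * g⁻¹)⁻¹ by group, mul_assoc _ _ (g * e * g⁻¹)⁻¹,
    x.comm (mul_mem (inv_mem ((memJ_norm hy.1).2 he)) he) (inv_mem h4), ← mul_assoc, h5,
    x.comm (inv_mem ((memJ_norm hy.1).2 he)) he]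
  simp

theorem k4 (hF' : F' ∈ Φ) (hne : F ≠ F') (hy : y ∈ UU E F) (h1 : y ∈ 𝐂(F')) (h : y ∉ 𝐂(E))
    {f₁ f₂ : G} (h₁ : f₁ ∈ F') (h₂ : f₂ ∈ F') (n₁ : f₁ ≠ 1) (n₂ : f₂ ≠ 1) : f₁ = f₂ := by
  by_contra hcc
  obtain ⟨b, l⟩ := x.loc hF
  have hE' := x.le hF'
  have m₁ : f₁ ∉ F := fun h => n₁ (x.ti F hF F' hF' hne _ h h₁)
  have m₂ : f₂ ∉ F := fun h => n₂ (x.ti F hF F' hF' hne _ h h₂)
  obtain ⟨a, ha, h2⟩ := l.tr x.toCtx (hE' h₁) m₁ (hE' h₂) m₂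
  obtain ⟨u, hu, g, hg, u2, g2, rfl⟩ := exists_parts a
  have hg' := cycle_subG.2 ha hg
  have hgC := l.Y_cent x.toCtx hg'.1
  have h3 : g * f₁ * g⁻¹ * f₂ ∈ F := by
    have := mul_mem (inv_mem ((l.two_UU x.toCtx (cycle_subG.2 ha hu) u2).2.2.2 _
      ((memJ_norm hg'.2).2 (hE' h₁)))) h2
    rwa [show (u * (g * f₁ * g⁻¹) * u⁻¹ * (g * f₁ * g⁻¹)⁻¹)⁻¹ * (u * g * f₁ * (u * g)⁻¹ * f₂) =
      g * f₁ * g⁻¹ * f₂ by group] at this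
  have h4 : ∀ e ∈ E, g * e * g⁻¹ * e⁻¹ ∈ F ⊔ F' := fun e he => x.k4' hF hF' hne hy h1 h hg'.2 hgC
    (c := g * f₁ * g⁻¹) (by
      simpa using (F ⊔ F').mul_mem (mem_sup_left h3) (mem_sup_right (inv_mem h₂)))
    (fun h5 => m₂ (by simpa only [inv_mul_cancel_left] using mul_mem (inv_mem h5) h3))
    (by rw [cent1J]; exact Tr.conj_mem_cj.2 (sub_cent1.2 h1 h₁)) he
  obtain ⟨c, hc, h5⟩ : ∃ c ∈ E ⊓ 𝐂(zpowers g), c ∉ F ⊔ F' := by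
    by_contra h5
    push Not at h5
    refine h (centS ((coprime_cent_prod (cycle_subG.2 hg'.2) (cop2 (by rwa [card_cycle]) x.two).symm
      (Or.inr (pgroup_sol x.two))).sup.ge.trans (sup_le ?_ h5)) ((centY F F').ge ⟨hy.2.1, h1⟩))
    rw [commGC]
    exact comm_le_of_le_cmod (cycle_subG.2 ((mem_cmod' (sup_le l.le hE')).2 h4))
  obtain ⟨a, ha, h6⟩ := l.tr x.toCtx (hE' h₁) m₁ hc.1 fun h => h5 (mem_sup_left h)
  have haC := l.Y_cent x.toCtx ha.1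
  have hF'' := x.cj F' hF' a ha.2
  have hne' : F ≠ Tr.cj a F' := fun e => m₁ ((memJ_norm (cent_sub F haC)).1
    (e.ge (Tr.conj_mem_cj.2 h₁)))
  have hy' := UU_conj ha.2 haC hy
  have h7 : a * y * a⁻¹ ∈ 𝐂(Tr.cj a F') := by rw [centJ]; exact Tr.conj_mem_cj.2 h1
  have h8 : a * y * a⁻¹ ∉ 𝐂(E) := fun h5 => h ((memJ_norm (cent_norm E ha.2)).1 h5)
  have h9 : c ∈ F ⊔ Tr.cj a F' := by
    simpa only [inv_mul_cancel_left] using (F ⊔ Tr.cj a F').mul_mem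
      (mem_sup_right (inv_mem (Tr.conj_mem_cj.2 h₁))) (mem_sup_left h6)
  have h10 : F ⊔ Tr.cj a F' ≤ 𝐂[a * y * a⁻¹] := sup_le (sub_cent1.2 hy'.2.1) (sub_cent1.2 h7)
  have h11 := x.k4' hF hF'' hne' hy' h7 h8 hg'.2 hgC h9 (fun h => h5 (mem_sup_left h)) (by
    rw [cent1J, ← cent1_conj'.1 ((cent_cycle g).le hc.2)]
    exact Tr.conj_mem_cj.2 (h10 h9)) (hE' h₁)
  have h12 : f₁ * f₂ ∈ 𝐂[a * y * a⁻¹] := by
    have := h10 (mul_mem (inv_mem h11) (mem_sup_left h3))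
    rwa [show (g * f₁ * g⁻¹ * f₁⁻¹)⁻¹ * (g * f₁ * g⁻¹ * f₂) = f₁ * f₂ by group] at this
  refine h5 (x.k2 hF hF' hne hy' (x.k1 hF hF' hne hy' (mem_sup_right (mul_mem h₁ h₂)) (fun h => hcc ?_)
    h12) h8 hc.1 (by rw [c1.2 (h10 h9)]; exact one_mem _))
  rw [← x.inv (hE' h₁), ← mul_eq_one_iff_inv_eq]
  exact x.ti F hF F' hF' hne _ h (mul_mem h₁ h₂)

theorem k6 (hy : y ∈ UU E F) (h : y ∉ 𝐂(E)) (he : e ∈ E) (h1 : e ∉ F) (h2 : e ∈ 𝐂[y]) :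
    (∀ f₁ ∈ F, ∀ f₂ ∈ F, f₁ ≠ 1 → f₂ ≠ 1 → f₁ * f₂ = 1) ∧
      ∀ e' ∈ E, e' ∈ 𝐂[y] → e' ∈ F ∨ e * e' ∈ F := by
  obtain ⟨F', hF', hne, f, hf, h3⟩ := x.cover hF he h1
  have h4 : e ∈ F ⊔ F' := by
    simpa only [inv_mul_cancel_left] using (F ⊔ F').mul_mem (mem_sup_right (inv_mem hf))
      (mem_sup_left h3)
  have h5 := x.k1 hF hF' hne hy h4 h1 h2
  refine ⟨fun f₁ h₁ f₂ h₂ n₁ n₂ => ?_, fun e' he' h6 => ?_⟩
  · obtain ⟨n, hn, rfl⟩ := x.tr F hF F' hF'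
    have := x.k4 hF hF' hne hy h5 h (Tr.conj_mem_cj.2 h₁) (Tr.conj_mem_cj.2 h₂) (by simpa using n₁)
      (by simpa using n₂)
    rw [mul_left_cancel (mul_right_cancel this), x.ee (x.le hF h₂)]
  · obtain ⟨a, ha, a', ha', rfl⟩ := (mem_join_norm' ((x.le hF).trans (cents_norm
      (x.cents (x.le hF'))))).1 (x.k2 hF hF' hne hy h5 h he' (by rw [c1.2 h6]; exact one_mem _))
    by_cases h7 : a' = 1
    · exact Or.inl (by simpa [h7] using ha)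
    rw [x.k4 hF hF' hne hy h5 h ha' hf h7 fun e => h1 (by simpa [e] using h3),
      x.comm (x.le hF ha) (x.le hF' hf), ← mul_assoc, x.comm he (x.le hF' hf)]
    exact Or.inr (mul_mem h3 ha)

theorem stepA (hy : y ∈ YY E F ⊓ 𝐍(E)) (h2 : El2 y) : y ∈ 𝐂(E) := by
  by_contra h
  obtain ⟨b, l⟩ := x.loc hF
  obtain ⟨S, hS, h1⟩ := Tr.exists_sylowIn_ge (pgroup_sup_elt x.two h2 hy.2)
    (sup_le_sup_left (cycle_subG.2 hy.1) E)
  have hES := le_sup_left.trans h1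
  have hn : S ≤ 𝐍(YY E F) := hS.le.trans (sup_le (l.E_normY x.toCtx) (normG _))
  have hQ := hS.inf_of_le_normalizer le_sup_right hn
  obtain ⟨Q, hQ'⟩ : ∃ Q, Q = S ⊓ YY E F := ⟨_, rfl⟩
  rw [← hQ'] at hQ
  have hA : Q ≤ YY E F ⊓ 𝐍(E) := le_inf hQ.le
    (hQ'.le.trans (inf_le_left.trans (x.le_norm hS.isPGroup hES)))
  have hyQ : y ∈ Q := hQ'.ge ⟨h1 (mem_sup_elt E y), hy.1⟩
  have hU : ∀ {z}, z ∈ Q → z ∈ UU E F := fun hz => l.two_UU x.toCtx (hA hz) (pgroup_mem hQ.isPGroup hz)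
  have hsq : ∀ {z}, z ∈ Q → z ∉ 𝐂(E) → ∃ e ∈ E, e ∉ F ∧ e ∈ 𝐂[z] ∧ z * z * e ∈ Gb E b F :=
    fun hz => l.exists_sq x.toCtx (hA hz) (pgroup_mem hQ.isPGroup hz)
  have hN : ∀ {z}, z ∈ Q → z ∈ 𝐍(Gb E b F) := fun hz => l.cmp.norm_Gam (mem_sup_left (hQ.le hz))
  have hN' : E ≤ 𝐍(Gb E b F) := (le_inf (x.cent1 l.mem) ((l.E_le x.toCtx).trans
    (l.cent_normL x.toCtx))).trans (norm_Gam' _ _)
  have hπ : ∀ {z e}, z ∈ Q → e ∈ E → z * z * e ∈ Gb E b F →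
      cst (Gb E b F) z * cst (Gb E b F) z = cst (Gb E b F) e := fun hz he h => by
    rw [← cst_mul (hN hz) (hN hz), cst_eq_iff' (mul_mem (hN hz) (hN hz)) (hN' he), x.inv he]
    exact h
  have hπ' : ∀ {e e'}, e ∈ E → e' ∈ E → e * e' ∈ F → cst (Gb E b F) e = cst (Gb E b F) e' :=
    fun he he' h => by
      rw [cst_eq_iff' (hN' he) (hN' he'), x.inv he']
      exact l.le_Gb h
  have h3 : ∀ {z w}, z ∈ Q → z ∉ 𝐂(E) → w ∈ Q → w ∈ 𝐂(E) → cst (Gb E b F) z * cst (Gb E b F) w *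
      (cst (Gb E b F) z * cst (Gb E b F) w) = cst (Gb E b F) z * cst (Gb E b F) z := by
    intro z w hz z1 hw w1
    obtain ⟨e, he, e1, e2, e3⟩ := hsq hz z1
    obtain ⟨e', he', e1', e2', e3'⟩ := hsq (mul_mem hz hw) fun h => z1 (by
      simpa using mul_mem h (inv_mem w1))
    rw [← cst_mul (hN hz) (hN hw), hπ hz he e3, hπ (mul_mem hz hw) he' e3']
    refine (hπ' he he' (((x.k6 hF (hU hz) z1 he e1 e2).2 e' he' (sub_cent1.2 ?_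
      (mem_zpowers e'))).resolve_left e1')).symm
    simpa using mul_mem (sub_cent1.1 (cycle_subG.2 e2')) (inv_mem (centS (cycle_subG.2 he') w1))
  obtain ⟨e, he, e1, e2, e3⟩ := hsq hyQ h
  obtain ⟨k1, k2⟩ := x.k6 hF (hU hyQ) h he e1 e2
  obtain ⟨a, ha, h4⟩ := l.moves x.toCtx he e1
  obtain ⟨w, hw, n, hn', rfl⟩ := (hQ.mono (le_inf hA fun _ => hU) (inf_le_left.trans
    inf_le_left)).frattini (x := a) (Tr.mem_normalizer_of_forall fun z hz => ⟨(YY E F ⊓ 𝐍(E)).mul_mem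
      (mul_mem ha hz.1) (inv_mem ha), UU_conj ha.2 (l.Y_cent x.toCtx ha.1) hz.2⟩)
  have hnA : n ∈ YY E F ⊓ 𝐍(E) := (mul_mem_cancel_left (H := YY E F ⊓ 𝐍(E)) hw.1).1 ha
  have h5 := (memJ_norm hn').2 hyQ
  have h6 := (memJ_norm hnA.2).2 he
  have h7 : y * (n * y * n⁻¹) ∉ 𝐂(E) := fun h7 => by
    have h8 : n * e * n⁻¹ ∈ 𝐂[y] := sub_cent1.2 ((mul_mem_cancel_right (sub_cent1.1 (cycle_subG.2
      (cent1J n y ▸ Tr.conj_mem_cj.2 e2)))).1 (centS (cycle_subG.2 h6) h7)) (mem_zpowers _)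
    refine (k2 _ h6 h8).elim (fun h => e1 ((memJ_norm (cent_sub F (l.Y_cent x.toCtx hnA.1))).1 h))
      fun h9 => h4 ?_
    have := mul_mem (hw.2.2.2.2 _ h6) (x.comm he h6 ▸ h9)
    rwa [show w * (n * e * n⁻¹) * w⁻¹ * (n * e * n⁻¹)⁻¹ * (n * e * n⁻¹ * e) =
      w * n * e * (w * n)⁻¹ * e by group] at this
  have h8 : ∀ w ∈ Q, w ∈ 𝐂(E) → cst (Gb E b F) y * cst (Gb E b F) w =
      cst (Gb E b F) w * cst (Gb E b F) y := fun w hw w1 =>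
    comm_of_three (h3 hyQ h hw w1) (h3 h5 (fun h5 => h ((memJ_norm (cent_norm E hnA.2)).1 h5)) hw w1)
      (cst_mul (hN hyQ) (hN h5) ▸ h3 (mul_mem hyQ h5) h7 hw w1)
  refine h (l.cent_of_sq x.toCtx hy ((l.prp x.toCtx).zen Q (hQ.trans le_sup_left ?_)
    (hQ' ▸ normsI (normsG hES) (l.E_normY x.toCtx)) y hyQ fun z hz => ?_))
  · rw [LL, ← (norm_joinEl (l.Y_le.trans (pcore_norm _ _))).relIndex_eq', ← even_iff_two_dvd,
      Nat.not_even_iff_odd]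
    exact (odd_core _).of_dvd_nat (relIndex_dvd_card _ _)
  rw [show y * z * y⁻¹ * z⁻¹ = y * z * (z * y)⁻¹ by group, ← Gb, ← cst_eq_iff' (hN (mul_mem hyQ hz))
    (hN (mul_mem hz hyQ)), cst_mul (hN hyQ) (hN hz), cst_mul (hN hz) (hN hyQ)]
  by_cases z1 : z ∈ 𝐂(E)
  · exact h8 z hz z1
  by_cases z2 : y * z ∈ 𝐂(E)
  · have := h8 _ (mul_mem hyQ hz) z2
    rwa [cst_mul (hN hyQ) (hN hz), mul_assoc, mul_right_inj] at this
  obtain ⟨e', he', e1', e2', e3'⟩ := hsq hz z1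
  obtain ⟨c, hc, c1', c2, c3⟩ := hsq (mul_mem hyQ hz) z2
  obtain ⟨-, k3⟩ := x.k6 hF (hU hz) z1 he' e1' e2'
  have h9 : ∀ t ∈ E, t ∉ 𝐂[y] → t ∉ 𝐂[z] → t ∈ 𝐂[y * z] := fun t ht t1 t2 => c1.1 (by
    rw [UU_mul (hU hyQ) (hU hz) ht]
    exact k1 _ ((hU hz).2.2.2 t ht) _ ((hU hyQ).2.2.2 t ht) (fun h => t2 (c1.1 h)) fun h => t1 (c1.1 h))
  have hFy := sub_cent1.2 (hU hyQ).2.1
  have hFz := sub_cent1.2 (hU hz).2.1
  have h10 : e * e' ∉ F := fun h10 => z2 (sub_cent1.1 fun t ht => by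
    have h11 : t ∈ 𝐂[y] ↔ t ∈ 𝐂[z] := ⟨fun h => (k2 t ht h).elim (fun h => hFz h) fun h =>
      (mul_mem_cancel_left ((mul_mem_cancel_right e2').1 (hFz h10))).1 (hFz h),
      fun h => (k3 t ht h).elim (fun h => hFy h) fun h =>
      (mul_mem_cancel_left ((mul_mem_cancel_left e2).1 (hFy h10))).1 (hFy h)⟩
    by_cases h12 : t ∈ 𝐂[y]
    · exact sub_cent1.2 (mul_mem (sub_cent1.1 (cycle_subG.2 h12))
        (sub_cent1.1 (cycle_subG.2 (h11.1 h12)))) (mem_zpowers t)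
    · exact h9 t ht h12 fun h => h12 (h11.2 h))
  have h11 := ((x.k6 hF (hU (mul_mem hyQ hz)) z2 hc c1' c2).2 _ (mul_mem he he') (h9 _ (mul_mem he he')
    (fun h => (k2 e' he' (by simpa using mul_mem (inv_mem e2) h)).elim e1' h10) fun h =>
      (k3 e he (by simpa using mul_mem h (inv_mem e2'))).elim e1 fun h => h10
        (x.comm he he' ▸ h))).resolve_left h10
  have h12 := hπ (mul_mem hyQ hz) hc c3
  rw [hπ' hc (mul_mem he he') h11, cst_mul (hN' he) (hN' he'), ← hπ hyQ he e3, ← hπ hz he' e3',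
    cst_mul (hN hyQ) (hN hz), mul_assoc, mul_assoc, mul_right_inj, ← mul_assoc, ← mul_assoc,
    mul_left_inj] at h12
  exact h12.symm

end Fa

end Cfsg.Agent.GO
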