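import Cfsg.Agent.Lib.GO.LinA2

/-! The TI case, step B: `|F| = 2`, `N(E)` is transitive and `E` is central in a Sylow subgroup. -/

set_option autoImplicit false
set_option linter.unusedSectionVars false
set_option linter.unusedVariables false

namespace Cfsg.Agent.GO

open Subgroup Cfsg.Agent.FT Cfsg.Agent.SF Cfsg.Agent.SF.GP Cfsg.Agent.SC
open Cfsg.Agent.Tr (SylowIn)

universe u

variable {G : Type u} [Group G] [Finite G] {T : Set G} {E F F' S : Subgroup G} {b e e' : G}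
  {Φ : Set (Subgroup G)}

/-- the complement of `F` in `E` -/
def EE (E F : Subgroup G) : Subgroup G := ⁅E, YY E F ⊓ 𝐍(E)⁆

theorem EE_le (E F : Subgroup G) : EE E F ≤ E := commg_subl.2 inf_le_right

theorem norm_EE (E F : Subgroup G) : YY E F ⊓ 𝐍(E) ≤ 𝐍(EE E F) := commg_normr _ _

theorem EE_cj {n : G} (hn : n ∈ 𝐍(E)) (F : Subgroup G) : EE E (cj n F) = cj n (EE E F) := by
  rw [EE, EE, Tr.cj_commutator, Tr.cj_inf, ← normJ, Tr.cj_eq_iff.2 hn, YY_cj hn]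

theorem norm_EE' {n : G} (hn : n ∈ 𝐍(E)) (h : n ∈ 𝐍(F)) : n ∈ 𝐍(EE E F) :=
  Tr.cj_eq_iff.1 (by rw [← EE_cj hn, Tr.cj_eq_iff.2 h])

namespace Fa

variable (x : Fa T E Φ) (hF : F ∈ Φ)
include x hF

theorem exists_K : ∃ K, Odd #|K| ∧ K ≤ YY E F ⊓ 𝐍(E) ∧
    ∀ a ∈ YY E F ⊓ 𝐍(E), ∃ k ∈ K, ∀ e ∈ E, a * e * a⁻¹ = k * e * k⁻¹ := by
  obtain ⟨P, hP⟩ := Tr.exists_sylowIn (p := 2) (YY E F ⊓ 𝐍(E))
  have h1 : P ≤ 𝐂(E) := fun y hy => x.stepA hF (hP.le hy) (pgroup_mem hP.isPGroup hy)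
  obtain ⟨K, h2, h3, h4⟩ := exists_compl hP
  refine ⟨K, h2, h3.trans inf_le_left, fun a ha => ?_⟩
  obtain ⟨c, hc, n, hn, rfl⟩ := (hP.mono (le_inf hP.le h1) inf_le_left).frattini
    (normsI (normsG (cycle_subG.2 ha)) (cycle_subG.2 (cent_norm E ha.2)) (mem_zpowers a))
  obtain ⟨p, hp, k, hk, rfl⟩ := h4 n ⟨(mul_mem_cancel_left (H := YY E F ⊓ 𝐍(E)) hc.1).1 ha, hn⟩
  refine ⟨k, hk, fun e he => ?_⟩
  rw [← cent1_conj.1 (cent_le_cent1 ((memJ_norm (h3 hk).1.2).2 he) (mul_mem hc.2 (h1 hp)))]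
  group

theorem EE_ti (he : e ∈ EE E F) (h : e ∈ F) : e = 1 := by
  obtain ⟨K, h1, h2, h3⟩ := x.exists_K hF
  obtain ⟨b, l⟩ := x.loc hF
  refine (coprime_abel_cent_TI (h2.trans inf_le_right) (cop2 h1 x.two).symm x.elem.1).le
    ⟨commutator_le.2 (fun e he a ha => ?_) he,
      centsC.1 (h2.trans (inf_le_left.trans (l.Y_cent x.toCtx))) h⟩
  obtain ⟨k, hk, h4⟩ := h3 a ha
  rw [commutatorElement_def, mul_assoc, mul_assoc, ← mul_assoc a, h4 _ (inv_mem he), ← mul_assoc,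
    ← mul_assoc]
  exact commutator_mem_commutator he hk

theorem EE_sup : EE E F ⊔ F = E := by
  obtain ⟨K, h1, h2, h3⟩ := x.exists_K hF
  obtain ⟨b, l⟩ := x.loc hF
  refine le_antisymm (sup_le (EE_le E F) l.le) ((coprime_cent_prod (h2.trans inf_le_right)
    (cop2 h1 x.two).symm (Or.inr (pgroup_sol x.two))).sup.ge.trans
      (sup_le_sup (commgS E h2) fun e he => by_contra fun h => ?_))
  obtain ⟨a, ha, h4⟩ := l.moves x.toCtx he.1 h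
  obtain ⟨k, hk, h5⟩ := h3 a ha
  rw [h5 e he.1, mem_cent.1 he.2 k hk, mul_inv_cancel_right, x.ee he.1] at h4
  exact h4 (one_mem _)

theorem EE_tr (he : e ∈ EE E F) (h1 : e ≠ 1) (he' : e' ∈ EE E F) (h1' : e' ≠ 1) :
    ∃ a ∈ YY E F ⊓ 𝐍(E), a * e * a⁻¹ = e' := by
  obtain ⟨b, l⟩ := x.loc hF
  obtain ⟨a, ha, h⟩ := l.tr x.toCtx (EE_le E F he) (fun h => h1 (x.EE_ti hF he h)) (EE_le E F he')
    fun h => h1' (x.EE_ti hF he' h)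
  refine ⟨a, ha, ?_⟩
  rw [← x.inv (EE_le E F he'), ← mul_eq_one_iff_eq_inv]
  exact x.EE_ti hF (mul_mem ((memJ_norm (norm_EE E F ha)).2 he) he') h

theorem dec' (hF' : F' ∈ Φ) (h : ∀ e ∈ EE E F, e ∈ F' → e = 1) (he : e ∈ E) :
    ∃ f ∈ F', ∃ a ∈ EE E F, f * a = e := by
  have hn : ∀ {B}, B ≤ E → B ≤ 𝐍(EE E F) := fun hB => hB.trans (cents_norm (x.cents (EE_le E F)))
  obtain ⟨n, -, rfl⟩ := x.tr F hF F' hF'
  refine (mem_join_norm' (hn (x.le hF'))).1 (sup_comm (EE E F) _ ▸ (eq_of_le_of_card_ge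
    (sup_le (EE_le E F) (x.le hF')) ?_).ge he)
  rw [TI_cardMg (hn (x.le hF')) (eq_bot_iff.2 fun e he => h e he.1 he.2), Tr.card_cj,
    ← TI_cardMg (hn (x.le hF)) (eq_bot_iff.2 fun e he => x.EE_ti hF he.1 he.2), x.EE_sup hF]

theorem dec (he : e ∈ E) : ∃ f ∈ F, ∃ a ∈ EE E F, f * a = e :=
  x.dec' hF hF (fun _ => x.EE_ti hF) he

theorem b1' (hF' : F' ∈ Φ) (hne : F ≠ F') (h : ∀ e ∈ EE E F, e ∈ F' → e = 1) (he : e ∈ E)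
    (h1 : e ∉ EE E F) : ∃ F'' ∈ Φ, e ∈ F'' := by
  obtain ⟨f, hf, a, ha, rfl⟩ := x.dec hF he
  by_cases a1 : a = 1
  · exact ⟨F, hF, by simpa [a1] using hf⟩
  obtain ⟨f', hf', a', ha', h2⟩ := x.dec' hF hF' h (x.le hF hf)
  obtain ⟨b, l⟩ := x.loc hF
  obtain ⟨g, hg, h3⟩ := x.EE_tr hF (inv_mem ha') (fun e => h1 (by
    rw [inv_eq_one.1 e, mul_one] at h2
    rwa [x.ti F hF F' hF' hne f hf (h2 ▸ hf'), one_mul])) ha a1
  refine ⟨_, x.cj F' hF' g hg.2, Tr.mem_cj'.2 ⟨f', hf', ?_⟩⟩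
  rw [← h3, ← cent1_conj.1 (cent_le_cent1 hf (l.Y_cent x.toCtx hg.1)), ← h2]
  group

theorem b1 : ∃ F' ∈ Φ, ∃ e ∈ EE E F, e ∈ F' ∧ e ≠ 1 := by
  by_contra hc
  push Not at hc
  obtain ⟨F', hF', hne⟩ := x.exists_ne hF
  obtain ⟨b, l⟩ := x.loc hF
  rcases x.irr _ (EE_le E F) (fun n hn => Tr.mem_normalizer_of_forall fun e he => by_contra fun h => by
    obtain ⟨F'', h1, h2⟩ := x.b1' hF hF' hne (hc F' hF') ((memJ_norm hn).2 (EE_le E F he)) h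
    rw [hc _ (x.cj _ h1 _ (inv_mem hn)) e he (Tr.mem_cj_inv.2 h2)] at h
    exact h (by simp)) with h | h
  · exact l.ne_E x.toCtx (by simpa [h] using x.EE_sup hF)
  · exact l.ne (x.EE_ti hF (h.ge l.mem) l.memF)

theorem b2 (hF' : F' ∈ Φ) (he : e ∈ EE E F) (he' : e ∈ F') (h1 : e ≠ 1) : F' ≤ EE E F := by
  obtain ⟨K, h2, h3, h4⟩ := x.exists_K hF
  obtain ⟨b, l⟩ := x.loc hF
  have hne : F ≠ F' := fun h => h1 (x.EE_ti hF he (h ▸ he'))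
  refine (coprime_cent_prod (A := K ⊓ 𝐍(F')) inf_le_right (cop2 (odd_of_le inf_le_left h2)
    (pgroup_sub (x.le hF') x.two)).symm (Or.inr (pgroup_sol (pgroup_sub (x.le hF') x.two)))).sup.ge.trans
    (sup_le (commgSS (x.le hF') (inf_le_left.trans h3)) fun c hc => by_contra fun h5 => h1 ?_)
  obtain ⟨f, hf, a, ha, rfl⟩ := x.dec hF (x.le hF' hc.1)
  have h6 : ∀ t, f * t ∈ F' → t ≠ 1 := fun t h e => h5 (by
    rw [e, mul_one] at h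
    rwa [x.ti F hF F' hF' hne f hf h, one_mul])
  obtain ⟨g, hg, h7⟩ := x.EE_tr hF ha (h6 a hc.1) (mul_mem ha he)
    (h6 _ (mul_assoc f a e ▸ mul_mem hc.1 he'))
  obtain ⟨k, hk, h8⟩ := h4 g hg
  have h9 : k * (f * a) * k⁻¹ = f * a * e := by
    rw [← h8 _ (x.le hF' hc.1), mul_assoc f, ← h7, ← mul_assoc g,
      ← mem_cent.1 (l.Y_cent x.toCtx hg.1) f hf]
    group
  rwa [mem_cent.1 hc.2 k ⟨hk, x.norm_of hF' (h3 hk).2 hc.1 (fun h => h5 (h ▸ one_mem _))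
    (h9 ▸ mul_mem hc.1 he')⟩, mul_inv_cancel_right, left_eq_mul] at h9

theorem exists_le : ∃ F' ∈ Φ, F ≤ EE E F' := by
  obtain ⟨F', hF', e, h1, h2, h3⟩ := x.b1 hF
  obtain ⟨n, hn, h⟩ := x.tr F' hF' F hF
  exact ⟨_, x.cj F hF n hn, by rw [EE_cj hn]; exact h.ge.trans (Tr.cj_mono n (x.b2 hF hF' h1 h2 h3))⟩

theorem cover1 (he : e ∈ EE E F) (h1 : e ≠ 1) : ∃ F' ∈ Φ, e ∈ F' := by
  obtain ⟨F', hF', e', h2, h3, h4⟩ := x.b1 hF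
  obtain ⟨a, ha, rfl⟩ := x.EE_tr hF h2 h4 he h1
  exact ⟨_, x.cj F' hF' a ha.2, Tr.conj_mem_cj.2 h3⟩

omit hF

variable (hG : ⁅(⊤ : Subgroup G), (⊤ : Subgroup G)⁆ = ⊤)
include hG

theorem b3 : ∃ F ∈ Φ, ∃ F' ∈ Φ, F ≠ F' ∧ ∀ e ∈ EE E F, e ∈ F' → e = 1 := by
  by_contra hc
  push Not at hc
  have h1 : ∀ F ∈ Φ, ∀ F' ∈ Φ, F ≠ F' → F' ≤ EE E F := fun F hF F' hF' hne => by
    obtain ⟨e, h1, h2, h3⟩ := hc F hF F' hF' hne
    exact x.b2 hF hF' h1 h2 h3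
  obtain ⟨F, hF⟩ := x.ne
  obtain ⟨F', hF', hne⟩ := x.exists_ne hF
  have h2 : ∀ F'' ∈ Φ, F ≠ F'' → F' = F'' := fun F'' hF'' h => by_contra fun h' => by
    obtain ⟨b, l⟩ := x.loc hF'
    obtain ⟨c, l'⟩ := x.loc hF''
    have h3 : b * c ∉ F' := fun h => l'.ne (x.ti _ hF' _ hF'' h' c
      ((mul_mem_cancel_left l.memF).1 h) l'.memF)
    obtain ⟨F₃, h4, h5⟩ := x.cover1 hF (mul_mem (h1 _ hF _ hF' hne l.memF) (h1 _ hF _ hF'' h l'.memF))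
      fun e => h3 (e ▸ one_mem _)
    exact l.ne (x.EE_ti hF' ((mul_mem_cancel_right (h1 _ hF' _ hF'' h' l'.memF)).1
      (h1 _ hF' _ h4 (fun e => h3 (e ▸ h5)) h5)) l.memF)
  obtain ⟨n, hn, h3⟩ := x.tr F hF F' hF'
  refine hne (h3.symm.trans (Tr.cj_eq_iff.2 (x.toSce.no_index_two hG (fun n hn n' hn' h h' => ?_)
    hn))).symm
  have h4 := h2 _ (x.cj F hF n hn) fun e => h (Tr.cj_eq_iff.1 e.symm)
  have h5 := h2 _ (x.cj F hF n' hn') fun e => h' (Tr.cj_eq_iff.1 e.symm)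
  rw [← Tr.cj_eq_iff, Tr.cj_mul, ← h5]
  by_contra h6
  exact hne (Tr.cj_inj.1 (h4.symm.trans (h2 _ (x.cj F' hF' n hn) (Ne.symm h6))))

theorem covers (he : e ∈ E) (h1 : e ≠ 1) : ∃ F ∈ Φ, e ∈ F := by
  obtain ⟨F, hF, F', hF', hne, h⟩ := x.b3 hG
  by_cases h2 : e ∈ EE E F
  exacts [x.cover1 hF h2 h1, x.b1' hF hF' hne h he h2]

theorem trs : Trs ⊤ E := fun e he h1 e' he' h1' => by
  obtain ⟨F, hF, h2⟩ := x.covers hG he h1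
  obtain ⟨F', hF', h3⟩ := x.covers hG he' h1'
  obtain ⟨n, hn, rfl⟩ := x.tr F hF F' hF'
  obtain ⟨F'', h4, h5⟩ := x.exists_le hF'
  obtain ⟨a, ha, h6⟩ := x.EE_tr h4 (h5 (Tr.conj_mem_cj.2 h2)) (by simpa using h1) (h5 h3) h1'
  exact ⟨a * n, mem_top _, mul_mem ha.2 hn, by rw [← h6]; group⟩

theorem b4 (hF : F ∈ Φ) {f₁ f₂ : G} (h₁ : f₁ ∈ F) (h₂ : f₂ ∈ F) (n₁ : f₁ ≠ 1) (n₂ : f₂ ≠ 1) :
    f₁ = f₂ := by
  by_contra hc
  have sym : ∀ F₁ ∈ Φ, ∀ F₂ ∈ Φ, F₂ ≤ EE E F₁ → F₁ ≤ EE E F₂ := fun F₁ k1 F₂ k2 h => by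
    by_contra h1
    obtain ⟨n, hn, rfl⟩ := x.tr F hF F₂ k2
    have m₁ := Tr.conj_mem_cj (g := n).2 h₁
    have m₂ := Tr.conj_mem_cj (g := n).2 h₂
    have p₁ : n * f₁ * n⁻¹ ≠ 1 := by simpa using n₁
    obtain ⟨g, hg, h2⟩ := x.EE_tr k1 (h m₁) p₁ (h m₂) (by simpa using n₂)
    obtain ⟨f, hf, a, ha, h3⟩ := x.dec' k2 k1 (fun e he he' => by_contra fun e1 =>
      h1 (x.b2 k2 k1 he he' e1)) (x.le k2 m₁)
    obtain ⟨b, l⟩ := x.loc k1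
    have h4 := x.EE_ti k2 (mul_mem (inv_mem ha) ((memJ_norm (norm_EE' hg.2
      (x.norm_of k2 hg.2 m₁ p₁ (h2 ▸ m₂)))).2 ha)) (by
        have := mul_mem (inv_mem m₁) m₂
        rwa [← h2, ← h3, ← mul_assoc g, ← mem_cent.1 (l.Y_cent x.toCtx hg.1) f hf,
          show (f * a)⁻¹ * (f * g * a * g⁻¹) = a⁻¹ * (g * a * g⁻¹) by group] at this)
    rw [← h3, ← mul_assoc g, ← mem_cent.1 (l.Y_cent x.toCtx hg.1) f hf, mul_assoc f, mul_assoc f,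
      ← inv_mul_eq_one.1 h4, h3] at h2
    exact hc (mul_left_cancel (mul_right_cancel h2))
  obtain ⟨S, hS, hE⟩ := Tr.exists_sylowIn_ge x.two le_top
  have hn := x.le_norm hS.isPGroup hE
  obtain ⟨z, hz, z1⟩ := trivgPn.1 (pgroup_fix_ne_bot hS.isPGroup x.two hn fun e =>
    n₁ (e.le (x.le hF h₁)))
  obtain ⟨F₁, k1, h1⟩ := x.covers hG hz.1 z1
  obtain ⟨b, l⟩ := x.loc k1
  obtain ⟨e, he, e1⟩ := trivgPn.1 (pgroup_fix_ne_bot hS.isPGroup (pgroup_sub (EE_le E F₁) x.two)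
    (fun s hs => norm_EE' (hn hs) (x.norm_of k1 (hn hs) h1 z1 (by
      rwa [mem_cent.1 hz.2 s hs, mul_inv_cancel_right])))
    fun e => l.ne_E x.toCtx (by simpa [e] using x.EE_sup k1))
  obtain ⟨F₂, k2, h2⟩ := x.cover1 k1 he.1 e1
  obtain ⟨n, -, h3, h4⟩ := x.trs hG z hz.1 z1 e (x.le k2 h2) e1
  have h5 : Tr.cj n F₁ = F₂ := by_contra fun h => e1 (x.ti _ (x.cj _ k1 n h3) _ k2 h e
    (h4 ▸ Tr.conj_mem_cj.2 h1) h2)
  obtain ⟨a, ha, h6⟩ := x.EE_tr k2 (e := n * e * n⁻¹) (by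
    rw [← h5, EE_cj h3]; exact Tr.conj_mem_cj.2 he.1) (by simpa using e1)
    (sym _ k1 _ k2 (x.b2 k1 k2 he.1 h2 e1) h1) z1
  obtain ⟨c, l'⟩ := x.loc k2
  have h7 : a * n * z * (a * n)⁻¹ = e := by
    rw [← cent1_conj.1 (cent_le_cent1 h2 (l'.Y_cent x.toCtx ha.1)), ← h4]; group
  have h8 : a * n * e * (a * n)⁻¹ = z := by rw [← h6]; group
  have h9 : S ≤ 𝐂[z] ⊓ 𝐂[e] := le_inf (sub_cent1.2 hz.2) (sub_cent1.2 he.2)
  refine (hS.mono (h9.trans le_sup_left) le_top).not_dvd_relIndex_of_le h9 le_sup_left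
    (relIndex_sup2 (A := 𝐂[z] ⊓ 𝐂[e]) (x := a * n) (Tr.cj_eq_iff.1 (by
      rw [Tr.cj_inf, ← cent1J, ← cent1J, h7, h8, inf_comm]))
      (mem_inf.2 ⟨cent1_conj.2 ?_, cent1_conj.2 ?_⟩) fun h => e1 (x.EE_ti k1 he.1 ?_)).symm.dvd
  · conv_rhs => rw [← h8, ← h7]
    group
  · conv_rhs => rw [← h7, ← h8]
    group
  · rwa [← h7, cent1_conj.1 h.1]

theorem zp (he : e ∈ E) (h1 : e ≠ 1) : zpowers e ∈ Φ := by
  obtain ⟨F, hF, h2⟩ := x.covers hG he h1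
  rwa [le_antisymm (cycle_subG.2 h2) fun f hf => by
    by_cases f1 : f = 1
    exacts [f1 ▸ one_mem _, x.b4 hG hF h2 hf h1 f1 ▸ mem_zpowers e]]

theorem b5 (hS : IsPGroup 2 S) (hE : E ≤ S) : S ≤ 𝐂(E) := by
  by_contra h
  have hn := x.le_norm hS hE
  have h1 := commg_subl.2 hn
  obtain ⟨c, hc, c1⟩ := trivgPn.1 (pgroup_fix_ne_bot hS (pgroup_sub h1 x.two) (commg_normr E S)
    fun e => h (centsC.1 (commG1P.1 e)))
  have hF := x.zp hG (h1 hc.1) c1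
  have h2 : S ≤ 𝐂(zpowers c) := centsC.1 (cycle_subG.2 hc.2)
  refine c1 (x.EE_ti hF (commutator_le.2 (fun e he s hs => ?_) hc.1) (mem_zpowers c))
  obtain ⟨f, hf, a, ha, rfl⟩ := x.dec hF he
  rw [x.comm (x.le hF hf) (EE_le _ _ ha), commutatorElement_def, mul_assoc a, mem_cent.1 (h2 hs) f hf,
    show a * (s * f) * (a * f)⁻¹ * s⁻¹ = a * (s * a⁻¹ * s⁻¹) by group]
  exact mul_mem ha ((memJ_norm (norm_EE' (hn hs) (cent_sub _ (h2 hs)))).2 (inv_mem ha))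

end Fa

end Cfsg.Agent.GO
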