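import Cfsg.Agent.Lib.GO.Core

/-! Components of the centralizers of the involutions of `E`. -/

set_option autoImplicit false
set_option linter.unusedSectionVars false
set_option linter.unusedVariables false

namespace Cfsg.Agent.GO

open Subgroup Cfsg.Agent.FT Cfsg.Agent.SF Cfsg.Agent.SF.GP Cfsg.Agent.SC
open Cfsg.Agent.Tr (SylowIn)

universe u

variable {G : Type u} [Group G] [Finite G] {T : Set G} {E H L L' F F' X : Subgroup G} {b : G}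

namespace Cmp

variable (c : Cmp T H L) (p : Prp E H L) (h : Sce T E) (hE : E ≤ H)
include c p h hE

theorem E_norm : E ≤ 𝐍(L) := (h.le_NN hE).trans c.nrm

theorem eq_of_le (c' : Cmp T H L') (hle : E ⊓ Gam H L' ≤ Gam H L) : L = L' := by
  by_contra hne
  refine c.not_E_le h.toScl hE fun e he => ?_
  obtain ⟨a, ha, h1⟩ := p.dec h (c.E_norm p h hE) he
  simpa using mul_mem (inv_mem (hle ⟨ha.1, c'.two c hne ha.2⟩)) h1

theorem cent_norm : H ⊓ 𝐂(E ⊓ Gam H L) ≤ 𝐍(L) := fun g hg => by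
  have h1 : E ≤ NN T (H ⊓ 𝐂(E ⊓ Gam H L)) := h.le_NN (le_inf hE (h.cents inf_le_left))
  obtain ⟨k, hk, e⟩ := h.conj_eq (h.toScl.cj g) h1
    ((Tr.cj_mono g h1).trans (Tr.cj_eq_iff.2 ((h.fam.NN_nrm _).nz hg)).le)
  rw [← Tr.cj_mul] at e
  have h2 := mul_mem (NN_le _ _ hk) hg
  have h3 := c.eq_of_le p h hE (c.cj_mem h.fam h2.1) (by
    conv_lhs => rw [← e, ← Tr.cj_eq_of_mem h2.1, Gam_cj, ← Tr.cj_inf,
      Tr.cj_eq_of_mem_centralizer h2.2]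
    exact inf_le_right)
  simpa using mul_mem (inv_mem (c.nrm (NN_mono T inf_le_left hk))) (Tr.cj_eq_iff.1 h3.symm)

theorem odd_norm (hX : Odd #|X|) (hn : E ≤ 𝐍(X)) (hH : X ≤ H) : X ≤ 𝐍(L) :=
  le_of_comm_cent hX h.two hn ((commgS X (h.le_NN hE)).trans ((commg_subr.2
    (hH.trans (h.fam.NN_nrm H).nz)).trans c.nrm))
    ((inf_le_inf hH (centS inf_le_left)).trans (c.cent_norm p h hE))

end Cmp

/-- the covering group of a component -/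
def YY (E F : Subgroup G) : Subgroup G := ⁅𝐂(F), E⁆

/-- the centralizer of the component in `C(F)` -/
def GF (E F : Subgroup G) : Subgroup G := 𝐂(F) ⊓ cmod 𝐎(YY E F) (YY E F)

/-- the component in `C(b)` -/
def LL (E : Subgroup G) (b : G) (F : Subgroup G) : Subgroup G := YY E F ⊔ 𝐎(𝐂[b])

/-- the centralizer of the component in `C(b)` -/
def Gb (E : Subgroup G) (b : G) (F : Subgroup G) : Subgroup G := Gam 𝐂[b] (LL E b F)

/-- the minimal counterexample -/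
structure Ctx (T : Set G) (E : Subgroup G) : Prop extends Sce T E where
  ind : GN.{u} (Nat.card G)
  lt : ∀ b ∈ E, b ≠ 1 → 𝐂[b] ≠ ⊤
  irr : ∀ B ≤ E, 𝐍(E) ≤ 𝐍(B) → B = ⊥ ∨ B = E

/-- `F` is the centralizer in `E` of a component of `C(b)` -/
structure Loc (T : Set G) (E : Subgroup G) (b : G) (F : Subgroup G) : Prop where
  mem : b ∈ E
  ne : b ≠ 1
  cmp : Cmp T 𝐂[b] (LL E b F)
  eq : E ⊓ Gb E b F = F

theorem norm_YY (E F : Subgroup G) : 𝐂(F) ≤ 𝐍(YY E F) := commg_norml _ _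

theorem YY_anti (E : Subgroup G) (h : F ≤ F') : YY E F' ≤ YY E F := commSg E (centS h)

theorem YY_cj {n : G} (hn : n ∈ 𝐍(E)) (F : Subgroup G) : YY E (cj n F) = cj n (YY E F) := by
  rw [YY, YY, Tr.cj_commutator, centJ, Tr.cj_eq_iff.2 hn]

theorem LL_cj {n : G} (hn : n ∈ 𝐍(E)) (b : G) (F : Subgroup G) :
    LL E (n * b * n⁻¹) (cj n F) = cj n (LL E b F) := by
  rw [LL, LL, YY_cj hn, cent1J, pcoreJ, Tr.cj_sup]

theorem Gb_cj {n : G} (hn : n ∈ 𝐍(E)) (b : G) (F : Subgroup G) :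
    Gb E (n * b * n⁻¹) (cj n F) = cj n (Gb E b F) := by
  rw [Gb, Gb, LL_cj hn, cent1J, Gam_cj]

theorem mem_GF {x : G} : x ∈ GF E F ↔ x ∈ 𝐂(F) ∧ ∀ y ∈ YY E F, x * y * x⁻¹ * y⁻¹ ∈ 𝐎(YY E F) :=
  ⟨fun h => ⟨h.1, h.2.2⟩, fun h => ⟨h.1, pcore_char _ _ (norm_YY E F h.1), h.2⟩⟩

theorem GF_cj {n : G} (hn : n ∈ 𝐍(E)) (F : Subgroup G) : GF E (cj n F) = cj n (GF E F) := by
  ext x
  rw [Tr.mem_cj, mem_GF, mem_GF, centJ, Tr.mem_cj, YY_cj hn, pcoreJ]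
  refine and_congr_right fun _ => ⟨fun h y hy => ?_, fun h y hy => ?_⟩
  · have := Tr.mem_cj.1 (h _ (Tr.conj_mem_cj.2 hy))
    simpa [mul_assoc] using this
  · have := h _ (Tr.mem_cj.1 hy)
    rw [Tr.mem_cj]
    simpa [mul_assoc] using this

theorem Ctx.prp (x : Ctx T E) (hb : b ∈ E) (h1 : b ≠ 1) (c : Cmp T 𝐂[b] L) : Prp E 𝐂[b] L :=
  c.prp x.ind (by simpa using proper_card (lt_top_iff_ne_top.2 (x.lt b hb h1))) x.toSce (x.cent1 hb)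

theorem mem_Gam_self (b : G) (h : L ≤ 𝐂[b]) : b ∈ Gam 𝐂[b] L :=
  cent_le_Gam _ _ ⟨mem_cent1.2 rfl, sub_cent1.1 h⟩

/-- every component of `C(b)` comes from a subgroup `F` -/
theorem Ctx.loc (x : Ctx T E) (hb : b ∈ E) (h1 : b ≠ 1) (c : Cmp T 𝐂[b] L) :
    Loc T E b (E ⊓ Gam 𝐂[b] L) ∧ LL E b (E ⊓ Gam 𝐂[b] L) = L := by
  have p := x.prp hb h1 c
  have hE := x.cent1 hb
  have h2 : 𝐂(E ⊓ Gam 𝐂[b] L) ≤ 𝐂[b] := cent_le_cent1 ⟨hb, mem_Gam_self b c.le_H⟩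
  have h3 := (le_inf h2 le_rfl).trans (c.cent_norm p x.toSce hE)
  have h4 : LL E b (E ⊓ Gam 𝐂[b] L) = L := by
    refine le_antisymm (sup_le (commutator_le.2 fun g hg e he => ?_) c.D_le) ?_
    · obtain ⟨a, ha, h5⟩ := p.dec x.toSce (c.E_norm p x.toSce hE) he
      have h6 := mem_cent.1 hg _ ⟨mul_mem ha.1 he, h5⟩
      rw [commutatorElement_def, show g * e * g⁻¹ * e⁻¹ = g * a⁻¹ * g⁻¹ * (g * (a * e)) * g⁻¹ * e⁻¹ by
        group, ← h6, show g * a⁻¹ * g⁻¹ * (a * e * g) * g⁻¹ * e⁻¹ = g * a⁻¹ * g⁻¹ * a by group]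
      exact mul_mem ((memJ_norm (h3 hg)).2 (inv_mem ha.2)) ha.2
    · have hD := pcore_norm {2}ᶜ 𝐂[b]
      refine ((c.dich hE (c.E_norm p x.toSce hE)).resolve_left (c.not_E_le x.toScl hE)).trans
        (sup_le ((commSg E (cover (odd_core _) (pgroup_sub inf_le_left x.two) c.D_le c.nD
          (inf_le_left.trans (hE.trans hD)) ((commGC _ _).le.trans ((commSg L inf_le_right).trans
            (comm_Gam _ L))))).trans (commMG_le (normsG le_sup_right) ((commg_subl.2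
              (hE.trans hD)).trans le_sup_right) ((commSg E inf_le_right).trans le_sup_left)
            (normsY (inf_le_right.trans (norm_YY _ _)) (inf_le_left.trans c.nD)))) le_sup_right)
  exact ⟨⟨hb, h1, h4.symm ▸ c, by rw [Gb, h4]⟩, h4⟩

namespace Loc

variable (l : Loc T E b F)
include l

theorem le : F ≤ E := l.eq.ge.trans inf_le_left

theorem le_Gb : F ≤ Gb E b F := l.eq.ge.trans inf_le_right

theorem mem_F {e : G} (he : e ∈ E) (h : e ∈ Gb E b F) : e ∈ F := l.eq.le ⟨he, h⟩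

theorem memF : b ∈ F := l.mem_F l.mem (mem_Gam_self b l.cmp.le_H)

theorem ne_bot : F ≠ ⊥ := fun e => l.ne (e.le l.memF)

theorem cent_le : 𝐂(F) ≤ 𝐂[b] := cent_le_cent1 l.memF

theorem Y_le : YY E F ≤ 𝐂[b] := le_sup_left.trans l.cmp.le_H

theorem D_le : 𝐎(𝐂[b]) ≤ Gb E b F := D_le_Gam l.cmp.le_H

theorem comm_Y : ⁅Gb E b F, YY E F⁆ ≤ 𝐎(𝐂[b]) := (commgS _ le_sup_left).trans (comm_Gam _ _)

theorem cj (hT : Fam T) {n : G} (hn : n ∈ 𝐍(E)) : Loc T E (n * b * n⁻¹) (cj n F) :=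
  ⟨(memJ_norm hn).2 l.mem, by simpa using l.ne, by
    rw [LL_cj hn, cent1J]; exact l.cmp.cj hT n, by
    rw [Gb_cj hn, ← l.eq, Tr.cj_inf, Tr.cj_eq_iff.2 hn, l.eq]⟩

variable (x : Ctx T E)
include x

theorem prp : Prp E 𝐂[b] (LL E b F) := x.prp l.mem l.ne l.cmp

theorem E_le : E ≤ 𝐂(F) := x.cents l.le

theorem Y_cent : YY E F ≤ 𝐂(F) := comm_subG le_rfl (l.E_le x)

theorem E_normY : E ≤ 𝐍(YY E F) := (l.E_le x).trans (norm_YY E F)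

theorem cent_normL : 𝐂(F) ≤ 𝐍(LL E b F) :=
  normsY (norm_YY E F) (l.cent_le.trans (pcore_norm _ _))

theorem four : 4 ≤ F.relIndex E := l.eq ▸ (l.prp x).four

theorem ne_E : F ≠ E := fun e => by
  have := l.four x
  rw [e, relIndex_self] at this
  omega

theorem core_le : 𝐎(YY E F) ≤ 𝐎(𝐂[b]) := by
  have h1 := l.Y_le.trans (pcore_norm {2}ᶜ _)
  have h2 : 𝐎(𝐂[b]) ⊔ 𝐎(YY E F) ≤ 𝐎(LL E b F) := le_core (odd_sup (odd_core _) (odd_core _)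
    ((pcore_sub _ _).trans h1)) ⟨sup_le le_sup_right ((pcore_sub _ _).trans le_sup_left),
      sup_le (normsY h1 (pcore_norm _ _)) (normsG le_sup_left)⟩
  exact le_sup_right.trans (h2.trans ((pcore_normal_le _ ⟨l.cmp.le, l.cmp.nrm'⟩).trans
    (pcore_normal_le _ ((x.fam.NN_nrm _).sup (pcore_normal _ _)))))

theorem GF_le : GF E F ≤ Gb E b F := by
  rw [Gb, LL, Gam_sup l.Y_le]
  exact fun g hg => mem_Gam.2 ⟨l.cent_le hg.1, fun y hy => l.core_le x (hg.2.2 y hy)⟩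

theorem le_GF : Gb E b F ⊓ 𝐂(F) ≤ GF E F := fun g hg => mem_GF.2 ⟨hg.2, fun y hy =>
  inf_core_le l.Y_le (mem_inf.2 ⟨(mem_Gam.1 hg.1).2 y (mem_sup_left hy),
    mul_mem ((memJ_norm (norm_YY E F hg.2)).2 hy) (inv_mem hy)⟩)⟩

theorem odd_norm (hX : Odd #|X|) (hn : E ≤ 𝐍(X)) (hb : X ≤ 𝐂[b]) : X ≤ 𝐍(Gb E b F) :=
  (le_inf hb (l.cmp.odd_norm (l.prp x) x.toSce (x.cent1 l.mem) hX hn hb)).trans (norm_Gam' _ _)

theorem odd_comm (hX : Odd #|X|) (hn : E ≤ 𝐍(X)) (hb : X ≤ 𝐂[b]) : ⁅X, F⁆ ≤ Gb E b F :=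
  (commgS X l.le_Gb).trans (commg_subr.2 (l.odd_norm x hX hn hb))

theorem odd_le (hX : Odd #|X|) (hn : E ≤ 𝐍(X)) (hb : X ≤ 𝐂[b]) (h : X ⊓ 𝐂(F) ≤ GF E F) :
    X ≤ Gb E b F :=
  le_of_comm_cent hX (pgroup_sub l.le x.two) (l.le.trans hn) (l.odd_comm x hX hn hb)
    (h.trans (l.GF_le x))

theorem eq_one {e : G} (he : e ∈ E) (h : e ∈ 𝐎(𝐂[b])) : e = 1 := eq_one_of_odd (odd_core _) x.two h he

theorem split {n : G} (hn : n ∈ LL E b F) (hn' : n ∈ 𝐍(E)) :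
    ∃ y ∈ YY E F ⊓ 𝐍(E), ∃ c ∈ 𝐂(E), y * c = n := by
  have h1 : n ∈ 𝐂(F) := mem_cent.2 fun f hf => by
    have := l.eq_one x (mul_mem (l.le hf) ((memJ_norm hn').2 (inv_mem (l.le hf))))
      (by simpa only [mul_assoc] using (mem_Gam.1 (l.le_Gb hf)).2 n hn)
    rw [← mul_inv_eq_one, ← this]
    group
  have hD := pcore_norm {2}ᶜ 𝐂[b]
  have h2 : E ≤ 𝐍(𝐎(𝐂[b]) ⊓ 𝐂(F)) := normsI ((x.cent1 l.mem).trans hD) (normsG (l.E_le x))
  obtain ⟨y, hy, d, hd, rfl⟩ := (mem_join_norm (inf_le_right.trans (norm_YY E F))).1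
    ((group_modl' (l.Y_le.trans hD) (l.Y_cent x)).ge ⟨hn, h1⟩)
  obtain ⟨y', hy', c, hc, rfl⟩ := (cent_prod2 (odd_of_le inf_le_left (odd_core _)) x.two h2).exists hd
  have h3 := mul_mem hy (commSg E inf_le_right hy')
  rw [← mul_assoc] at hn' ⊢
  exact ⟨_, ⟨h3, by simpa using mul_mem hn' (inv_mem (cent_sub E hc.2))⟩, c, hc.2, rfl⟩

theorem tr {a a' : G} (ha : a ∈ E) (h : a ∉ F) (ha' : a' ∈ E) (h' : a' ∉ F) :
    ∃ n ∈ YY E F ⊓ 𝐍(E), n * a * n⁻¹ * a' ∈ F := by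
  obtain ⟨n, hn, hn', h1⟩ := (l.prp x).tr a ha (fun e => h (l.mem_F ha e)) a' ha'
    fun e => h' (l.mem_F ha' e)
  obtain ⟨y, hy, c, hc, rfl⟩ := l.split x hn hn'
  refine ⟨y, hy, l.mem_F (mul_mem ((memJ_norm hy.2).2 ha) ha') ?_⟩
  rwa [mul_assoc y c, ← mem_cent.1 hc a ha, show y * (a * c) * (y * c)⁻¹ = y * a * y⁻¹ by group] at h1

theorem moves {e : G} (he : e ∈ E) (h : e ∉ F) : ∃ n ∈ YY E F ⊓ 𝐍(E), n * e * n⁻¹ * e ∉ F := by
  obtain ⟨a, ha, h2, h3⟩ := exists_two (l.four x) he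
  obtain ⟨n, hn, h4⟩ := l.tr x he h ha h2
  refine ⟨n, hn, fun h5 => h3 ?_⟩
  have := mul_mem (inv_mem h4) h5
  rwa [show (n * e * n⁻¹ * a)⁻¹ * (n * e * n⁻¹ * e) = a⁻¹ * e by group, x.inv ha] at this

theorem dec {e : G} (he : e ∈ E) : ∃ a ∈ E ⊓ YY E F, a * e ∈ F := by
  by_cases h1 : e ∈ F
  · exact ⟨1, one_mem _, by simpa using h1⟩
  obtain ⟨a, ha, h2, h3⟩ := exists_two (l.four x) he
  obtain ⟨m, hm, h4⟩ := l.tr x ha h2 (mul_mem ha he) h3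
  refine ⟨m * a * m⁻¹ * a, ⟨mul_mem ((memJ_norm hm.2).2 ha) ha, ?_⟩, by simpa [mul_assoc] using h4⟩
  have := commutator_mem_commutator (l.Y_cent x hm.1) ha
  rwa [commutatorElement_def, x.inv ha] at this

theorem E_eq : E ⊓ YY E F ⊔ F = E := le_antisymm (sup_le inf_le_left l.le) fun e he => by
  obtain ⟨a, ha, h⟩ := l.dec x he
  simpa using (E ⊓ YY E F ⊔ F).mul_mem (mem_sup_left (inv_mem ha)) (mem_sup_right h)

theorem gam_cent {g : G} (hg : g ∈ Gb E b F) (h1 : g ∈ 𝐍(E)) (h2 : g ∈ 𝐂(F)) : g ∈ 𝐂(E) := by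
  rw [← l.E_eq x, centY]
  refine ⟨mem_cent.2 fun a ha => ?_, h2⟩
  have := l.eq_one x (mul_mem ((memJ_norm h1).2 ha.1) (inv_mem ha.1))
    ((mem_Gam.1 hg).2 a (mem_sup_left ha.2))
  rw [eq_comm, ← mul_inv_eq_one, ← this]
  group

theorem uniq (l' : Loc T E b F') (h : F' ≤ F) : F' = F := by
  rw [← l.eq, ← l'.eq, Gb, Gb, l.cmp.eq_of_le (l.prp x) x.toSce (x.cent1 l.mem) l'.cmp
    (l'.eq.le.trans (h.trans l.le_Gb))]

theorem two (l' : Loc T E b F') (h : F' ≠ F) : YY E F' ≤ Gb E b F :=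
  le_sup_left.trans (l.cmp.two (L' := LL E b F') l'.cmp fun e => h (by
    rw [← l.eq, ← l'.eq, Gb, Gb, e]))

theorem exists_perf : ∃ R ≤ YY E F, ⁅R, R⁆ = R ∧ ¬ Group.IsSolvable R := by
  obtain ⟨R, ⟨h1, h2⟩, h3⟩ := (wellFounded_lt (α := Subgroup G)).has_min
    {R | R ≤ YY E F ∧ LL E b F ≤ R ⊔ 𝐎(𝐂[b])} ⟨_, le_rfl, le_rfl⟩
  have h4 := h1.trans l.Y_le
  have hn : R ≤ 𝐍(⁅R, R⁆ ⊔ 𝐎(𝐂[b])) := normsY (commg_norml R R) (h4.trans (pcore_norm _ _))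
  have h5 : ⁅𝐎(𝐂[b]), R ⊔ 𝐎(𝐂[b])⁆ ≤ ⁅R, R⁆ ⊔ 𝐎(𝐂[b]) := (commg_subl.2
    (sup_le (h4.trans (pcore_norm _ _)) (normG _))).trans le_sup_right
  refine ⟨R, h1, eq_of_le_of_not_lt (der_sub R) (h3 _ ⟨(der_sub R).trans h1, l.cmp.perf.trans
    (sup_le ((dergS h2).trans (commMG_le hn ?_ h5 (normsG le_sup_right))) le_sup_right)⟩),
    l.cmp.not_sol h2 h4⟩
  rw [commGC]
  exact commMG_le hn le_sup_left ((commgS _ le_sup_left).trans h5) (normsG le_sup_right)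

theorem pump {b' : G} (hb : b' ∈ F) (h1 : b' ≠ 1) : ∃ F' ≤ F, Loc T E b' F' := by
  have : Fact OddOrderThm.{u} := ⟨FT.oddOrder⟩
  obtain ⟨R, h2, h3, h4⟩ := l.exists_perf x
  have hE := x.cent1 (l.le hb)
  have h5 : YY E F ≤ NN T 𝐂[b'] := (commgS _ (x.le_NN hE)).trans (commg_subr.2
    ((cent_le_cent1 hb).trans (x.fam.NN_nrm _).nz))
  obtain ⟨L, c, h6⟩ : ∃ L, Cmp T 𝐂[b'] L ∧ ¬ R ≤ Gam 𝐂[b'] L := by
    by_contra hc
    push Not at hc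
    exact h4 (x.toSce.sol hE (h2.trans h5) hc)
  refine ⟨_, fun e he => by_contra fun h7 => h6 ?_, (x.loc (l.le hb) h1 c).1⟩
  have hn : YY E F ≤ 𝐍(Gam 𝐂[b'] L) := (le_inf (h5.trans (NN_le _ _)) (h5.trans c.nrm)).trans
    (norm_Gam' _ _)
  have hn' : YY E F ≤ 𝐍(YY E F ⊓ Gam 𝐂[b'] L) := normsIG le_rfl hn
  have hD := pcore_norm {2}ᶜ 𝐂[b]
  have he' := cycle_subG.2 he.1
  have h8 : LL E b F ≤ YY E F ⊓ Gam 𝐂[b'] L ⊔ 𝐎(𝐂[b]) := ((l.cmp.dich (X := zpowers e)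
    (he'.trans (x.cent1 l.mem)) (he'.trans ((l.E_le x).trans (l.cent_normL x)))).resolve_left
      fun h => h7 (l.mem_F he.1 (h (mem_zpowers e)))).trans (sup_le (commMG_le
        (normsY hn' (l.Y_le.trans hD)) (le_sup_of_le_left (le_inf (commg_subl.2
          (he'.trans (l.E_normY x))) ((commgS _ (cycle_subG.2 he.2)).trans (commg_subr.2 hn))))
        (le_sup_of_le_right (commg_subl.2 (he'.trans ((x.cent1 l.mem).trans hD))))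
        (normsG le_sup_right)) le_sup_right)
  have h9 : R ≤ YY E F ⊓ Gam 𝐂[b'] L ⊔ 𝐎(YY E F) := (le_inf (h2.trans (le_sup_left.trans h8))
    h2).trans ((group_modl' ((inf_le_left.trans l.Y_le).trans hD) inf_le_left).ge.trans
      (sup_le_sup_left (inf_core_le l.Y_le) _))
  rw [← quotientSK (h2.trans hn') ((pcore_sub _ _).trans hn')] at h9
  exact ((quotient_sub1 (h2.trans hn')).1 (Red.perf_sol (by
    rw [← quotientR (h2.trans hn') (h2.trans hn'), h3])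
      (solvableS h9 (quotient_sol _ (odd_sol (odd_core _))))).le).trans inf_le_right

end Loc

/-- minimal centralizers of components -/
def Mi (T : Set G) (E F : Subgroup G) : Prop :=
  (∃ b, Loc T E b F) ∧ ∀ b F', Loc T E b F' → F' ≤ F → F' = F

theorem Loc.exists_mi (l : Loc T E b F) : ∃ F' ≤ F, Mi T E F' := by
  obtain ⟨F', ⟨h1, h2⟩, h3⟩ := (wellFounded_lt (α := Subgroup G)).has_min
    {F' | F' ≤ F ∧ ∃ b, Loc T E b F'} ⟨_, le_rfl, b, l⟩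
  exact ⟨F', h1, h2, fun b' F'' l' h4 => eq_of_le_of_not_lt h4 (h3 _ ⟨h4.trans h1, b', l'⟩)⟩

theorem Mi.loc (m : Mi T E F) (x : Ctx T E) (hb : b ∈ F) (h1 : b ≠ 1) : Loc T E b F := by
  obtain ⟨b', l⟩ := m.1
  obtain ⟨F', h2, l'⟩ := l.pump x hb h1
  exact m.2 _ _ l' h2 ▸ l'

theorem Mi.cj (m : Mi T E F) (hT : Fam T) {n : G} (hn : n ∈ 𝐍(E)) : Mi T E (cj n F) := by
  obtain ⟨⟨b, l⟩, h⟩ := m
  exact ⟨⟨_, l.cj hT hn⟩, fun b' F' l' h1 => by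
    rw [← h _ _ (l'.cj hT (inv_mem hn)) (Tr.le_cj_iff_cj_inv_le.1 h1), Tr.cj_cj_inv]⟩

theorem Mi.le (m : Mi T E F) : F ≤ E := m.1.elim fun _ l => l.le

theorem Mi.ne_bot (m : Mi T E F) : F ≠ ⊥ := m.1.elim fun _ l => l.ne_bot

theorem Loc.exists_cj (l : Loc T E b F) (x : Ctx T E) : ∃ n ∈ 𝐍(E), Tr.cj n F ≠ F := by
  by_contra hc
  push Not at hc
  exact (x.irr F l.le fun n hn => Tr.cj_eq_iff.1 (hc n hn)).elim l.ne_bot (l.ne_E x)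

end Cfsg.Agent.GO
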