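import Cfsg.Agent.Lib.GO.Loc
import Cfsg.Agent.Lib.SF.ThmA

/-! The signalizer functor case: any two minimal subgroups `F` meet. -/

set_option autoImplicit false
set_option linter.unusedSectionVars false
set_option linter.unusedVariables false

namespace Cfsg.Agent.GO

open Subgroup Cfsg.Agent.FT Cfsg.Agent.SF Cfsg.Agent.SF.GP Cfsg.Agent.SC
open Cfsg.Agent.Tr (SylowIn)

universe u

variable {G : Type u} [Group G] [Finite G] {T : Set G} {E D F F' X Z : Subgroup G} {b : G}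

theorem Sce.four (h : Sce T E) (hF : F ≤ E) {a c : G} (ha : a ∈ F) (hc : c ∈ F) (a1 : a ≠ 1)
    (c1 : c ≠ 1) (hne : a ≠ c) : ∃ Z ≤ F, IsKleinFour Z :=
  ⟨_, four_le ha hc, TwoGrp.isKleinFour_four (h.ee (hF ha)) (h.ee (hF hc))
    (h.comm (hF ha) (hF hc)) a1 c1 hne⟩

theorem Loc.two' (l : Loc T E b F) (x : Ctx T E) (l' : Loc T E b F') (h : F' ≠ F) :
    E ⊓ YY E F' ≤ F := fun _ he => l.mem_F he.1 (l.two x l' h he.2)

theorem Loc.Y_four (l : Loc T E b F) (x : Ctx T E) : ∃ Z ≤ E ⊓ YY E F, IsKleinFour Z := by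
  obtain ⟨a, ha, h1, -⟩ := exists_two (l.four x) (one_mem E)
  obtain ⟨c, hc, h2, h3⟩ := exists_two (l.four x) ha
  obtain ⟨a', ha', h4⟩ := l.dec x ha
  obtain ⟨c', hc', h5⟩ := l.dec x hc
  refine x.toSce.four inf_le_left ha' hc' (fun e => h1 (by simpa [e] using h4))
    (fun e => h2 (by simpa [e] using h5)) fun e => h3 ?_
  have := mul_mem (inv_mem h5) h4
  rwa [e, show (c' * c)⁻¹ * (c' * a) = c⁻¹ * a by group, x.inv hc] at this

theorem Mi.lemG (m : Mi T E F) (x : Ctx T E) (hZ : IsKleinFour Z) (hZF : Z ≤ F) (hD : Odd #|D|)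
    (hn : E ≤ 𝐍(D)) : ⁅D, F⁆ ⊓ 𝐂(F) ≤ GF E F := by
  have : Fact OddOrderThm.{u} := ⟨FT.oddOrder⟩
  obtain ⟨e₀, h0, h1, -⟩ := TwoGrp.kleinFour_exists_ne hZ 1
  have l := m.loc x (hZF h0) h1
  have hZE := hZF.trans m.le
  have hEZ : E ≤ 𝐂(Z) := x.cents hZE
  have h2 : ⁅D, Z⁆ ⊓ 𝐂(Z) ≤ Gb E e₀ F := (lemG4 hZ hD (hZE.trans hn)).trans (zG_le fun e he e1 => by
    have l' := m.loc x (hZF he) e1
    have h3 : E ≤ 𝐍(D ⊓ 𝐂[e]) := normsI hn (normsG (x.cent1 (hZE he)))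
    have h4 := odd_of_le (inf_le_left (b := 𝐂[e])) hD
    exact l.odd_le x (odd_of_le (inf_le_left.trans (commg_subl.2 (hZE.trans h3))) h4)
      (normsI (normsR h3 (cents_norm hEZ)) (normsG hEZ)) (inf_le_right.trans (cent_le_cent1 h0))
      ((inf_le_inf_right _ (inf_le_left.trans ((commgS _ hZF).trans
        (l'.odd_comm x h4 h3 inf_le_right)))).trans (l'.le_GF x)))
  have h3 : E ≤ 𝐍(D ⊓ 𝐂(Z)) := normsI hn (normsG hEZ)
  have h4 := odd_of_le (inf_le_left (b := 𝐂(Z))) hD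
  have h5 : D ⊓ 𝐂(Z) ≤ 𝐂[e₀] := inf_le_right.trans (cent_le_cent1 h0)
  have h6 : ⁅D, F⁆ ≤ ⁅D, Z⁆ ⊔ (D ⊓ 𝐂(Z) ⊓ Gb E e₀ F) :=
    (commSg F (cent_prod2 hD (pgroup_sub hZE x.two) (hZE.trans hn)).sup.ge).trans
      (commMG_le (normsG le_sup_left) (le_sup_of_le_left (commg_subl.2 (m.le.trans
        (normsR hn (cents_norm hEZ))))) (le_sup_of_le_right (le_inf (commg_subl.2 (m.le.trans h3))
          (l.odd_comm x h4 h3 h5))) (normsY (normsRl inf_le_left)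
            (normsI (normG _) (l.odd_norm x h4 h3 h5))))
  refine (le_inf ((inf_le_inf h6 (centS hZF)).trans ((group_modr
    ((inf_le_left.trans inf_le_left).trans (commg_norml _ _))
    (inf_le_left.trans inf_le_right)).ge.trans (sup_le h2 inf_le_right))) inf_le_right).trans (l.le_GF x)

/-- the signalizer functor -/
def th (T : Set G) (E : Subgroup G) (b : G) : Subgroup G :=
  𝐎(𝐂[b]) ⊓ ⨅ F : {F // Mi T E F}, ⁅𝐎(𝐂[b]), F.1⁆ ⊔ 𝐎(𝐂[b]) ⊓ GF E F.1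

theorem th_le (T : Set G) (E : Subgroup G) (b : G) : th T E b ≤ 𝐎(𝐂[b]) := inf_le_left

theorem th_le' (b : G) (m : Mi T E F) : th T E b ≤ ⁅𝐎(𝐂[b]), F⁆ ⊔ 𝐎(𝐂[b]) ⊓ GF E F :=
  inf_le_right.trans (iInf_le (fun F : {F // Mi T E F} => ⁅𝐎(𝐂[b]), F.1⁆ ⊔ 𝐎(𝐂[b]) ⊓ GF E F.1) ⟨F, m⟩)

theorem th_cj (hT : Fam T) {n : G} (hn : n ∈ 𝐍(E)) (b : G) :
    cj n (th T E b) ≤ th T E (n * b * n⁻¹) := by
  refine le_inf (by rw [cent1J, pcoreJ]; exact Tr.cj_mono n inf_le_left) (le_iInf fun F => ?_)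
  have := Tr.cj_mono n (th_le' b (F.2.cj hT (inv_mem hn)))
  rwa [Tr.cj_sup, Tr.cj_inf, Tr.cj_commutator, ← GF_cj hn, Tr.cj_cj_inv, ← pcoreJ, ← cent1J] at this

theorem Ctx.le_thF (x : Ctx T E) (hF : F ≤ E) (hD : Odd #|D|) (hX : X ≤ D) (hn : E ≤ 𝐍(X))
    (h : X ⊓ 𝐂(F) ≤ GF E F) : X ≤ ⁅D, F⁆ ⊔ D ⊓ GF E F :=
  le_of_comm_cent (odd_of_le hX hD) (pgroup_sub hF x.two) (hF.trans hn)
    (le_sup_of_le_left (commSg F hX)) (le_sup_of_le_right (le_inf (inf_le_left.trans hX) h))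

theorem Ctx.norm_th (x : Ctx T E) (hb : b ∈ E) : E ≤ 𝐍(th T E b) := fun e he =>
  Tr.mem_normalizer_of_cj_le (by
    simpa only [cent1_conj.1 (x.cent1 hb he)] using th_cj x.fam (normG E he) b)

theorem Ctx.norm_D (x : Ctx T E) (hb : b ∈ E) : E ≤ 𝐍(𝐎(𝐂[b])) :=
  (x.cent1 hb).trans (pcore_norm _ _)

namespace Ctx

variable (x : Ctx T E) (hα : ∀ F F', Mi T E F → Mi T E F' → F ⊓ F' ≠ ⊥)
include x hα

theorem meet (m : Mi T E F) (m' : Mi T E F') : ∃ e, Loc T E e F ∧ Loc T E e F' := by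
  obtain ⟨e, he, e1⟩ := trivgPn.1 (hα F F' m m')
  exact ⟨e, m.loc x he.1 e1, m'.loc x he.2 e1⟩

theorem four_le (m : Mi T E F) : ∃ Z ≤ F, IsKleinFour Z := by
  obtain ⟨b, l⟩ := m.1
  obtain ⟨n, hn, h⟩ := l.exists_cj x
  obtain ⟨e, l1, l2⟩ := x.meet hα m (m.cj x.fam hn)
  obtain ⟨Z, h1, h2⟩ := l2.Y_four x
  exact ⟨Z, h1.trans (l1.two' x l2 h), h2⟩

theorem th_P (hb : b ∈ E) (m : Mi T E F) : th T E b ⊓ 𝐂(F) ≤ GF E F := by
  obtain ⟨Z, h1, h2⟩ := x.four_le hα m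
  exact (inf_le_inf_right _ (th_le' b m)).trans ((group_modr
    (inf_le_left.trans (commg_norml _ _)) (inf_le_right.trans inf_le_left)).ge.trans
      (sup_le (m.lemG x h2 h1 (odd_core _) (x.norm_D hb)) inf_le_right))

theorem functor : IsFunctor E (th T E) where
  odd a _ _ := odd_of_le (th_le _ _ _) (odd_core _)
  cent a _ _ := (th_le _ _ _).trans (D_le a)
  inv a ha _ := x.norm_th ha
  bal a ha a1 b hb b1 := by
    have h1 : E ≤ 𝐍(th T E a ⊓ 𝐂[b]) := normsI (x.norm_th ha) (normsG (x.cent1 hb))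
    have h2 : Odd #|th T E a ⊓ 𝐂[b]| := odd_of_le (inf_le_left.trans (th_le _ _ _)) (odd_core _)
    have h3 : ∀ F, Mi T E F → th T E a ⊓ 𝐂[b] ⊓ 𝐂(F) ≤ GF E F := fun F m =>
      (inf_le_inf_right _ inf_le_left).trans (x.th_P hα ha m)
    have h4 : th T E a ⊓ 𝐂[b] ≤ 𝐎(𝐂[b]) := x.toSce.faith (x.cent1 hb) ha
      ((le_inf (inf_le_left.trans (th_le _ _ _)) (le_inf inf_le_right (inf_le_left.trans
        ((th_le _ _ _).trans (D_le a))))).trans (inf_core_le inf_le_right)) fun L c => by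
      obtain ⟨l, e⟩ := x.loc hb b1 c
      obtain ⟨F, h5, m⟩ := l.exists_mi
      rw [← e]
      refine l.odd_le x h2 h1 inf_le_right fun g hg => mem_GF.2 ⟨hg.2, fun y hy => ?_⟩
      exact inf_core_le (YY_anti E h5) (mem_inf.2 ⟨(mem_GF.1 (h3 F m ⟨hg.1, centS h5 hg.2⟩)).2 y
        (YY_anti E h5 hy), mul_mem ((memJ_norm (norm_YY E _ hg.2)).2 hy) (inv_mem hy)⟩)
    exact le_inf h4 (le_iInf fun F => x.le_thF F.2.le (odd_core _) h4 h1 (h3 F F.2))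

theorem comm_le (m : Mi T E F) (l : Loc T E b F) : ⁅𝐎(𝐂[b]), YY E F⁆ ≤ th T E b := by
  have hY := l.Y_le.trans (pcore_norm {2}ᶜ _)
  have h1 := commg_subl.2 hY
  refine le_inf h1 (le_iInf fun ⟨F', m'⟩ => ?_)
  by_cases h : F = F'
  · subst h
    exact x.le_thF m.le (odd_core _) h1 (normsR (x.norm_D l.mem) (l.E_normY x))
      ((inf_le_inf_right _ (h1.trans l.D_le)).trans (l.le_GF x))
  obtain ⟨e, l1, l2⟩ := x.meet hα m m'
  have he := cycle_subG.2 l1.mem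
  have h2 : E ≤ 𝐍(𝐎(𝐂[b]) ⊓ 𝐂(zpowers e)) := normsI (x.norm_D l.mem) (normsG (x.cents he))
  have h3 : YY E F ≤ 𝐂(zpowers e) := (cent_cycle e).symm ▸ l1.Y_le
  have h4 := commg_subl.2 (normsI hY (normsG h3))
  refine ((commSg _ (cent_prod2 (odd_core _) (x.el2 l1.mem) (he.trans (x.norm_D l.mem))).sup.ge).trans
    (commMG_le (N := ⁅𝐎(𝐂[b]), zpowers e⁆ ⊔ ⁅𝐎(𝐂[b]) ⊓ 𝐂(zpowers e), YY E F⁆) (normsG le_sup_left)
      (le_sup_of_le_left (commg_subl.2 (normsR hY (cents_norm h3)))) le_sup_right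
      (normsY (normsRl inf_le_left) (commg_norml _ _)))).trans
    (sup_le (le_sup_of_le_left (commgS _ (cycle_subG.2 l2.memF))) (x.le_thF m'.le (odd_core _)
      (h4.trans inf_le_left) (normsR h2 (l.E_normY x)) ((inf_le_inf_right _ ?_).trans (l2.le_GF x))))
  exact (commgS _ (l2.two x l1 h)).trans (commg_subr.2 (l2.odd_norm x
    (odd_of_le inf_le_left (odd_core _)) h2 (inf_le_right.trans (cent_cycle e).le)))

theorem D_le (hb : b ∈ E) {M : Subgroup G} (h1 : th T E b ≤ M) (h2 : 𝐍(E) ≤ M)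
    (h3 : ∀ F, Mi T E F → YY E F ≤ M) : 𝐎(𝐂[b]) ≤ M := by
  have hD := x.norm_D hb
  rcases x.irr (⨆ F : {F // Mi T E F}, E ⊓ YY E F.1) (iSup_le fun _ => inf_le_left)
    (fun n hn => Tr.mem_normalizer_of_cj_le (Tr.cj_le_iff_le_cj_inv.2 (iSup_le fun F =>
      Tr.cj_le_iff_le_cj_inv.1 (by
        rw [Tr.cj_inf, Tr.cj_eq_iff.2 hn, ← YY_cj hn]
        exact le_iSup (fun F : {F // Mi T E F} => E ⊓ YY E F.1) ⟨_, F.2.cj x.fam hn⟩)))) with h | h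
  · refine (le_inf le_rfl (le_iInf fun F => ?_)).trans h1
    obtain ⟨c, l⟩ := F.2.1
    obtain ⟨Z, h4, h5⟩ := l.Y_four x
    exact absurd (eq_bot_iff.2 (h4.trans (iSup_eq_bot.1 h F).le)) (four_ne_bot h5)
  refine le_of_comm_cent (odd_core _) x.two hD (le_trans ?_ (iSup_le fun F => ?_ :
    (⨆ F : {F // Mi T E F}, ⁅𝐎(𝐂[b]), E ⊓ YY E F.1⁆) ≤ M))
    (inf_le_right.trans ((cent_sub E).trans h2))
  · rw [commGC]
    exact comm_le_of_le_cmod (h.ge.trans (iSup_le fun F => le_cmod (inf_le_left.trans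
      (norms_iSup fun _ => normsR hD (cents_norm (x.cents inf_le_left))))
      ((commGC _ _).le.trans (le_iSup (fun F : {F // Mi T E F} => ⁅𝐎(𝐂[b]), E ⊓ YY E F.1⁆) F))))
  obtain ⟨F, m⟩ := F
  have h4 : E ≤ 𝐍(⁅𝐎(𝐂[b]), E ⊓ YY E F⁆) := normsR hD (cents_norm (x.cents inf_le_left))
  have h5 := commg_subl.2 ((inf_le_left (b := YY E F)).trans hD)
  have h6 := commg_subl.2 (m.le.trans h4)
  refine le_of_comm_cent (odd_of_le h5 (odd_core _)) (pgroup_sub m.le x.two) (m.le.trans h4)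
    ((le_inf (h6.trans h5) (le_iInf fun ⟨F', m'⟩ => le_sup_of_le_left ?_)).trans h1)
    (le_of_comm_cent (odd_of_le (inf_le_left.trans h5) (odd_core _)) x.two
      (normsI h4 (normsG (x.cents m.le))) ((commSg E inf_le_right).trans (h3 F m))
      (inf_le_right.trans ((cent_sub E).trans h2)))
  by_cases h : F = F'
  · subst h
    exact commSg _ h5
  · obtain ⟨e, l1, l2⟩ := x.meet hα m m'
    exact h6.trans (commgS _ (l2.two' x l1 h))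

theorem alpha [IsSimpleGroup G] (h74 : S1174Stmt.{u}) (h8 : 8 ≤ #|E|) :
    ∃ H : Subgroup G, IsStronglyEmbedded H := by
  obtain ⟨W, hW, hWn, hW'⟩ := SF.sft G E _ x.elem h8 (x.functor hα)
  have h1 : ∀ b ∈ E, b ≠ 1 → th T E b ≤ W := fun b hb b1 => (hW' b hb b1).ge.trans inf_le_left
  have h2 : ∀ Z ≤ E, IsKleinFour Z → ∀ g, (∀ e ∈ Z, e ≠ 1 → Tr.cj g (th T E e) ≤ W) → g ∈ 𝐍(W) :=
    fun Z hZ h4 g hg => Tr.mem_normalizer_of_cj_le (Tr.cj_le_iff_le_cj_inv.2 (gen4 h4 hW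
      (hZ.trans hWn) fun e he e1 => (hW' e (hZ he) e1).le.trans
        (Tr.cj_le_iff_le_cj_inv.1 (hg e he e1))))
  obtain ⟨a, ha, a1, -⟩ := exists_two (F := ⊥) (E := E) (by rw [relIndex_bot_left]; omega) (one_mem E)
  obtain ⟨a', ha', a2, a3⟩ := exists_two (F := ⊥) (E := E) (by rw [relIndex_bot_left]; omega) ha
  obtain ⟨Z, hZ, h4⟩ := x.toSce.four le_rfl ha' ha a2 a1 fun e => a3 (by
    rw [e, x.ee ha]; exact one_mem _)
  have h3 : 𝐍(E) ≤ 𝐍(W) := fun n hn => h2 Z hZ h4 n fun e he e1 => (th_cj x.fam hn e).trans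
    (h1 _ ((memJ_norm hn).2 (hZ he)) (by simpa using e1))
  have h5 : ∀ F, Mi T E F → YY E F ≤ 𝐍(W) := fun F m y hy => by
    obtain ⟨Z, h6, h7⟩ := x.four_le hα m
    refine h2 Z (h6.trans m.le) h7 y fun e he e1 => ?_
    rw [Tr.cj_eq_iff.2 (commg_subl.1 ((commSg _ (th_le _ _ _)).trans
      (x.comm_le hα m (m.loc x (h6 he) e1))) hy)]
    exact h1 e (m.le (h6 he)) e1
  obtain ⟨J, hJ⟩ : ∃ J, J = ⨆ F : {F // Mi T E F}, YY E F.1 := ⟨_, rfl⟩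
  have hJ1 : ∀ F, Mi T E F → YY E F ≤ J := fun F m =>
    hJ ▸ le_iSup (fun F : {F // Mi T E F} => YY E F.1) ⟨F, m⟩
  have hJ2 : ∀ M, (∀ F, Mi T E F → YY E F ≤ M) → J ≤ M := fun M h => hJ ▸ iSup_le fun F => h F F.2
  have hs : ∀ N : Subgroup G, ⊤ ≤ 𝐍(N) → N = ⊥ ∨ N = ⊤ := fun N h =>
    (norm_eq_top_iff.1 (top_le_iff.1 h)).eq_bot_or_eq_top
  obtain ⟨S, hS⟩ := x.two.exists_le_sylow
  refine h74 G S E (fun e => a1 (e.le ha)) (x.sc S.isPGroup' hS) fun e => ?_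
  have h6 : ⊤ ≤ J ⊔ W ⊔ 𝐍(E) := e.ge.trans (iSup_le fun t => by
    have t1 := Tr.ne_one_of_orderOf_two t.2.2
    have h7 := x.D_le hα t.2.1 (M := J ⊔ W ⊔ 𝐍(E)) (le_sup_of_le_left (le_sup_of_le_right
      (h1 _ t.2.1 t1))) le_sup_right fun F m => le_sup_of_le_left (le_sup_of_le_left (hJ1 F m))
    refine x.toSce.gen (x.cent1 t.2.1) x.ind (by
      simpa using proper_card (lt_top_iff_ne_top.2 (x.lt _ t.2.1 t1))) h7
      (le_sup_of_le_right inf_le_right) fun L c => ?_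
    obtain ⟨l, e⟩ := x.loc t.2.1 t1 c
    obtain ⟨F, h5, m⟩ := l.exists_mi
    exact e.ge.trans (sup_le ((YY_anti E h5).trans (le_sup_of_le_left (le_sup_of_le_left
      (hJ1 F m)))) h7))
  have h7 : W = ⊥ := (hs W (h6.trans (sup_le (sup_le (hJ2 _ h5) (normG W)) h3))).resolve_right
    fun e => a1 (eq_one_of_odd hW x.two (e.ge (mem_top a)) ha)
  rw [h7, sup_bot_eq] at h6
  rcases hs J (h6.trans (sup_le (normG J) fun n hn => Tr.mem_normalizer_of_cj_le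
    (Tr.cj_le_iff_le_cj_inv.2 (hJ2 _ fun F m => Tr.cj_le_iff_le_cj_inv.1
      ((YY_cj hn F).ge.trans (hJ1 _ (m.cj x.fam hn))))))) with h | h
  · rw [h, bot_sup_eq] at h6
    exact (hs E h6).elim (fun e => a1 (e.le ha)) fun e => x.lt a ha a1
      (top_le_iff.1 (e.ge.trans (x.cent1 ha)))
  obtain ⟨F, m⟩ : ∃ F, Mi T E F := by
    by_contra hc
    exact a1 (hJ2 ⊥ (fun F m => absurd ⟨F, m⟩ hc) (h.ge (mem_top a)))
  obtain ⟨b, l⟩ := m.1
  refine (hs ⁅YY E F, YY E F⁆ (h.ge.trans (hJ2 _ fun F' m' => ?_))).elim (fun h8 => ?_) fun h8 =>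
    (x.lt b l.mem l.ne (top_le_iff.1 (h8.ge.trans ((der_sub _).trans l.Y_le)))).elim
  swap
  · obtain ⟨R, h9, h10, h11⟩ := l.exists_perf x
    exact h11 (by rw [← h10, eq_bot_iff.2 ((dergS h9).trans h8.le)]; infer_instance)
  by_cases h : F' = F
  · exact h ▸ commg_norml _ _
  obtain ⟨c, l1, l2⟩ := x.meet hα m m'
  have h9 : ⁅⁅YY E F', YY E F⁆, YY E F⁆ = ⊥ := eq_bot_iff.2 ((commSg _ ((commSg _
    (l1.two x l2 h)).trans l1.comm_Y)).trans ((x.comm_le hα m l1).trans (h7 ▸ h1 c l1.mem l1.ne)))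
  exact cents_norm (centsC.1 (commG1P.1 (three_subgroup (commGC (YY E F) (YY E F') ▸ h9) h9)))

end Ctx

end Cfsg.Agent.GO
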