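import Cfsg.Agent.Lib.GO.End
import Cfsg.Agent.Lib.GO.Sig

/-! Goldschmidt's theorem on strongly closed abelian 2-subgroups. -/

set_option autoImplicit false
set_option linter.unusedSectionVars false
set_option linter.unusedVariables false

namespace Cfsg.Agent.GO

open Subgroup Cfsg.Agent.FT Cfsg.Agent.SF Cfsg.Agent.SF.GP Cfsg.Agent.SC
open Cfsg.Agent.Tr (SylowIn)

universe u

variable {G : Type u} [Group G] [Finite G] {T : Set G} {E : Subgroup G}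

theorem Ctx.exists_fa (x : Ctx T E) {F₁ F₂ : Subgroup G} (m₁ : Mi T E F₁) (m₂ : Mi T E F₂)
    (h : F₁ ⊓ F₂ = ⊥) : ∃ Φ, Fa T E Φ := by
  obtain ⟨F, ⟨b, l⟩, h1⟩ := Set.exists_min_image {F | ∃ b, Loc T E b F} (fun F => #|F|)
    (Set.toFinite _) ⟨F₁, m₁.1⟩
  have m : Mi T E F := ⟨⟨b, l⟩, fun b' F' l' h2 => eq_of_le_of_card_ge h2 (h1 F' ⟨b', l'⟩)⟩
  have hn : ∀ {A B}, A ≤ E → B ≤ E → B ≤ 𝐍(A) := fun hA hB => hB.trans (cents_norm (x.cents hA))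
  refine ⟨{F' | ∃ n ∈ 𝐍(E), Tr.cj n F = F'}, x, ?_, ?_, ?_, ?_, F, 1, one_mem _, Tr.cj_one F⟩
  · rintro _ ⟨n, hn, rfl⟩
    exact m.cj x.fam hn
  · rintro _ ⟨n, hn, rfl⟩ k hk
    exact ⟨k * n, mul_mem hk hn, Tr.cj_mul _ _ _⟩
  · rintro _ ⟨n, hn, rfl⟩ _ ⟨k, hk, rfl⟩
    exact ⟨k * n⁻¹, mul_mem hk (inv_mem hn), by rw [Tr.cj_mul, Tr.cj_inv_cj]⟩
  rintro _ ⟨n, h2, rfl⟩ _ ⟨k, h3, rfl⟩ hne e he he'
  by_contra e1
  have l1 := (m.cj x.fam h2).loc x he e1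
  have l2 := (m.cj x.fam h3).loc x he' e1
  have h4 := (norm_joinEr (hn l1.le l2.le)).card
  rw [Tr.card_cj, Tr.card_cj, le_antisymm (sup_le l1.le l2.le) ((l2.E_eq x).ge.trans
    (sup_le_sup_right (l1.two' x l2 hne.symm) _))] at h4
  have h5 := (TI_cardMg (hn m₁.le m₂.le) h).ge.trans (card_le_of_le (sup_le m₁.le m₂.le))
  have h6 := Nat.mul_le_mul (h1 _ m₁.1) (h1 _ m₂.1)
  have h7 := (one_lt_card_iff_ne_bot _).2 (trivgPn.2 ⟨e, mem_inf.2 ⟨he, he'⟩, e1⟩)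
  have h8 : 0 < #|E| := Nat.card_pos
  nlinarith

theorem gn_step (hQ : QStmt.{u}) (h74 : S1174Stmt.{u}) [IsSimpleGroup G] (hG : GN.{u} (Nat.card G))
    (k : ℕ) : ∀ (T : Set G) (E : Subgroup G), #|E| = k → Sce T E → E ≠ ⊥ →
      (SC.Mx E ⊤ ∧ Trs ⊤ E) ∨ ∃ H : Subgroup G, IsStronglyEmbedded H := by
  induction k using Nat.strong_induction_on with | _ k ih => ?_
  intro T E hk h h1
  rw [or_iff_not_imp_right]
  intro hse
  obtain ⟨S, hS⟩ := h.two.exists_le_sylow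
  have irr : ∀ B ≤ E, 𝐍(E) ≤ 𝐍(B) → B = ⊥ ∨ B = E := fun B hB hn => by
    by_contra hc
    push Not at hc
    exact hc.2 (le_antisymm hB (((ih _ (hk ▸ proper_card (lt_of_le_of_ne hB hc.2)) _ B rfl
      ⟨scl_of_sc (S := S) ⟨hB.trans hS, fun a ha g hg => by
        obtain ⟨n, -, h2, e⟩ := h.control1 le_top (mem_top g) (h.cent (hB ha))
          (h.cent ((h.sc S.isPGroup' hS).2 a (hB ha) g hg))
        exact e ▸ (memJ_norm (hn h2)).2 ha⟩, fun t ⟨g, ht⟩ => by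
        have := h.ee (hB ht)
        rwa [show g * t * g⁻¹ * (g * t * g⁻¹) = g * (t * t) * g⁻¹ by group, conj_eq_one_iff] at this⟩
      hc.1).resolve_right hse).1 E h.two hB le_top))
  have hz : ∀ a ∈ E, a ≠ 1 → 𝐍(E) ≤ 𝐂[a] → zpowers a = E := fun a ha a1 hn =>
    (irr _ (cycle_subG.2 ha) (hn.trans (cents_norm (cent_cycle a).ge))).resolve_left (mt cycle_eq1.1 a1)
  rcases (norm_eq_top_iff.1 (top_le_iff.1 ((normG ⊤).trans
    (cent_norm (⊤ : Subgroup G))))).eq_bot_or_eq_top with hC | hC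
  swap
  · have h2 : ∀ a : G, ⊤ ≤ 𝐂[a] := fun a => hC.ge.trans (cent_le_cent1 (mem_top a))
    refine ⟨fun P _ _ _ => le_top.trans ((norm_eq_top_iff.1 (top_le_iff.1 (cents_norm
      (hC.ge.trans (centS le_top))))).eq_bot_or_eq_top.resolve_left h1).ge, fun a ha a1 b hb b1 =>
        ⟨1, mem_top _, one_mem _, ?_⟩⟩
    obtain ⟨j, rfl⟩ := (hz a ha a1 (le_top.trans (h2 a))).ge hb
    have h3 : ∀ i : ℤ, a ^ (2 * i) = 1 := fun i => by rw [zpow_mul, zpow_two, h.ee ha, one_zpow]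
    obtain ⟨i, rfl | rfl⟩ := j.even_or_odd'
    · exact absurd (h3 i) b1
    · simp [zpow_add, h3]
  have hlt : ∀ b ∈ E, b ≠ 1 → 𝐂[b] ≠ ⊤ := fun b _ b1 e => b1 (hC.le (sub_cent1.1 e.ge))
  have : IsSimpleGroup (⊤ : Subgroup G) := topEquiv.isSimpleGroup
  have h4 := four_card hC h le_top h1
  rcases h4.eq_or_lt with h4 | h4
  · refine ⟨mx_of_sylowIn (((hQ G S E h.elem h4.symm (h.sc S.isPGroup' hS)).resolve_right hse) ▸
      SylowIn.top S), fun a ha a1 b hb b1 => F4.fused_of ⟨h.toScl, four_of_abelem h.elem h4.symm⟩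
        (fun a ha a1 => ?_) ha a1 hb b1⟩
    by_contra hc
    push Not at hc
    rw [← hz a ha a1 fun n hn => cent1_conj.2 (hc n (mem_top n) hn), card_cycle, h.order ha a1] at h4
    omega
  have x : Ctx T E := ⟨h, hG, hlt, irr⟩
  have h8 : 8 ≤ #|E| := by
    obtain ⟨j, hj⟩ := card_pgroup h.two
    rw [hj] at h4 ⊢
    exact Nat.pow_le_pow_right (i := 3) two_pos ((Nat.pow_lt_pow_iff_right one_lt_two (n := 2)).1 h4)
  obtain ⟨F₁, F₂, m₁, m₂, h2⟩ : ∃ F₁ F₂, Mi T E F₁ ∧ Mi T E F₂ ∧ F₁ ⊓ F₂ = ⊥ := by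
    by_contra hc
    exact hse (x.alpha (fun F F' m m' e => hc ⟨F, F', m, m', e⟩) h74 h8)
  obtain ⟨Φ, y⟩ := x.exists_fa m₁ m₂ h2
  have h3 : ⁅(⊤ : Subgroup G), (⊤ : Subgroup G)⁆ = ⊤ :=
    (IsSimpleGroup.eq_bot_or_eq_top_of_normal _ inferInstance).resolve_left fun e =>
      h1 (eq_bot_iff.2 (le_top.trans ((commG1P.1 e).trans hC.le)))
  exact ⟨mx_of_sylowIn (le_antisymm (y.S_le_E h3 (SylowIn.top S) hS h74) hS ▸ SylowIn.top S), y.trs h3⟩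

theorem gn (hQ : QStmt.{u}) (h74 : S1174Stmt.{u}) (n : ℕ) : GN.{u} n := by
  induction n with
  | zero => exact fun G _ _ _ _ _ h => absurd h (Nat.not_lt_zero _)
  | succ n ih =>
    exact fun G _ _ _ T E hn => gn_step hQ h74
      (fun G' _ _ _ T' E' h => ih G' T' E' (h.trans_le (Nat.lt_succ_iff.1 hn))) _ T E rfl

/-- the elements of order at most 2 of an abelian subgroup -/
def om (A : Subgroup G) (hA : IsMulCommutative A) : Subgroup G where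
  carrier := {x | x ∈ A ∧ x * x = 1}
  one_mem' := ⟨one_mem _, one_mul 1⟩
  inv_mem' h := ⟨inv_mem h.1, by rw [← mul_inv_rev, h.2, inv_one]⟩
  mul_mem' {a b} ha hb := ⟨mul_mem ha.1 hb.1, by
    rw [mul_assoc, ← mul_assoc b, mem_cent.1 (abelianE.1 hA ha.1) b hb.1, mul_assoc a, hb.2, mul_one,
      ha.2]⟩

theorem sce_om {S : Sylow 2 G} {A : Subgroup G} (hA : IsMulCommutative A)
    (h : IsStronglyClosed A (S : Subgroup G)) : Sce (cl (om A hA)) (om A hA) :=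
  ⟨scl_of_sc (S := S) ⟨fun _ ha => h.1 ha.1, fun a ha g hg =>
    ⟨h.2 a ha.1 g hg, Tr.conj_mul_self ha.2 g⟩⟩, fun t ⟨g, ht⟩ => by
      have := ht.2
      rwa [show g * t * g⁻¹ * (g * t * g⁻¹) = g * (t * t) * g⁻¹ by group, conj_eq_one_iff] at this⟩

theorem s1169_of (hQ : QStmt.{u}) (h74 : S1174Stmt.{u}) [IsSimpleGroup G] (S : Sylow 2 G)
    (A : Subgroup G) (hA : A ≠ ⊥) (hc : IsMulCommutative A) (h : IsStronglyClosed A (S : Subgroup G)) :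
    IsMulCommutative (S : Subgroup G) ∨ ∃ H : Subgroup G, IsStronglyEmbedded H := by
  obtain ⟨t, ht, h2⟩ := Tr.exists_orderOf_two_of_ne_bot (pgroup_sub h.1 S.isPGroup') hA
  refine (gn hQ h74 _ G _ _ (Nat.lt_succ_self _) (sce_om hc h) (trivgPn.2 ⟨t, ⟨ht,
    Tr.mul_self_of_orderOf_two h2⟩, Tr.ne_one_of_orderOf_two h2⟩)).imp_left fun h1 => ?_
  rw [le_antisymm h.1 ((h1.1 S S.isPGroup' (fun _ ha => h.1 ha.1) le_top).trans fun _ ha => ha.1)] at hc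
  exact hc

end Cfsg.Agent.GO
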