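import Cfsg.Agent.Lib.QGrp.SL2
import Cfsg.Agent.Lib.SF.Gen
import Cfsg.Agent.Lib.FT.Main

/-! Group theoretic properties of `PSL₂(q)`, `q` odd. -/

open Subgroup Matrix
open scoped MatrixGroups

namespace Cfsg.Agent.Ree

open FT Tr SF.GP QGrp Ess

universe u

section
variable {F : Type*} [Field F]

theorem comm_iff {a b : SL(2, F)} : a * b = b * a ↔ a 0 1 * b 1 0 = b 0 1 * a 1 0 ∧
    a 0 1 * (b 1 1 - b 0 0) = b 0 1 * (a 1 1 - a 0 0) ∧
    a 1 0 * (b 1 1 - b 0 0) = b 1 0 * (a 1 1 - a 0 0) := by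
  constructor
  · intro h
    obtain ⟨e1, e2, e3, -⟩ := ents h
    simp only [mul_ent] at e1 e2 e3
    exact ⟨by linear_combination e1, by linear_combination e2, by linear_combination -e3⟩
  · rintro ⟨e1, e2, e3⟩
    refine ext2 ?_ ?_ ?_ ?_ <;> simp only [mul_ent]
    exacts [by linear_combination e1, by linear_combination e2, by linear_combination -e3,
      by linear_combination -e1]

theorem scalar (h2 : (2 : F) ≠ 0) {y : SL(2, F)} (h1 : y 0 1 = 0) (h3 : y 1 0 = 0)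
    (h4 : y 1 1 - y 0 0 = 0) : y = 1 ∨ y = -1 :=
  (mem_center_SL h2).1 (mem_center_iff.2 fun g => comm_iff.2 (by simp [h1, h3, h4]))

theorem ca (h2 : (2 : F) ≠ 0) {y a b : SL(2, F)} (hy : ¬ (y = 1 ∨ y = -1)) (ha : a * y = y * a)
    (hb : b * y = y * b) : a * b = b * a := by
  obtain ⟨a1, a2, a3⟩ := comm_iff.1 ha
  obtain ⟨b1, b2, b3⟩ := comm_iff.1 hb
  rw [comm_iff]
  have hy' := mt (fun h : _ ∧ _ ∧ _ => scalar h2 (y := y) h.1 h.2.1 h.2.2) hy
  generalize y 1 1 - y 0 0 = y3, a 1 1 - a 0 0 = x3, b 1 1 - b 0 0 = z3 at *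
  generalize y 0 1 = y1, y 1 0 = y2, a 0 1 = x1, a 1 0 = x2, b 0 1 = z1, b 1 0 = z2 at *
  by_cases h1 : y1 = 0
  · by_cases h3 : y2 = 0
    · have h4 : y3 ≠ 0 := fun h4 => hy' ⟨h1, h3, h4⟩
      refine ⟨mul_left_cancel₀ (mul_ne_zero h4 h4) ?_, mul_left_cancel₀ h4 ?_,
        mul_left_cancel₀ h4 ?_⟩ <;> grind
    · refine ⟨mul_left_cancel₀ h3 ?_, mul_left_cancel₀ (mul_ne_zero h3 h3) ?_,
        mul_left_cancel₀ h3 ?_⟩ <;> grind
  · refine ⟨mul_left_cancel₀ h1 ?_, mul_left_cancel₀ h1 ?_,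
      mul_left_cancel₀ (mul_ne_zero h1 h1) ?_⟩ <;> grind

theorem nab (h2 : (2 : F) ≠ 0) {y : SL(2, F)}
    (h : ∀ g : SL(2, F), y * (g * y * g⁻¹) = g * y * g⁻¹ * y) : y = 1 ∨ y = -1 := by
  have i1 : (E12 (1 : F))⁻¹ = E12 (-1) := inv_eq_of_mul_eq_one_right (by simp [E12_mul, E12_zero])
  have i2 : (E21 (1 : F))⁻¹ = E21 (-1) := inv_eq_of_mul_eq_one_right (by simp [E21_mul, E21_zero])
  obtain ⟨a1, a2, a3⟩ := comm_iff.1 (h (E12 1))
  obtain ⟨b1, b2, b3⟩ := comm_iff.1 (h (E21 1))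
  simp only [i1, i2, mul_ent] at a1 a2 a3 b1 b2 b3
  simp at a1 a2 a3 b1 b2 b3
  have h3 : y 1 0 = 0 := by
    have : 2 * y 1 0 ^ 2 = 0 := by grind
    simpa [h2] using this
  have h1 : y 0 1 = 0 := by
    have : 2 * y 0 1 ^ 2 = 0 := by grind
    simpa [h2] using this
  refine scalar h2 h1 h3 ?_
  have : (y 1 1 - y 0 0) ^ 2 = 0 := by grind
  simpa using this

end

variable {G : Type u} [Group G]

/-- The properties of `PSL₂(q)` which are used. -/
structure PL (L : Subgroup G) : Prop where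
  three : ∀ a ∈ L, ∀ b ∈ L, ∀ c ∈ L, orderOf a = 2 → orderOf b = 2 → orderOf c = 2 → Commute a b →
    Commute a c → Commute b c → a ≠ b → c = a ∨ c = b ∨ c = a * b
  four : ∀ x ∈ L, ∀ b ∈ L, orderOf (x * x) = 2 → orderOf b = 2 → Commute x b → x * x = b
  odd : ∀ y ∈ L, y ≠ 1 → Odd (orderOf y) → ∀ g ∈ L, ∀ h ∈ L, Commute g y → Commute h y →
    Commute g h ∧ (orderOf g = 2 → orderOf h = 2 → g = h)
  core : 𝐎(L) = ⊥
  ex : ∃ a ∈ L, orderOf a = 2

theorem PL.of_cover [Finite G] {L : Subgroup G} {F : Type*} [Field F] (h2 : (2 : F) ≠ 0)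
    (π : SL(2, F) →* G) (hL : ∀ x, x ∈ L ↔ ∃ m, π m = x) (hK : ∀ m, π m = 1 ↔ m = 1 ∨ m = -1) :
    PL L := by
  have n1 : π (-1) = 1 := (hK _).2 (Or.inr rfl)
  have neg : ∀ m, π (-m) = π m := fun m => by rw [← neg_one_mul, map_mul, n1, one_mul]
  have lift : ∀ a b, Commute (π a) (π b) → a * b = b * a ∨ a * b = -(b * a) := fun a b h => by
    rcases (hK (a * b * (b * a)⁻¹)).1 (by
      rw [map_mul, map_inv, map_mul, map_mul, h.eq, mul_inv_cancel]) with e | e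
    · exact Or.inl (mul_inv_eq_one.1 e)
    · exact Or.inr (by rw [mul_inv_eq_iff_eq_mul] at e; rw [e, neg_one_mul])
  have sq : ∀ a, orderOf (π a) = 2 → a * a = -1 := fun a h => by
    rcases (hK (a * a)).1 (by rw [map_mul]; exact mul_self_of_orderOf_two h) with e | e
    · exact absurd ((hK a).2 (sq_eq_one h2 e)) (ne_one_of_orderOf_two h)
    · exact e
  have eq : ∀ a b, orderOf (π a) = 2 → orderOf (π b) = 2 → a * b = b * a → π a = π b :=
    fun a b ha hb h => by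
      have : π a * π b = 1 := by
        rw [← map_mul, hK]
        refine sq_eq_one h2 ?_
        rw [mul_assoc, ← mul_assoc b, ← h, mul_assoc, sq b hb, ← mul_assoc, sq a ha]; simp
      rw [eq_inv_of_mul_eq_one_left this, inv_eq_iff_mul_eq_one, mul_self_of_orderOf_two hb]
  have odd : ∀ y g, Odd (orderOf (π y)) → Commute (π g) (π y) → g * y = y * g := fun y g ho h => by
    refine (lift g y h).resolve_right fun e => neg_one_ne h2 ?_
    have e1 : g * y * g⁻¹ = -y := by rw [e]; simp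
    have e2 : g * y ^ orderOf (π y) * g⁻¹ = -(y ^ orderOf (π y)) := by
      rw [← conj_pow, e1, ho.neg_pow]
    rcases (hK (y ^ orderOf (π y))).1 (by rw [map_pow, pow_orderOf_eq_one]) with e | e
    · simpa [e] using e2.symm
    · simpa [e] using e2
  refine ⟨?_, ?_, ?_, ?_, ?_⟩
  · intro a ha b hb c hc a2 b2 c2 ab ac bc ne
    obtain ⟨a, rfl⟩ := (hL a).1 ha
    obtain ⟨b, rfl⟩ := (hL b).1 hb
    obtain ⟨c, rfl⟩ := (hL c).1 hc
    rcases lift a c ac with e1 | e1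
    · exact Or.inl (eq a c a2 c2 e1).symm
    rcases lift b c bc with e2 | e2
    · exact Or.inr (Or.inl (eq b c b2 c2 e2).symm)
    refine Or.inr (Or.inr ?_)
    rw [← map_mul]
    refine eq _ _ c2 (orderOf_eq_prime ?_ fun e => ne ?_) ?_
    · rw [map_mul, ab.mul_pow, pow_two, pow_two, mul_self_of_orderOf_two a2,
        mul_self_of_orderOf_two b2, one_mul]
    · rw [map_mul] at e
      rw [eq_inv_of_mul_eq_one_left e, inv_eq_iff_mul_eq_one, mul_self_of_orderOf_two b2]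
    · rw [mul_assoc, e2, mul_neg, ← mul_assoc a, e1]; simp [mul_assoc]
  · intro x hx b hb x2 b2 h
    obtain ⟨x, rfl⟩ := (hL x).1 hx
    obtain ⟨b, rfl⟩ := (hL b).1 hb
    rw [← map_mul] at x2 ⊢
    refine eq _ _ x2 b2 ?_
    rcases lift x b h with e | e
    · rw [mul_assoc, e, ← mul_assoc, e, mul_assoc]
    · rw [mul_assoc, e, mul_neg, ← mul_assoc, e]; simp [mul_assoc]
  · intro y hy y1 ho g hg h hh gy hy'
    obtain ⟨y, rfl⟩ := (hL y).1 hy
    obtain ⟨g, rfl⟩ := (hL g).1 hg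
    obtain ⟨h, rfl⟩ := (hL h).1 hh
    have := ca h2 (mt (hK y).2 y1) (odd y g ho gy) (odd y h ho hy')
    exact ⟨(Commute.map this π :), fun g2 h2 => eq g h g2 h2 this⟩
  · by_contra hO
    obtain ⟨A, hA, hle⟩ := minnormal_exists hO (pcore_norm _ L)
    obtain ⟨p, -, hp⟩ := minnormal_solvable hA hle (oddOrder _ (odd_core L))
    obtain ⟨y, hy, y1⟩ := trivgPn.1 hA.1
    obtain ⟨y, rfl⟩ := (hL y).1 (pcore_sub _ L (hle hy))
    refine y1 ((hK y).2 (nab h2 fun g => odd _ _ ?_ ?_))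
    · have := odd_orderOf_of_odd_card (odd_core L) (hle hy)
      rw [map_mul, map_mul, map_inv]
      exact ((MulAut.conj (π g)).orderOf_eq _).symm ▸ this
    · rw [map_mul, map_mul, map_inv]
      exact (abelem_abelian hp).is_comm.comm ⟨_, hy⟩ ⟨_, conj_mem_of_mem_normalizer
        (hA.2 ((hL _).2 ⟨g, rfl⟩)) hy⟩ |> congrArg Subtype.val
  · have e : wm (0 : F) * wm 0 = -1 := by
      refine ext2 ?_ ?_ ?_ ?_ <;> rw [mul_ent] <;> simp [wm]
    refine ⟨_, (hL _).2 ⟨wm 0, rfl⟩, orderOf_eq_prime (by rw [pow_two, ← map_mul, e, n1]) fun h => ?_⟩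
    rcases (hK _).1 h with h | h <;> simp [h] at e <;> exact neg_one_ne h2 e.symm

theorem PL.of_iso [Finite G] {L : Subgroup G} {F : Type} [Field F] [Fintype F]
    (h : Odd (Fintype.card F)) (e : L ≃* Matrix.ProjectiveSpecialLinearGroup (Fin 2) F) : PL L := by
  have h2 := two_ne_of_odd h
  refine PL.of_cover h2 (L.subtype.comp (e.symm.toMonoidHom.comp (QuotientGroup.mk' _))) ?_ ?_
  · refine fun x => ⟨fun hx => ?_, fun ⟨m, hm⟩ => hm ▸ SetLike.coe_mem _⟩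
    obtain ⟨m, hm⟩ := QuotientGroup.mk_surjective (e ⟨x, hx⟩)
    exact ⟨m, by simp [hm]⟩
  · intro m
    rw [← mem_center_SL h2, ← QuotientGroup.eq_one_iff]
    simp

end Cfsg.Agent.Ree
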