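import Cfsg.Agent.Lib.GO.Ree1
import Cfsg.Agent.Lib.ZD.A1
import Cfsg.Agent.Lib.BS.All
import Cfsg.Agent.Lib.BS.Bender
import Cfsg.Agent.Lib.SF.Sft1
import Cfsg.Agent.Lib.Transfer.ElemCent

/-! Involution centralizers `⟨t⟩ × E` with `F*(E) = PSL₂(q)` and abelian Sylow `2`-subgroups. -/

open Subgroup MulAction

set_option linter.unusedSectionVars false

namespace Cfsg.Agent.Ree

open FT Tr SF.GP

universe u

variable {G : Type u} [Group G] [Finite G]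

/-- All `2`-subgroups are abelian. -/
def Ab (G : Type u) [Group G] : Prop :=
  ∀ T : Subgroup G, IsPGroup 2 T → ∀ x ∈ T, ∀ y ∈ T, Commute x y

theorem Ab.sqc (h : Ab G) {T : Subgroup G} (hT : IsPGroup 2 T) {g x : G} (hg : g ∈ 𝐍(T))
    (hx : x ∈ T) (hc : Commute (g * g) x) : Commute g x := by
  obtain ⟨k, m, ⟨j, rfl⟩, e⟩ := Nat.exists_eq_two_pow_mul_odd (orderOf_pos g).ne'
  have h1 : Commute (g ^ (2 * j + 1)) x := h _ (isPGroup_sup_of_le_normalizer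
    (isPGroup_zpowers (k := k) (by rw [← pow_mul, mul_comm, ← e, pow_orderOf_eq_one])) hT
    (zpowers_le.2 (pow_mem hg _))) _ (mem_sup_left (mem_zpowers _)) _ (mem_sup_right hx)
  have := (hc.pow_left j).inv_left.mul_left h1
  rwa [pow_succ, pow_mul, pow_two, inv_mul_cancel_left] at this

theorem Ab.iso (h : Ab G) {T H : Subgroup G} (hT : SylowIn 2 T H) {u : G} (hu : u ∈ T)
    (u2 : orderOf u = 2) (hn : ∀ n ∈ H, n ∈ 𝐍(T) → Commute n u) {g : G} (hg : g ∈ H) :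
    u * g * u⁻¹ * g⁻¹ ∈ 𝐎(H) := by
  refine ZD.zstar_in (hT.le hu) u2 (fun g hg hc => ?_) hg
  have TC : ∀ x ∈ T, x ∈ 𝐂(T) := fun x hx y hy => h T hT.isPGroup y hy x hx
  obtain ⟨c, hc1, h1⟩ := (hT.mono (K := H ⊓ 𝐂[u]) (le_inf hT.le fun x hx =>
    mem_cent1.2 (h T hT.isPGroup x hx u hu)) inf_le_left).exists_conj_mem
    ⟨H.mul_mem (H.mul_mem hg (hT.le hu)) (H.inv_mem hg), mem_cent1.2 hc.symm⟩ (k := 1)
    (by rw [pow_one, conj_pow, ← u2, pow_orderOf_eq_one]; group)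
  have e : c * (g * u * g⁻¹) * c⁻¹ = c * g * u * (c * g)⁻¹ := by group
  obtain ⟨n, h2, h3, h4⟩ := hT.exists_normalizer_conj (H.mul_mem hc1.1 hg) (TC u hu) (e ▸ TC _ h1)
  rw [(hn n h2 h3).eq, mul_inv_cancel_right, ← e] at h4
  calc g * u * g⁻¹ = c⁻¹ * (c * (g * u * g⁻¹) * c⁻¹) * c := by group
    _ = u := by rw [← h4, mul_assoc, ← mem_cent1.1 hc1.2]; group

theorem Ab.not_se [IsSimpleGroup G] (h : Ab G) {H : Subgroup G} (hH : IsStronglyEmbedded H) {t x y : G}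
    (t2 : orderOf t = 2) (hx : Commute x t) (hy : Commute y t) : Commute x y := by
  obtain ⟨Q, w, hp⟩ := BS.bender G H hH
  obtain ⟨s, r, Q0, K, hr⟩ := hp.rich hp.rk2
  have hQ := hp.isPGroup hp.rk2
  obtain rfl : Q0 = Q := le_antisymm hr.Q0_le fun x hx =>
    (hr.memQ0 x).2 ⟨hx, (hp.concl hp.rk2).2 (h Q hQ) x hx⟩
  obtain rfl := hr.r_eq_s hr.rQ
  have hD := hr.D_le_K (fun x hx x1 => by
    obtain ⟨a, ha, rfl⟩ := hr.trK hx x1
    have haD := hr.K_le ha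
    exact ⟨_, hp.QD' haD hr.rQ, _, K.mul_mem (K.inv_mem ha) (K.inv_mem ha), _,
      hp.QD' haD (Q0.inv_mem hr.rQ), hr.tkst ha⟩)
  obtain ⟨c, hc⟩ := isConj_iff.1 (hp.isConj t2 hr.s2)
  have key : ∀ z, Commute z t → c * z * c⁻¹ ∈ Q0 := fun z hz => by
    obtain ⟨a, ha, v, hv, h1, e⟩ := hr.dec_cent_s (g := c * z * c⁻¹)
      (hc ▸ (hz.map (MulAut.conj c) :))
    rw [e, hr.K_inf_V (hD ▸ hv) h1, mul_one]; exact ha
  have := (h _ hQ _ (key x hx) _ (key y hy)).map (MulAut.conj c⁻¹)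
  simpa [mul_assoc] using this

/-- The hypothesis. -/
structure RC (S : Subgroup G) (t : G) (E L : Subgroup G) : Prop where
  ab : Ab G
  syl : SylowIn 2 S ⊤
  tS : t ∈ S
  t2 : orderOf t = 2
  EC : E ≤ 𝐂[t]
  dec : ∀ g ∈ 𝐂[t], g ∈ E ∨ t * g ∈ E
  tE : t ∉ E
  LE : L ≤ E
  nL : E ≤ 𝐍(L)
  cL : ∀ g ∈ E, g ∈ 𝐂(L) → g = 1
  pl : PL L

/-- The structure of the Sylow subgroup. -/
structure RD (S : Subgroup G) (t : G) (E L : Subgroup G) (a b ρ : G) : Prop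
    extends RC S t E L where
  memV : ∀ v, v ∈ S ⊓ L ↔ v = 1 ∨ v = a ∨ v = b ∨ v = a * b
  a2 : orderOf a = 2
  b2 : orderOf b = 2
  ne : a ≠ b
  rE : ρ ∈ E
  rS : ρ ∈ 𝐍(S)
  ra : ρ * a * ρ⁻¹ = b
  rb : ρ * b * ρ⁻¹ = a * b
  SE : S ⊓ E ≤ L
  fixa : ∀ g ∈ 𝐍(S ⊓ L), g * a * g⁻¹ = a → g ∈ 𝐂(S ⊓ L)

namespace RC

variable {S : Subgroup G} {t : G} {E L : Subgroup G} (h : RC S t E L)
include h

theorem tt : t * t = 1 := mul_self_of_orderOf_two h.t2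

theorem cS {x y : G} (hx : x ∈ S) (hy : y ∈ S) : Commute x y := h.ab S h.syl.isPGroup x hx y hy

theorem SC : S ≤ 𝐂[t] := fun _ hx => mem_cent1.2 (h.cS hx h.tS)

theorem norm_of {X : Subgroup G} (h1 : X ≤ E) (h2 : E ≤ 𝐍(X)) : 𝐂[t] ≤ 𝐍(X) := fun g hg => by
  have ht : t ∈ 𝐍(X) := cent_sub _ fun x hx => mem_cent1.1 (h.EC (h1 hx))
  rcases h.dec g hg with e | e
  · exact h2 e
  · exact (mul_mem_cancel_left ht).1 (h2 e)

theorem nC : 𝐂[t] ≤ 𝐍(L) := h.norm_of h.LE h.nL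

theorem nE : 𝐂[t] ≤ 𝐍(E) := h.norm_of le_rfl le_normalizer

theorem eq_one {X : Subgroup G} (hX : L ≤ X) {u : G} (hu : u ∈ E)
    (hc : ∀ g ∈ L, u * g * u⁻¹ * g⁻¹ ∈ 𝐎(X)) : u = 1 := by
  refine h.cL u hu fun g hg => ?_
  have : u * g * u⁻¹ * g⁻¹ = 1 := by
    rw [← mem_bot, ← h.pl.core]
    exact inf_core_le hX ⟨hc g hg,
      L.mul_mem (conj_mem_of_mem_normalizer (h.nL hu) hg) (L.inv_mem hg)⟩
  rw [mul_inv_eq_one, mul_inv_eq_iff_eq_mul] at this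
  exact this.symm

theorem exists_rd : ∃ a b ρ, RD S t E L a b ρ := by
  have sV : SylowIn 2 (S ⊓ L) L := h.syl.inf_of_le_normalizer le_top (h.SC.trans h.nC)
  have sE : SylowIn 2 (S ⊓ E) E := h.syl.inf_of_le_normalizer le_top (h.SC.trans h.nE)
  obtain ⟨a₀, h0, a0⟩ := h.pl.ex
  obtain ⟨c, -, ha⟩ := sV.exists_conj_mem h0 (k := 1) (by rw [pow_one, ← a0, pow_orderOf_eq_one])
  have a2 : orderOf (c * a₀ * c⁻¹) = 2 := ((MulAut.conj c).orderOf_eq _).trans a0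
  generalize c * a₀ * c⁻¹ = a at ha a2
  obtain ⟨n, hn, hnV, hna⟩ : ∃ n ∈ L, n ∈ 𝐍(S ⊓ L) ∧ ¬ Commute n a := by
    by_contra! hc
    exact ne_one_of_orderOf_two a2 (h.eq_one le_rfl (h.LE ha.2) fun g hg => h.ab.iso sV ha a2 hc hg)
  obtain ⟨b, eb⟩ : ∃ b, n * a * n⁻¹ = b := ⟨_, rfl⟩
  have hb : b ∈ S ⊓ L := eb ▸ conj_mem_of_mem_normalizer hnV ha
  have b2 : orderOf b = 2 := eb ▸ ((MulAut.conj n).orderOf_eq _).trans a2
  have ne : a ≠ b := fun e => hna (by rw [← e, mul_inv_eq_iff_eq_mul] at eb; exact eb)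
  have aa := mul_self_of_orderOf_two a2
  have bb := mul_self_of_orderOf_two b2
  have ab := h.cS ha.1 hb.1
  have memV : ∀ v, v ∈ S ⊓ L ↔ v = 1 ∨ v = a ∨ v = b ∨ v = a * b := by
    refine fun v => ⟨fun hv => ?_, ?_⟩
    · by_cases v1 : v = 1
      · exact Or.inl v1
      by_cases vv : v * v = 1
      · exact Or.inr (h.pl.three a ha.2 b hb.2 v hv.2 a2 b2 (orderOf_eq_prime (by rw [pow_two, vv]) v1)
          ab (h.cS ha.1 hv.1) (h.cS hb.1 hv.1) ne)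
      obtain ⟨z, ⟨i, rfl⟩, z2⟩ := exists_orderOf_two_of_ne_bot
        (sV.isPGroup.to_le (zpowers_le.2 (mul_mem hv hv))) (zpowers_ne_bot.2 vv)
      simp only [(Commute.refl v).mul_zpow] at z2
      have hz := zpow_mem hv i
      exact absurd ((h.pl.four _ hz.2 a ha.2 z2 a2 (h.cS hz.1 ha.1)).symm.trans
        (h.pl.four _ hz.2 b hb.2 z2 b2 (h.cS hz.1 hb.1))) ne
    · rintro (rfl | rfl | rfl | rfl)
      exacts [one_mem _, ha, hb, mul_mem ha hb]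
  -- an element of `N(V)` fixing `a` centralizes `V`
  have fixa : ∀ g ∈ 𝐍(S ⊓ L), g * a * g⁻¹ = a → g ∈ 𝐂(S ⊓ L) := fun g hg e => by
    have e1 : Commute g a := mul_inv_eq_iff_eq_mul.1 e
    have e2 : Commute g b := by
      rcases (memV _).1 (conj_mem_of_mem_normalizer hg hb) with e' | e' | e' | e'
      · exact absurd (by simpa using e') (ne_one_of_orderOf_two b2)
      · exact absurd (by simpa using e.trans e'.symm) ne
      · exact mul_inv_eq_iff_eq_mul.1 e'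
      · refine h.ab.sqc sV.isPGroup hg hb (mul_inv_eq_iff_eq_mul.1 ?_)
        calc g * g * b * (g * g)⁻¹ = g * (g * b * g⁻¹) * g⁻¹ := by group
          _ = g * (a * b) * g⁻¹ := by rw [e']
          _ = (g * a * g⁻¹) * (g * b * g⁻¹) := by group
          _ = b := by rw [e, e', ← mul_assoc, aa, one_mul]
    intro v hv
    rcases (memV v).1 hv with rfl | rfl | rfl | rfl
    exacts [by simp, e1.symm, e2.symm, (e1.mul_right e2).symm]
  have nb : n * b * n⁻¹ = a * b := by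
    rcases (memV _).1 (conj_mem_of_mem_normalizer hnV hb) with e' | e' | e' | e'
    · exact absurd (by simpa using e') (ne_one_of_orderOf_two b2)
    · refine absurd (h.ab.sqc sV.isPGroup hnV ha (mul_inv_eq_iff_eq_mul.1 ?_)) hna
      calc n * n * a * (n * n)⁻¹ = n * (n * a * n⁻¹) * n⁻¹ := by group
        _ = a := by rw [eb, e']
    · exact absurd (by simpa using eb.trans e'.symm) ne
    · exact e'
  set X := L ⊔ (S ⊓ E) with hX
  have XE : X ≤ E := sup_le h.LE inf_le_right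
  have sX : SylowIn 2 (S ⊓ E) X := sE.mono le_sup_right XE
  have SV : S ⊓ E ≤ 𝐂(S ⊓ L) := fun x hx y hy => h.cS hy.1 hx.1
  obtain ⟨c, hc, ρ, hρ, e⟩ := (sE.mono (le_inf le_sup_right SV) (inf_le_left.trans XE)).frattini
    (x := n) (normsI (zpowers_le.2 (le_normalizer (mem_sup_left hn)))
        (norms_cent (zpowers_le.2 hnV)) (mem_zpowers n))
  have ρX : ρ ∈ X := (X.mul_mem_cancel_left hc.1).1 (e ▸ mem_sup_left hn)
  have cv : ∀ v ∈ S ⊓ L, ρ * v * ρ⁻¹ = n * v * n⁻¹ := fun v hv => by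
    have := hc.2 _ (conj_mem_of_mem_normalizer hnV hv)
    calc ρ * v * ρ⁻¹ = c⁻¹ * (n * v * n⁻¹ * c) := by rw [e]; group
      _ = _ := by rw [this]; group
  have ra := (cv a ha).trans eb
  have rb := (cv b hb).trans nb
  have rab : ρ * (a * b) * ρ⁻¹ = a := by
    calc ρ * (a * b) * ρ⁻¹ = (ρ * a * ρ⁻¹) * (ρ * b * ρ⁻¹) := by group
      _ = a := by rw [ra, rb, ab.eq, ← mul_assoc, bb, one_mul]
  have nV : ∀ g ∈ X, g ∈ 𝐍(S ⊓ E) → g ∈ 𝐍(S ⊓ L) := fun g h1 h2 =>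
    mem_normalizer_of_forall fun x hx => ⟨(conj_mem_of_mem_normalizer h2 ⟨hx.1, h.LE hx.2⟩).1,
      conj_mem_of_mem_normalizer (h.nL (XE h1)) hx.2⟩
  have cm : ∀ g ∈ X, g ∈ 𝐍(S ⊓ E) → ∀ s ∈ S ⊓ E, g * s * g⁻¹ * s⁻¹ ∈ S ⊓ L := fun g h1 h2 s hs => by
    refine ⟨S.mul_mem (conj_mem_of_mem_normalizer h2 hs).1 (S.inv_mem hs.1), ?_⟩
    obtain ⟨l, hl, s', hs', rfl⟩ := (mem_sup_of_le_normalizer' (inf_le_right.trans h.nL)).1 h1
    have := L.mul_mem hl (conj_mem_of_mem_normalizer (h.nL hs.2) (L.inv_mem hl))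
    change _ ∈ L
    convert this using 1
    rw [mul_assoc l, (h.cS hs'.1 hs.1).eq]; group
  have nofix : ∀ u ∈ S ⊓ E, Commute ρ u → u = 1 := fun u hu hc => by
    by_contra u1
    obtain ⟨z, hz, z2⟩ := exists_orderOf_two_of_ne_bot
      (sE.isPGroup.to_le (zpowers_le.2 hu)) (zpowers_ne_bot.2 u1)
    have zS := zpowers_le.2 hu hz
    have zρ : Commute ρ z := by obtain ⟨i, rfl⟩ := hz; exact hc.zpow_right i
    have k1 : ∀ g ∈ X, g ∈ 𝐍(S ⊓ E) → g * a * g⁻¹ = a → Commute g z := fun g h1 h2 h3 => by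
      have h4 := cm g h1 h2 z zS
      have h5 := fixa g (nV g h1 h2) h3 _ h4
      have h6 : g * z * g⁻¹ * z⁻¹ * (g * z * g⁻¹ * z⁻¹) = 1 := by
        rcases (memV _).1 h4 with e | e | e | e <;> rw [e]
        exacts [mul_one _, aa, bb, by rw [← ab.mul_mul_mul_comm, aa, bb, mul_one]]
      refine h.ab.sqc sE.isPGroup h2 zS (mul_inv_eq_iff_eq_mul.1 ?_)
      calc g * g * z * (g * g)⁻¹ = g * (g * z * g⁻¹ * z⁻¹) * z * g⁻¹ := by group
        _ = g * z * g⁻¹ * z⁻¹ * (g * z * g⁻¹ * z⁻¹) * z := by rw [← h5]; group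
        _ = z := by rw [h6, one_mul]
    refine ne_one_of_orderOf_two z2 (h.eq_one (X := X) le_sup_left zS.2 fun g hg =>
      h.ab.iso sX zS z2 (fun g h1 h2 => ?_) (mem_sup_left hg))
    rcases (memV _).1 (conj_mem_of_mem_normalizer (nV g h1 h2) ha) with e' | e' | e' | e'
    · exact absurd (by simpa using e') (ne_one_of_orderOf_two a2)
    · exact k1 g h1 h2 e'
    · simpa using zρ.mul_left (k1 (ρ⁻¹ * g) (mul_mem (inv_mem ρX) h1) (mul_mem (inv_mem hρ) h2)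
        (by rw [← ra] at e'; calc _ = ρ⁻¹ * (g * a * g⁻¹) * ρ := by group
              _ = a := by rw [e']; group))
    · simpa using zρ.inv_left.mul_left (k1 (ρ * g) (mul_mem ρX h1) (mul_mem hρ h2)
        (by calc _ = ρ * (g * a * g⁻¹) * ρ⁻¹ := by group
              _ = a := by rw [e', rab]))
  refine ⟨a, b, ρ, h, memV, a2, b2, ne, XE ρX, mem_normalizer_of_forall fun s hs => ?_, ra, rb,
    fun s hs => ?_, fixa⟩
  · rcases h.dec s (h.SC hs) with e | e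
    · exact (conj_mem_of_mem_normalizer hρ ⟨hs, e⟩).1
    · have := (conj_mem_of_mem_normalizer hρ ⟨S.mul_mem h.tS hs, e⟩).1
      rw [← mul_assoc, mem_cent1.1 (h.EC (XE ρX)), mul_assoc, mul_assoc] at this
      simpa [mul_assoc] using (mul_mem_cancel_left h.tS).1 this
  · have k : ∀ v ∈ S ⊓ L, ρ * s * ρ⁻¹ * s⁻¹ * (ρ * v * ρ⁻¹) = v → s ∈ L := fun v hv e => by
      have := nofix (s * v) ⟨S.mul_mem hs.1 hv.1, E.mul_mem hs.2 (h.LE hv.2)⟩
        (mul_inv_eq_iff_eq_mul.1 (by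
          have h1 := (h.cS hs.1 (cm ρ ρX hρ s hs).1).eq
          calc ρ * (s * v) * ρ⁻¹ = (ρ * s * ρ⁻¹ * s⁻¹ * s) * (ρ * v * ρ⁻¹) := by group
            _ = s * v := by rw [← h1, mul_assoc, e]))
      rw [eq_inv_of_mul_eq_one_left this]; exact L.inv_mem hv.2
    rcases (memV _).1 (cm ρ ρX hρ s hs) with e | e | e | e
    · exact k 1 (one_mem _) (by rw [e]; group)
    · exact k b hb (by rw [e, rb, ← mul_assoc, aa, one_mul])
    · exact k (a * b) (mul_mem ha hb) (by rw [e, rab, ab.eq])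
    · exact k a ha (by rw [e, ra, mul_assoc, bb, mul_one])

end RC

namespace RD

variable {S : Subgroup G} {t : G} {E L : Subgroup G} {a b ρ : G} (h : RD S t E L a b ρ)
include h

theorem aV : a ∈ S ⊓ L := (h.memV a).2 (by simp)

theorem bV : b ∈ S ⊓ L := (h.memV b).2 (by simp)

theorem tL : t ∉ L := fun e => h.tE (h.LE e)

theorem decS {s : G} (hs : s ∈ S) : s ∈ S ⊓ L ∨ ∃ v ∈ S ⊓ L, s = t * v :=
  (h.dec s (h.toRC.SC hs)).imp (fun e => ⟨hs, h.SE ⟨hs, e⟩⟩) fun e =>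
    have := S.mul_mem h.tS hs
    ⟨_, ⟨this, h.SE ⟨this, e⟩⟩, by rw [← mul_assoc, h.toRC.tt, one_mul]⟩

theorem sqV {v : G} (hv : v ∈ S ⊓ L) : v * v = 1 := by
  have aa := mul_self_of_orderOf_two h.a2
  have bb := mul_self_of_orderOf_two h.b2
  rcases (h.memV _).1 hv with e | e | e | e <;> rw [e]
  exacts [mul_one _, aa, bb,
    by rw [← (h.toRC.cS h.aV.1 h.bV.1).mul_mul_mul_comm, aa, bb, mul_one]]

theorem conj_t {r : G} (hr : r ∈ E) (v : G) : r * (t * v) * r⁻¹ = t * (r * v * r⁻¹) := by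
  rw [← mul_assoc, mem_cent1.1 (h.EC hr)]; group

theorem conjV {v w : G} (hv : v ∈ S ⊓ L) (v1 : v ≠ 1) (hw : w ∈ S ⊓ L) (w1 : w ≠ 1) :
    ∃ r ∈ E, r ∈ 𝐍(S) ∧ r * v * r⁻¹ = w := by
  have k : ∀ v ∈ S ⊓ L, v ≠ 1 → ∃ r ∈ E, r ∈ 𝐍(S) ∧ r * a * r⁻¹ = v := fun v hv v1 => by
    rcases (h.memV v).1 hv with e | e | e | e
    · exact absurd e v1
    · exact ⟨1, one_mem _, one_mem _, by simp [e]⟩
    · exact ⟨ρ, h.rE, h.rS, e ▸ h.ra⟩
    · exact ⟨ρ * ρ, mul_mem h.rE h.rE, mul_mem h.rS h.rS, by rw [e, ← h.rb, ← h.ra]; group⟩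
  obtain ⟨r, h1, h2, rfl⟩ := k v hv v1
  obtain ⟨r', h3, h4, rfl⟩ := k w hw w1
  exact ⟨r' * r⁻¹, mul_mem h3 (inv_mem h1), mul_mem h4 (inv_mem h2), by group⟩

theorem tr {H : Subgroup G} (hH : 𝐂[t] ≤ H) {g : G} (hg : g ∈ H) (hgS : g ∈ 𝐍(S))
    (hc : ¬ Commute g t) {s : G} (hs : s ∈ S) (s1 : s ≠ 1) :
    ∃ n ∈ H, n ∈ 𝐍(S) ∧ n * t * n⁻¹ = s := by
  let R : G → Prop := fun s => ∃ n ∈ H, n ∈ 𝐍(S) ∧ n * t * n⁻¹ = s
  have Rc : ∀ n ∈ H, n ∈ 𝐍(S) → ∀ x, R (n * x * n⁻¹) → R x := fun n h1 h2 x ⟨m, h3, h4, e⟩ =>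
    ⟨n⁻¹ * m, mul_mem (inv_mem h1) h3, mul_mem (inv_mem h2) h4, by
      calc _ = n⁻¹ * (m * t * m⁻¹) * n := by group
        _ = x := by rw [e]; group⟩
  have R1 : R t := ⟨1, one_mem _, one_mem _, by simp⟩
  have RV : ∀ v ∈ S ⊓ L, v ≠ 1 → ∀ w ∈ S ⊓ L, w ≠ 1 → (R w → R v) ∧ (R (t * w) → R (t * v)) :=
    fun v hv v1 w hw w1 => by
      obtain ⟨r, h1, h2, rfl⟩ := h.conjV hv v1 hw w1
      exact ⟨Rc r (hH (h.EC h1)) h2 v, fun e => Rc r (hH (h.EC h1)) h2 _ (by rwa [h.conj_t h1])⟩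
  have Rg : R (g * t * g⁻¹) := ⟨g, hg, hgS, rfl⟩
  have a1 := ne_one_of_orderOf_two h.a2
  have b1 := ne_one_of_orderOf_two h.b2
  have g1 : g * t * g⁻¹ ≠ 1 := by simpa using ne_one_of_orderOf_two h.t2
  have tL : ∀ x ∈ L, Commute x t := fun x hx => mem_cent1.1 (h.EC (h.LE hx))
  have hA : R a := by
    by_contra hA
    obtain ⟨v, hv, e⟩ := (h.decS (conj_mem_of_mem_normalizer hgS h.tS)).resolve_left fun e =>
      hA ((RV a h.aV a1 _ e g1).1 Rg)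
    have v1 : v ≠ 1 := fun e' => hc (mul_inv_eq_iff_eq_mul.1 (by simpa [e'] using e))
    have gV : ∀ n ∈ H, n ∈ 𝐍(S) → n ∈ 𝐍(S ⊓ L) := fun n h1 h2 => mem_normalizer_of_forall fun x hx => by
      refine (h.decS (conj_mem_of_mem_normalizer h2 hx.1)).resolve_right fun ⟨w, hw, e'⟩ => ?_
      have x1 : x ≠ 1 := by
        rintro rfl
        exact h.tL ((L.mul_mem_cancel_right hw.2).1 (e' ▸ by simpa using L.one_mem))
      refine hA ((RV a h.aV a1 x hx x1).1 (Rc n h1 h2 x ?_))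
      by_cases w1 : w = 1
      · rw [e', w1, mul_one]; exact R1
      · exact e' ▸ (RV w hw w1 v hv v1).2 (e ▸ Rg)
    obtain ⟨r, h1, h2, e1⟩ := h.conjV (conj_mem_of_mem_normalizer (gV g hg hgS) h.aV)
      (by simpa using a1) h.aV a1
    have h3 := h.fixa (r * g) (gV _ (mul_mem (hH (h.EC h1)) hg) (mul_mem h2 hgS)) (by
      conv_rhs => rw [← e1]
      group)
    have e2 : r * g * t * (r * g)⁻¹ = t * (r * v * r⁻¹) := by rw [← h.conj_t h1, ← e]; group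
    have h4 := conj_mem_of_mem_normalizer (gV r (hH (h.EC h1)) h2) hv
    have h5 := h.ab.sqc h.syl.isPGroup (mul_mem h2 hgS) h.tS (mul_inv_eq_iff_eq_mul.1 (by
      calc r * g * (r * g) * t * (r * g * (r * g))⁻¹
          = r * g * (r * g * t * (r * g)⁻¹) * (r * g)⁻¹ := by group
        _ = r * g * (t * (r * v * r⁻¹)) * (r * g)⁻¹ := by rw [e2]
        _ = r * g * t * (r * g)⁻¹ * (r * g * (r * v * r⁻¹) * (r * g)⁻¹) := by group
        _ = t := by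
          rw [e2, ← h3 _ h4, mul_inv_cancel_right, mul_assoc, h.sqV h4, mul_one]))
    rw [h5.eq, mul_inv_cancel_right] at e2
    exact v1 (by simpa using e2)
  have hB : R (t * a) := by
    by_contra hB
    have h1 := (h.decS (conj_mem_of_mem_normalizer hgS h.tS)).resolve_right fun ⟨v, hv, e⟩ =>
      hB ((RV a h.aV a1 v hv fun e' => hc (mul_inv_eq_iff_eq_mul.1 (by simpa [e'] using e))).2 (e ▸ Rg))
    have k : ∀ x ∈ S ⊓ L, x ≠ 1 → ∃ v ∈ S ⊓ L, g * (t * x) * g⁻¹ = t * v := fun x hx x1 =>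
      (h.decS (conj_mem_of_mem_normalizer hgS (S.mul_mem h.tS hx.1))).resolve_left fun e =>
        hB ((RV a h.aV a1 x hx x1).2 (Rc g hg hgS _ ((RV _ e (by
          simp only [ne_eq, conj_eq_one_iff]
          exact fun e' => h.tL ((L.mul_mem_cancel_right hx.2).1 (e' ▸ L.one_mem))) a h.aV a1).1 hA)))
    obtain ⟨v₁, h2, e1⟩ := k a h.aV a1
    obtain ⟨v₂, h3, e2⟩ := k b h.bV b1
    obtain ⟨v₃, h4, e3⟩ := k (a * b) (mul_mem h.aV h.bV) fun e => h.ne (by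
      rw [eq_inv_of_mul_eq_one_left e, inv_eq_iff_mul_eq_one, mul_self_of_orderOf_two h.b2])
    have e4 : t * a * (t * b) = a * b := by
      rw [← (tL a h.aV.2).eq, mul_assoc, ← mul_assoc t, h.toRC.tt, one_mul]
    have e5 : g * (a * b) * g⁻¹ = v₁ * v₂ := by
      calc _ = g * (t * a) * g⁻¹ * (g * (t * b) * g⁻¹) := by rw [← e4]; group
        _ = _ := by rw [e1, e2, ← (tL v₁ h2.2).eq, mul_assoc, ← mul_assoc t, h.toRC.tt, one_mul]
    refine h.tL ((L.mul_mem_cancel_right h4.2).1 ?_)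
    rw [← e3, show g * (t * (a * b)) * g⁻¹ = g * t * g⁻¹ * (g * (a * b) * g⁻¹) by group, e5]
    exact mul_mem h1.2 (mul_mem h2.2 h3.2)
  rcases h.decS hs with e | ⟨v, hv, rfl⟩
  · exact (RV s e s1 a h.aV a1).1 hA
  · by_cases v1 : v = 1
    · rw [v1, mul_one]; exact R1
    · exact (RV v hv v1 a h.aV a1).2 hB

theorem comm_mem {z s : G} (hz : z ∈ 𝐂[t]) (hs : s ∈ S) (ho : Odd (orderOf z))
    (hi : s * z * s⁻¹ = z⁻¹) : z ∈ L := by
  have k : ∀ v ∈ S ⊓ L, v * z * v⁻¹ = z⁻¹ → z ∈ L := fun v hv e => by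
    have h1 := L.mul_mem (conj_mem_of_mem_normalizer (h.toRC.nC hz) (L.inv_mem hv.2)) hv.2
    have h2 : z * v⁻¹ * z⁻¹ * v = z * z := by
      calc _ = z * (v⁻¹ * (v * z * v⁻¹) * v) := by rw [e]; group
        _ = _ := by group
    obtain ⟨m, hm⟩ := BS.exists_sq_of_odd ho
    rw [← hm, ← (Commute.refl z).mul_pow, ← h2]
    exact pow_mem h1 m
  rcases h.decS hs with e | ⟨v, hv, rfl⟩
  · exact k s e hi
  · refine k v hv ?_
    have h1 : Commute t (v * z * v⁻¹) :=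
      (mem_cent1.1 (conj_mem_of_mem_normalizer (le_normalizer (h.toRC.SC hv.1)) hz) :
        Commute _ t).symm
    calc v * z * v⁻¹ = t * (v * z * v⁻¹) * t⁻¹ := by rw [h1.eq]; group
      _ = _ := by rw [← hi]; group

theorem no_odd (hT : ∀ s ∈ S, s ≠ 1 → ∃ n ∈ 𝐍(S), n * t * n⁻¹ = s) {O : Subgroup G}
    (ho : Odd #|O|) (hn : 𝐂[t] ≤ 𝐍(O)) (hf : O ⊓ 𝐂[t] = ⊥) : O = ⊥ := by
  have tt := h.toRC.tt
  have a1 := ne_one_of_orderOf_two h.a2
  have b1 := ne_one_of_orderOf_two h.b2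
  have SO : S ≤ 𝐍(O) := h.toRC.SC.trans hn
  have inv : ∀ y ∈ O, t * y * t⁻¹ = y⁻¹ := fun y hy => SF.T.inv_of_fpf tt (SO h.tS) hf hy
  have four : ∀ (Y : Subgroup G), Odd #|Y| → S ≤ 𝐍(Y) → Y ≠ ⊥ →
      ∃ x ∈ S ⊓ L, x ≠ 1 ∧ ∃ y ∈ Y, y ≠ 1 ∧ Commute y x := fun Y h1 h2 h3 => by
    by_contra! hc
    have le : TwoGrp.four a b (h.sqV h.aV) (h.sqV h.bV) (h.toRC.cS h.aV.1 h.bV.1) ≤ S ⊓ L :=
      fun x hx => (h.memV x).2 (TwoGrp.mem_four.1 hx)
    refine h3 (eq_bot_iff.2 (gen4 (TwoGrp.isKleinFour_four _ _ _ a1 b1 h.ne) h1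
      ((le.trans inf_le_left).trans h2) fun e he e1 y hy => ?_))
    by_contra y1
    exact hc e (le he) e1 y hy.1 y1 (mem_cent1.1 hy.2)
  by_contra hO
  obtain ⟨v, hv, v1, y, hy, y1, yv⟩ := four O ho SO hO
  obtain ⟨n, hnS, rfl⟩ := hT v hv.1 v1
  -- pull everything back along `n`
  set O' := cj n⁻¹ O
  have mO : ∀ x, x ∈ O' ↔ n * x * n⁻¹ ∈ O := fun x => mem_cj_inv
  have cO : ∀ g, n * g * n⁻¹ ∈ 𝐍(O) → ∀ x ∈ O', g * x * g⁻¹ ∈ O' := fun g hg x hx => (mO _).2 (by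
    convert conj_mem_of_mem_normalizer hg ((mO x).1 hx) using 1; group)
  obtain ⟨u, eu⟩ : ∃ u, n * u * n⁻¹ = t := ⟨n⁻¹ * t * n, by group⟩
  have uS : u ∈ S := by
    convert conj_mem_of_mem_normalizer' hnS h.tS using 1; rw [← eu]; group
  have inv' : ∀ y ∈ O', u * y * u⁻¹ = y⁻¹ := fun y hy => by
    have := inv _ ((mO y).1 hy)
    rw [← eu] at this
    calc _ = n⁻¹ * (n * u * n⁻¹ * (n * y * n⁻¹) * (n * u * n⁻¹)⁻¹) * n := by group
      _ = _ := by rw [this]; group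
  have ho' : Odd #|O' ⊓ 𝐂[t]| := ho.of_dvd_nat (by
    rw [← card_cj n⁻¹ O]; exact card_dvd_of_le inf_le_left)
  have od := fun y (hy : y ∈ O' ⊓ 𝐂[t]) => odd_orderOf_of_odd_card ho' hy
  have YL : O' ⊓ 𝐂[t] ≤ L := fun y hy => h.comm_mem hy.2 uS (od y hy) (inv' y hy.1)
  have nY : ∀ g ∈ 𝐂[t], n * g * n⁻¹ ∈ 𝐂[t] → g ∈ 𝐍(O' ⊓ 𝐂[t]) := fun g h1 h2 =>
    mem_normalizer_of_forall fun x hx =>
      ⟨cO g (hn h2) x hx.1, conj_mem_of_mem_normalizer (le_normalizer h1) hx.2⟩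
  obtain ⟨x, hx, x1, z, hz, z1, zx⟩ := four _ ho'
    (fun s hs => nY s (h.toRC.SC hs) (h.toRC.SC (conj_mem_of_mem_normalizer hnS hs)))
    (trivgPn.2 ⟨n⁻¹ * y * n, ⟨(mO _).2 (by simpa [mul_assoc] using hy), mem_cent1.2 (by
      have := yv.map (MulAut.conj n⁻¹)
      simpa [mul_assoc] using this.eq)⟩, fun e => y1 (by
        calc y = n * (n⁻¹ * y * n) * n⁻¹ := by group
          _ = 1 := by rw [e]; group)⟩)
  -- `w` is the component of `u` in `V`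
  obtain ⟨w, hw, wz, wu⟩ : ∃ w ∈ S ⊓ L, w * z * w⁻¹ = z⁻¹ ∧
      ∀ g, Commute g t → Commute g u → Commute g w := by
    rcases h.decS uS with e | ⟨w, hw, rfl⟩
    · exact ⟨u, e, inv' z hz.1, fun _ _ h => h⟩
    · refine ⟨w, hw, ?_, fun g h1 h2 => by simpa using h1.inv_right.mul_right h2⟩
      have := inv' z hz.1
      calc _ = t⁻¹ * (t * w * z * (t * w)⁻¹) * t := by group
        _ = _ := by rw [this, mul_assoc, mem_cent1.1 (inv_mem hz.2)]; group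
  have ni : ∀ s : G, s * z * s⁻¹ = z⁻¹ → ¬ Commute z s := fun s e hc =>
    z1 (eq_one_of_odd_of_mul_self (by
      rw [← hc.eq, mul_inv_cancel_right] at e; exact mul_eq_one_iff_eq_inv.2 e) (od z hz))
  have w1 : w ≠ 1 := fun e => ni w wz (e ▸ Commute.one_right _)
  have o2 : ∀ x ∈ S ⊓ L, x ≠ 1 → orderOf x = 2 := fun x h1 h2 =>
    orderOf_eq_prime (by rw [pow_two, h.sqV h1]) h2
  -- an element of `L` centralizing `n t n⁻¹`
  obtain ⟨r, h1, h2, e⟩ := h.conjV hx x1 hv v1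
  have rL := fun y (hy : y ∈ L) => conj_mem_of_mem_normalizer (h.nL h1) hy
  obtain ⟨τ, eτ⟩ : ∃ τ, n * τ * n⁻¹ = r * z * r⁻¹ := ⟨n⁻¹ * (r * z * r⁻¹) * n, by group⟩
  have e0 : τ = n⁻¹ * (r * z * r⁻¹) * n := by rw [← eτ]; group
  have τt : Commute τ t := by
    have := (zx.map (MulAut.conj r)).map (MulAut.conj n⁻¹)
    simp only [MulAut.conj_apply, e] at this
    convert this using 1
    · rw [e0, inv_inv]
    · group
  have τC : n * τ * n⁻¹ ∈ 𝐂[t] := eτ ▸ h.EC (h.LE (rL z (YL hz)))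
  have τu : Commute τ u := by
    have := (show Commute _ t from mem_cent1.1 τC).map (MulAut.conj n⁻¹)
    rw [← eu] at this
    simpa [mul_assoc] using this
  have τo : orderOf τ = orderOf z := by
    rw [← BS.orderOf_conj n, eτ, BS.orderOf_conj]
  have τL : τ ∈ L := h.comm_mem (mem_cent1.2 τt)
    (conj_mem_of_mem_normalizer' hnS (conj_mem_of_mem_normalizer h2 hw.1)) (τo ▸ od z hz) (by
      calc _ = n⁻¹ * r * (w * z * w⁻¹) * (n⁻¹ * r)⁻¹ := by rw [e0]; group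
        _ = _ := by rw [wz, e0]; group)
  have hz' := conj_mem_of_mem_normalizer (nY τ (mem_cent1.2 τt) τC) hz
  have c1 : Commute (τ * z * τ⁻¹) z := commute_of_inverted inv' hz'.1 hz.1
  have c2 := (h.pl.odd z (YL hz) z1 (od z hz) x hx.2 _ (YL hz') zx.symm c1).1
  have c3 := (h.pl.odd _ (YL hz') (by simpa using z1) (od _ hz') x hx.2 (τ * x * τ⁻¹)
    (conj_mem_of_mem_normalizer (le_normalizer τL) hx.2) c2 (zx.symm.map (MulAut.conj τ))).2
    (o2 x hx x1) ((BS.orderOf_conj τ x).trans (o2 x hx x1))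
  have τ1 : τ ≠ 1 := fun e => z1 (by rw [← orderOf_eq_one_iff, ← τo, e, orderOf_one])
  have c4 := (h.pl.odd τ τL τ1 (τo ▸ od z hz) x hx.2 w hw.2
    (show Commute τ x from mul_inv_eq_iff_eq_mul.1 c3.symm).symm (wu τ τt τu).symm).2
    (o2 x hx x1) (o2 w hw w1)
  exact ni w wz (c4 ▸ zx)

theorem coatom [hs : IsSimpleGroup G] : IsCoatom 𝐂[t] := by
  have a1 := ne_one_of_orderOf_two h.a2
  have hC : 𝐂[t] ≠ ⊤ := fun e => by
    rcases (normalizer_eq_top_iff.1 (top_le_iff.1 (e ▸ h.toRC.nC))).eq_bot_or_eq_top with e | e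
    · exact a1 (mem_bot.1 (e ▸ h.aV.2))
    · exact h.tL (e ▸ trivial)
  have hT : ∀ s ∈ S, s ≠ 1 → ∃ n ∈ 𝐍(S), n * t * n⁻¹ = s := by
    by_cases hc : ∀ n ∈ (⊤ : Subgroup G), n ∈ 𝐍(S) → Commute n t
    · refine absurd (eq_top_iff.2 fun g _ => mem_cent1.2 ?_) hC
      have := h.ab.iso h.syl h.tS h.t2 hc (mem_top g)
      rcases (normalizer_eq_top_iff.1 (top_le_iff.1 (pcore_norm ({2}ᶜ : Set ℕ)
        (⊤ : Subgroup G)))).eq_bot_or_eq_top with e | e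
      · rw [e, mem_bot, mul_inv_eq_one, mul_inv_eq_iff_eq_mul] at this
        exact this.symm
      · exact absurd (eq_one_of_odd_sq (odd_core ⊤) (by rw [e]; trivial) h.toRC.tt)
          (ne_one_of_orderOf_two h.t2)
    · push Not at hc
      obtain ⟨g, h1, h2, h3⟩ := hc
      intro s h4 h5
      obtain ⟨n, -, h6⟩ := h.tr le_top h1 h2 h3 h4 h5
      exact ⟨n, h6⟩
  refine ⟨hC, fun M hM => ?_⟩
  by_contra hM'
  have sM : SylowIn 2 S M := h.syl.mono (h.toRC.SC.trans hM.le) le_top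
  by_cases hc : ∀ n ∈ M, n ∈ 𝐍(S) → Commute n t
  · obtain ⟨g, h1, h2⟩ := SetLike.exists_of_lt hM
    have h3 := h.ab.iso sM h.tS h.t2 hc h1
    rw [h.no_odd hT (odd_core M) (hM.le.trans (pcore_norm _ _)) (eq_bot_iff.2 fun x hx => ?_),
      mem_bot, mul_inv_eq_one, mul_inv_eq_iff_eq_mul] at h3
    · exact h2 (mem_cent1.2 h3.symm)
    have xE : x ∈ E := by
      rcases h.dec x hx.2 with e | e
      · exact e
      · obtain ⟨m, hm⟩ := BS.exists_sq_of_odd (odd_orderOf_of_odd_card (odd_core M) hx.1)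
        have := E.mul_mem e e
        rw [mul_assoc, ← mul_assoc x, mem_cent1.1 hx.2, mul_assoc, ← mul_assoc, h.toRC.tt,
          one_mul] at this
        rw [← hm, ← (Commute.refl x).mul_pow]; exact pow_mem this m
    have LM : L ≤ M := h.LE.trans (h.EC.trans hM.le)
    refine h.toRC.eq_one LM xE fun l hl => ?_
    rw [mul_assoc, mul_assoc, ← mul_assoc l]
    simpa using mul_mem hx.1 (conj_mem_of_mem_normalizer (pcore_norm _ _ (LM hl)) (inv_mem hx.1))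
  · push Not at hc
    obtain ⟨g, h1, h2, h3⟩ := hc
    have k : ∀ x ∈ M, orderOf x = 2 → ∃ m ∈ M, m * t * m⁻¹ = x := fun x hx x2 => by
      obtain ⟨c, h4, h5⟩ := sM.exists_conj_mem hx (k := 1) (by rw [pow_one, ← x2, pow_orderOf_eq_one])
      obtain ⟨n, h6, -, e⟩ := h.tr hM.le h1 h2 h3 h5 (by simpa using ne_one_of_orderOf_two x2)
      exact ⟨c⁻¹ * n, mul_mem (inv_mem h4) h6, by
        calc _ = c⁻¹ * (n * t * n⁻¹) * c := by group
          _ = x := by rw [e]; group⟩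
    have se : IsStronglyEmbedded M := by
      refine ⟨hM', even_iff_two_dvd.2 (h.t2 ▸ M.orderOf_dvd_natCard (sM.le h.tS)), fun g hg => ?_⟩
      rw [← Nat.not_even_iff_odd, even_iff_two_dvd]
      intro hd
      obtain ⟨⟨s, h4, m, h5, e⟩, s2⟩ := exists_prime_orderOf_dvd_card' 2 hd
      have s2 : orderOf s = 2 := (Subgroup.orderOf_coe _).trans s2
      obtain rfl : g * m * g⁻¹ = s := e
      obtain ⟨m₁, h6, e1⟩ := k _ h4 s2
      obtain ⟨m₂, h7, rfl⟩ := k m h5 ((BS.orderOf_conj g m).symm.trans s2)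
      have : m₁⁻¹ * (g * m₂) ∈ M := hM.le (mem_cent1.2 (by
        calc _ = m₁⁻¹ * (g * (m₂ * t * m₂⁻¹) * g⁻¹) * (g * m₂) := by group
          _ = _ := by rw [← e1]; group))
      exact hg ((M.mul_mem_cancel_right h7).1 ((M.mul_mem_cancel_left (inv_mem h6)).1 this))
    have := h.ab.not_se se h.t2 (mem_cent1.1 (h.EC h.rE)) (h.toRC.cS h.aV.1 h.tS)
    exact h.ne (by rw [← h.ra, this.eq, mul_inv_cancel_right])

end RD

end Cfsg.Agent.Ree
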