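import Cfsg.Agent.Lib.GO.Defs
import Cfsg.Agent.Lib.SC.Ben2
import Cfsg.Agent.Lib.BS.Bender

/-! Simple normal subgroups with trivial centralizer meeting a strongly closed elementary abelian
2-subgroup. -/

set_option autoImplicit false
set_option linter.unusedSectionVars false
set_option linter.unusedVariables false

namespace Cfsg.Agent.GO

open Subgroup Cfsg.Agent.FT Cfsg.Agent.SF Cfsg.Agent.SF.GP Cfsg.Agent.SC
open Cfsg.Agent.BS hiding mem_cent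
open Cfsg.Agent.Tr (SylowIn)

universe u

section bender

variable {X Ω : Type u} [Group X] [Finite X] [MulAction X Ω] {α β : Ω} {t s r : X}
  {Q Q0 K : Subgroup X} (h : Rich α β t s r Q Q0 K)
include h

theorem four_of_rich [IsSimpleGroup X] : ∀ x ∈ Q, x ^ 4 = 1 := by
  obtain ⟨c1, c2⟩ := h.toHyp.concl h.toHyp.rk2
  by_cases hc : ∃ x ∈ Q, ∃ y ∈ Q, ¬ Commute x y
  · exact (h.higman higman le_rfl (isPGroup_of_forall c1)
      (fun k hk x hx => h.toHyp.QD (h.K_le hk) hx) hc).1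
  · push Not at hc
    exact fun x hx => by rw [show 4 = 2 * 2 from rfl, pow_mul, sq x, c2 hc x hx, one_pow]

theorem sq_of_rich [IsSimpleGroup X] {x : X} (hx : x ∈ Q) : x * x ∈ Q0 :=
  (h.memQ0 _).2 ⟨mul_mem hx hx, by
    rw [← four_of_rich h x hx]; simp only [pow_succ, pow_zero, one_mul, mul_assoc]⟩

theorem zen_of_rich [IsSimpleGroup X] {z : X} (hz : z ∈ Q) (hc : ∀ y ∈ Q, Commute z y) :
    z * z = 1 := by
  by_contra h1
  refine h1 ((h.toHyp.concl h.toHyp.rk2).2 (fun x hx y hy => ?_) z hz)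
  by_cases h2 : x * x = 1
  · exact h.cent x ((h.memQ0 x).2 ⟨hx, h2⟩) y hy
  obtain ⟨k, hk, e⟩ := h.trK (sq_of_rich h hx) h2
  obtain ⟨l, hl, e'⟩ := h.trK (sq_of_rich h hz) h1
  have hd := h.K_le (mul_mem hk (inv_mem hl))
  set d := k * l⁻¹ with hd'
  have hz' : ∀ y ∈ Q, Commute (d * z * d⁻¹) y := fun y hy => by
    have := Tr.commute_conj_iff (g := d).2 (hc _ (h.toHyp.QD' hd hy))
    rwa [show d * (d⁻¹ * y * d) * d⁻¹ = y by group] at this
  have h3 : x * (d * z * d⁻¹)⁻¹ ∈ Q0 := (h.memQ0 _).2 ⟨mul_mem hx (inv_mem (h.toHyp.QD hd hz)), by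
    have h4 : d * z * d⁻¹ * (d * z * d⁻¹) = x * x := by
      rw [show d * z * d⁻¹ * (d * z * d⁻¹) = d * (z * z) * d⁻¹ by group, e, e', hd']; group
    rw [mul_assoc, ← mul_assoc _ x, (hz' x hx).inv_left.eq, mul_assoc, ← mul_inv_rev, h4,
      ← mul_assoc, mul_inv_cancel]⟩
  have := (h.cent _ h3 y hy).mul_left (hz' y hy)
  rwa [inv_mul_cancel_right] at this

theorem fix_of_rich [IsSimpleGroup X] {σ : MulAut X} (h0 : ∀ u ∈ Q0, σ u = u) (ht : σ t = t)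
    (hQ : ∀ y ∈ Q, σ y * y⁻¹ ∈ Q0) : ∀ y ∈ Q, σ y = y := by
  have hK : ∀ k ∈ K, σ k = k := fun k hk => Ben.aut_K h h0 ht hk
  have hq : ∀ y ∈ Q, σ y ∈ Q := fun y hy => Ben.aut_Q h h0 (four_of_rich h) hy
  have hD : ∀ d ∈ DD X α β, σ d ∈ DD X α β := fun d hd => ⟨Ben.aut_H h h0 hd.1, by
    have h2 := Ben.aut_H h h0 (h.toHyp.tDt hd).1
    rw [map_mul, map_mul, ht, mul_smul, mul_smul, h.ta] at h2
    show σ d • β = β
    rw [← h.toHyp.tt_smul (σ d • β), h2, h.ta]⟩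
  have hr : σ r = r := by
    have h1 := congrArg σ h.tst
    simp only [map_mul, map_inv, h0 s h.s_mem, ht] at h1
    exact (h.dist_unique h.s_mem h.s_ne (hq r h.rQ) h1).2
  have key : ∀ y ∈ Q, σ y ≠ s * y := fun y hy e => by
    have y1 : y ≠ 1 := fun e' => h.s_ne (by simpa [e'] using e.symm)
    obtain ⟨g, hg, d, hd, f, hf, e1⟩ := h.toHyp.exists_gf hy y1
    have hσf : σ f = f := by
      by_cases hfr : f * r = 1
      · rw [eq_inv_of_mul_eq_one_left hfr, map_inv, hr]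
      obtain ⟨g', hg', d', hd', f', hf', e2⟩ := h.toHyp.exists_gf (mul_mem hf h.rQ) hfr
      have e3 : σ g * σ d * t * σ f = g * (d * g' * d⁻¹) * (d * d') * t * (f' * r⁻¹) := by
        have e4 := congrArg σ e1
        simp only [map_mul, ht, e] at e4
        rw [← e4, (h.cent s h.s_mem y hy).eq]
        calc t * (y * s) * t = t * y * t * (t * s * t) := by simp only [mul_assoc, h.toHyp.tt']
          _ = g * d * (t * (f * r) * t) * r⁻¹ := by rw [e1, h.tst]; group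
          _ = _ := by rw [e2]; group
      have e5 := (h.toHyp.dec_unique (hq g hg) (hD d hd) (hq f hf)
        (mul_mem hg (h.toHyp.QD hd hg')) (mul_mem hd hd') (mul_mem hf' (inv_mem h.rQ)) e3).1
      have h6 : g' ∈ Q0 := by
        have h7 := h.conj_Q0 (inv_smul_fixed (show (g * d) • α = α by rw [mul_smul, hd.1, h.Qa g hg])) (hQ g hg)
        rwa [e5, show (g * d)⁻¹ * (g * (d * g' * d⁻¹) * g⁻¹) * (g * d)⁻¹⁻¹ = g' by group] at h7
      obtain ⟨k, hk, rfl⟩ := h.trK h6 (h.toHyp.g_ne_one (mul_mem hf h.rQ) hd' hf' e2)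
      have e8 := (h.toHyp.gf_g e2).symm.trans (h.tkst hk)
      have e9 := (h.toHyp.dec_unique (mul_mem hf h.rQ) (inv_mem hd')
        (h.toHyp.QD (h.toHyp.tDt hd') (inv_mem hf')) (h.toHyp.QD' (h.K_le hk) h.rQ)
        (h.K_le (mul_mem (inv_mem hk) (inv_mem hk))) (h.toHyp.QD' (h.K_le hk) (inv_mem h.rQ)) e8).1
      rw [eq_mul_inv_of_mul_eq e9]
      simp only [map_mul, map_inv, hr, hK k hk]
    have e6 : t * f * t = d⁻¹ * g⁻¹ * d * d⁻¹ * t * y := by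
      calc t * f * t = d⁻¹ * g⁻¹ * (g * d * t * f) * t := by group
        _ = _ := by rw [← e1]; simp only [mul_assoc, h.tt, mul_one, mul_inv_cancel_left]
    have e7 := congrArg σ e6
    rw [map_mul, map_mul, ht, hσf, e6, map_mul, map_mul, map_mul, ht] at e7
    have := (h.toHyp.dec_unique (h.toHyp.QD' hd (inv_mem hg)) (inv_mem hd) hy
      (hq _ (h.toHyp.QD' hd (inv_mem hg))) (hD _ (inv_mem hd)) (hq y hy) e7).2.2
    exact h.s_ne (by simpa [e] using this.symm)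
  intro y hy
  by_contra h1
  obtain ⟨k, hk, e⟩ := h.trK (hQ y hy) (fun e => h1 (mul_inv_eq_one.1 e))
  refine key (k⁻¹ * y * k) (h.toHyp.QD' (h.K_le hk) hy) ?_
  rw [map_mul, map_mul, map_inv, hK k hk, mul_inv_eq_iff_eq_mul.1 e]
  group

theorem inner_of_rich [IsSimpleGroup X] {σ : MulAut X} (h0 : ∀ u ∈ Q0, σ u = u)
    (hQ : ∀ y ∈ Q, σ y * y⁻¹ ∈ Q0) : ∃ x ∈ Q, ∀ y, σ y = x * y * x⁻¹ := by
  obtain ⟨x, hx, h1, -⟩ := Ben.aut_dec h h0 (four_of_rich h)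
  have h2 : ∀ y, (MulAut.conj x⁻¹ * σ) y = x⁻¹ * σ y * x := fun y => by simp
  have h3 := fix_of_rich h (σ := MulAut.conj x⁻¹ * σ) (fun u hu => by
    rw [h2, h0 u hu, mul_assoc, (h.cent u hu x hx).eq, inv_mul_cancel_left]) (by rw [h2, h1])
    (fun y hy => by
      obtain ⟨c1, -⟩ := h.toHyp.concl h.toHyp.rk2
      have h4 := mul_mem (h.conj_Q0 (h.Qa _ (inv_mem hx)) (hQ y hy))
        (h.comm_mem higman (inv_mem hx) hy (c1 _ (inv_mem hx)) (c1 y hy))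
      rw [h2]
      convert h4 using 1
      group)
  refine ⟨x, hx, fun y => ?_⟩
  have h5 : (⊤ : Subgroup X) ≤ ((MulAut.conj x⁻¹ * σ : MulAut X) : X →* X).eqLocus (MonoidHom.id X) := by
    rw [← h.sup_eq_top]
    exact sup_le (fun y hy => h3 y hy) (cycle_subG.2 (by
      show (MulAut.conj x⁻¹ * σ) t = t
      rw [h2, h1]))
  have h6 : x⁻¹ * σ y * x = y := (h2 y).symm.trans (h5 (mem_top y))
  rw [← h6, h6]
  nth_rw 2 [← h6]
  group

theorem conj_Q0 {T : Set X} {E : Subgroup X} (hE : Sce T E) (h1 : E ≠ ⊥) : ∃ g, cj g E = Q0 := by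
  obtain ⟨z, hz, hz1⟩ := trivgPn.1 h1
  obtain ⟨g, hg⟩ := isConj_iff.1 (h.toHyp.isConj (hE.order hz hz1) h.s2)
  have h2 : cj g E ≤ Q0 := Tr.cj_le_iff.2 fun x hx =>
    h.mem_Q0_of_sq (h.toHyp.smul_a_of_commute h.sQ h.s_ne (by
      rw [← hg]
      exact Commute.conj (hE.comm hx hz) g)) (Tr.conj_mul_self (hE.ee hx) g)
  refine ⟨g, le_antisymm h2 fun u hu => (hE.cj g).max _ h.isPGroup_Q0 h2 u ?_ hu⟩
  by_cases h1 : u = 1
  · exact h1 ▸ hE.fam.one
  obtain ⟨k, hk, rfl⟩ := h.trK hu h1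
  rw [← hg]
  exact hE.fam.conj _ (hE.fam.conj _ (hE.sub z hz) g) k

end bender

variable {Y : Type u} [Group Y] [Finite Y] {L : Subgroup Y} [hL : L.Normal] [IsSimpleGroup L]

theorem gd_B (hC : 𝐂(L) = ⊥) {Ω : Type u} [MulAction L Ω] {α β : Ω} {t s r : L}
    {Q Q0 K : Subgroup L} (h : Rich α β t s r Q Q0 K) : Gd L (Q0.map L.subtype) := by
  have hm : ∀ {A : Subgroup L} {x : L}, (x : Y) ∈ A.map L.subtype ↔ x ∈ A := fun {A x} =>
    mem_map_iff_mem L.subtype_injective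
  have hQ : ∀ x (hx : x ∈ L), x ∈ 𝐍(Q0.map L.subtype) → El2 x → (⟨x, hx⟩ : L) ∈ Q := by
    intro x hx hn h2
    obtain ⟨n, e⟩ := Tr.isPGroup_iff_forall_mem.1 h2 x (mem_zpowers x)
    refine h.toHyp.mem_Q_of_two_pow (n := n) (h.toHyp.ti h.sQ h.s_ne (h.Q0_le (hm.1 ?_)))
      (Subtype.ext e)
    exact (memJ_norm hn).2 (hm.2 h.s_mem)
  have hS : ∀ P, SylowIn 2 P L → Q0.map L.subtype ≤ P → P = Q.map L.subtype := fun P hP hle => by
    refine (hP.eq_of_le ((h.toHyp.isPGroup h.toHyp.rk2).map _) (fun x hx => ?_)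
      (map_subtype_le _)).symm
    by_contra hx'
    have h1 : P ⊓ Q.map L.subtype < P := lt_of_le_of_ne inf_le_left fun e => hx' (e.ge hx).2
    obtain ⟨y, hy, hn, hy'⟩ := Tr.exists_mem_normalizer_not_mem hP.isPGroup h1
    obtain ⟨n, e⟩ := Tr.isPGroup_iff_forall_mem.1 hP.isPGroup y hy
    refine hy' ⟨hy, hm.2 (h.toHyp.mem_Q_of_two_pow (u := ⟨y, hP.le hy⟩) (n := n)
      (h.toHyp.ti h.sQ h.s_ne (hm.1 ?_)) (Subtype.ext e))⟩
    exact ((memJ_norm hn).2 ⟨hle (hm.2 h.s_mem), hm.2 h.sQ⟩).2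
  refine ⟨map_subtype_le _, ?_, ?_, fun x hx hn h2 => ?_, fun x hx hn h2 => ?_,
    fun x hx hn h2 => ?_, fun P hP hle x hx hc => ?_, fun P hP hle x h2 hc hy => ?_⟩
  · rw [card_map_of_injective L.subtype_injective, h.card_Q0]
    have := h.three
    omega
  · rintro _ ⟨a, ha, rfl⟩ a1 _ ⟨b, hb, rfl⟩ b1
    obtain ⟨k, hk, rfl⟩ := h.trK ha fun e => a1 (by rw [e, map_one])
    obtain ⟨l, hl, rfl⟩ := h.trK hb fun e => b1 (by rw [e, map_one])
    refine ⟨(l * k⁻¹ : L), (l * k⁻¹).2, norms_map L.subtype (norms_of_conj_mem fun k hk u hu =>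
      h.conj_Q0 (h.K_le hk).1 hu) (hm.2 (mul_mem hl (inv_mem hk))), ?_⟩
    simp [mul_assoc]
  · refine mem_cent.2 ?_
    rintro _ ⟨u, hu, rfl⟩
    exact congrArg Subtype.val (h.cent u hu _ (hQ x hx hn h2)).eq
  · exact hm.2 (sq_of_rich h (hQ x hx hn h2))
  · exact hm.2 ((h.memQ0 ⟨x, hx⟩).2 ⟨hQ x hx hn (pgroup_invol h2), Subtype.ext h2⟩)
  · rw [hS P hP hle] at hx hc
    obtain ⟨z, hz, rfl⟩ := hx
    exact congrArg Subtype.val (zen_of_rich h hz fun y hy =>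
      Subtype.ext (mem_cent.1 hc y (hm.2 hy)).symm)
  · rw [hS P hP hle] at hy
    obtain ⟨z, hz, e⟩ := inner_of_rich h (σ := MulAut.conjNormal x) (fun u hu => Subtype.ext (by
      rw [MulAut.conjNormal_apply, ← mem_cent.1 hc u (hm.2 hu), mul_inv_cancel_right]))
      (fun y hy' => hm.1 (hy y (hm.2 hy')))
    have h3 : (z : Y)⁻¹ * x ∈ 𝐂(L) := mem_cent.2 fun y hy => by
      have := congrArg Subtype.val (e ⟨y, hy⟩)
      simp only [MulAut.conjNormal_apply, coe_mul, coe_inv] at this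
      calc y * ((z : Y)⁻¹ * x) = (z : Y)⁻¹ * (z * y * (z : Y)⁻¹) * x := by group
        _ = _ := by rw [← this]; group
    rw [hC, mem_bot, inv_mul_eq_one] at h3
    exact h3 ▸ z.2

theorem core_bot (hC : 𝐂(L) = ⊥) {M : Subgroup Y} (hM : L ≤ M) : 𝐎(M) = ⊥ := by
  have : Fact OddOrderThm.{u} := ⟨FT.oddOrder⟩
  have hn : L ≤ 𝐍(𝐎(M)) := hM.trans (pcore_norm _ M)
  rcases (normal_subgroupOf_of_le_normalizer hn).eq_bot_or_eq_top with h1 | h1
  · exact eq_bot_iff.2 (hC ▸ commG_TI (norms_of_normal _) hn (subgroupOf_eq_bot.1 h1).eq_bot)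
  · have h2 := sol_der1_proper (Fit.isSolvable_of_le (subgroupOf_eq_top.1 h1)
      (odd_sol (odd_core M))) (L.nontrivial_iff_ne_bot.1 inferInstance)
    rcases (normal_subgroupOf_of_le_normalizer (der_norm L)).eq_bot_or_eq_top with h3 | h3
    · have h4 : L ≤ 𝐂(L) := commG1P.1 (by
        simpa [inf_of_le_left (der_sub L)] using (subgroupOf_eq_bot.1 h3).eq_bot)
      exact absurd (eq_bot_iff.2 (hC ▸ h4)) (L.nontrivial_iff_ne_bot.1 inferInstance)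
    · exact absurd (subgroupOf_eq_top.1 h3) h2.not_ge

theorem four_card (hC : 𝐂(L) = ⊥) {T : Set Y} {E : Subgroup Y} (h : Sce T E) (hE : E ≤ L)
    (h1 : E ≠ ⊥) : 4 ≤ #|E| := by
  obtain ⟨a, ha, a1⟩ := trivgPn.1 h1
  obtain ⟨P, hP, hEP⟩ := Tr.exists_sylowIn_ge h.two hE
  by_cases h2 : ∃ b ∈ E, b ≠ 1 ∧ b ≠ a
  · obtain ⟨b, hb, b1, ba⟩ := h2
    rw [← (q4_four h.fam ⟨h.sub a ha, h.order ha a1⟩ ⟨h.sub b hb, h.order hb b1⟩ (h.comm ha hb)
      ba.symm).four.card_four]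
    exact card_le_of_le (four_le ha hb)
  push Not at h2
  refine absurd (eq_bot_iff.2 (hC ▸ iso_cent hP (core_bot hC le_rfl) hEP fun b hb g hg hb' => ?_)) h1
  by_cases b1 : b = 1
  · simp [b1]
  rw [h2 _ (h.max P hP.isPGroup hEP _ (h.fam.conj b (h.sub b hb) g) hb') (by simpa using b1),
    h2 b hb b1]

theorem gd_A (hC : 𝐂(L) = ⊥) {T : Set Y} {E : Subgroup Y} (h : Sce T E) (hE : E ≤ L)
    (h1 : E ≠ ⊥) (hm : SC.Mx E L) (ht : Trs L E) : Gd L E := by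
  have h4 := four_card hC h hE h1
  have hS : ∀ P, SylowIn 2 P L → E ≤ P → P = E := fun P hP hle =>
    le_antisymm (hm P hP.isPGroup hle hP.le) hle
  have hx : ∀ x ∈ L, x ∈ 𝐍(E) → El2 x → x ∈ E := fun x hx hn h2 => hm.mem h.two hE h2 hx hn
  refine ⟨hE, h4, ht, fun x h1 h2 h3 => h.cent (hx x h1 h2 h3),
    fun x h1 h2 h3 => mul_mem (hx x h1 h2 h3) (hx x h1 h2 h3),
    fun x h1 h2 h3 => hx x h1 h2 (pgroup_invol h3), fun P hP hle x h1 _ => h.ee (hS P hP hle ▸ h1),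
    fun P hP hle x h2 hc _ => ?_⟩
  have hP2 := pgroup_sup_elt h.two h2 (cent_sub E hc)
  have hLn : zpowers x ≤ 𝐍(L) := norms_of_normal _
  have hab : E ⊔ zpowers x ≤ 𝐂(E ⊔ zpowers x) := centsY (sup_le h.cent (cycle_subG.2 hc))
    (sup_le (centsC.1 (cycle_subG.2 hc)) (abelianE.1 inferInstance))
  have hI : ∀ R : Subgroup Y, IsPGroup 2 R → E ≤ R → R ⊓ L = E := fun R hR hle =>
    le_antisymm (hm _ (pgroup_sub inf_le_left hR) (le_inf hle hE) inf_le_right) (le_inf hle hE)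
  have hS' : SylowIn 2 (E ⊔ zpowers x) (L ⊔ zpowers x) :=
    SC.Mx.sylowIn (fun R hR h3 h5 => by
      rw [← inf_of_le_right h5, ← group_modr hLn (le_sup_right.trans h3), inf_comm,
        hI R hR (le_sup_left.trans h3)]) hP2 (sup_le_sup_right hE _)
  obtain ⟨K, hK, hKn, hK'⟩ := exists_compl hS'
  have hfix : ∀ a ∈ (E ⊔ zpowers x) ⊓ 𝐂(K), ∀ g ∈ L ⊔ zpowers x,
      g * a * g⁻¹ ∈ E ⊔ zpowers x → g * a * g⁻¹ = a := fun a ha g hg hg' => by
    obtain ⟨n, hn1, hn2, e⟩ := burnside hS' hab ha.1 hg hg'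
    obtain ⟨p, hp, k, hk, rfl⟩ := hK' n ⟨hn1, hn2⟩
    rw [← e, show p * k * a * (p * k)⁻¹ = p * (k * a * k⁻¹) * p⁻¹ by group, mem_cent.1 ha.2 k hk,
      mul_inv_cancel_right, mem_cent.1 (hab ha.1) p hp, mul_inv_cancel_right]
  have h5 : (E ⊔ zpowers x) ⊓ 𝐂(K) = ⊥ := eq_bot_iff.2 (hC ▸ (iso_cent hS'
    (core_bot hC le_sup_left) inf_le_left hfix).trans (centS le_sup_left))
  obtain ⟨a, ha, b, hb, e⟩ := (coprime_cent_prod (hKn.trans inf_le_right) (cop2 hK hP2).symm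
    (Or.inr (pgroup_sol hP2))).exists (mem_sup_elt E x)
  rw [h5, mem_bot] at hb
  rw [← e, hb, mul_one]
  refine (commgSS (sup_le_sup_right hE _) (hKn.trans inf_le_left)).trans ?_ ha
  rw [der1_sup hLn, derG1P.2 (inferInstance : IsMulCommutative (zpowers x))]
  exact sup_le (sup_le (der_sub L) (commg_subl.2 hLn)) bot_le

/-- the main result on simple normal subgroups -/
theorem gd_of {n : ℕ} (hG : GN.{u} n) (hn : #|L| < n) (hC : 𝐂(L) = ⊥) {T : Set Y}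
    {E : Subgroup Y} (h : Sce T E) (h1 : E ≠ ⊥) : Gd L E := by
  have h2 : E ⊓ L ≠ ⊥ := fun e => h1 (eq_bot_iff.2 (hC ▸ fun x hx =>
    h.fam.cent_of_disj (core_bot hC le_rfl) (fun t ht htL => by
      obtain ⟨c, -, hc⟩ := h.conj_mem le_top ht (mem_top t)
      simpa using e.le ⟨hc, hL.conj_mem t htL c⟩) (subset_closure (h.sub x hx))))
  have h3 := (h.inter L).subgroupOf inf_le_right
  have h4 : (E ⊓ L).subgroupOf L ≠ ⊥ := fun e =>
    h2 (by simpa [inf_assoc] using (subgroupOf_eq_bot.1 e).eq_bot)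
  have h5 : Gd L (E ⊓ L) := by
    rcases hG L _ _ hn h3 h4 with ⟨h6, h7⟩ | ⟨H, hH⟩
    · refine gd_A hC (h.inter L) inf_le_right h2 (fun P hP h8 h9 x hx => ?_)
        fun a ha a1 b hb b1 => ?_
      · exact h6 (P.subgroupOf L) (Tr.isPGroup_subgroupOf hP L) (fun y hy => h8 hy) le_top
          (show (⟨x, h9 hx⟩ : L) ∈ _ from hx)
      · obtain ⟨m, -, hm, e⟩ := h7 ⟨a, ha.2⟩ ha (fun e => a1 (congrArg Subtype.val e)) ⟨b, hb.2⟩ hb
          fun e => b1 (congrArg Subtype.val e)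
        exact ⟨m, m.2, Tr.mem_normalizer_of_forall fun y hy =>
          (memJ_norm hm).2 (show (⟨y, hy.2⟩ : L) ∈ _ from hy), congrArg Subtype.val e⟩
    · obtain ⟨Q, t, hy⟩ := BS.bender L H hH
      obtain ⟨s, r, Q0, K, hR⟩ := hy.rich hy.rk2
      obtain ⟨g, hg⟩ := conj_Q0 hR h3 h4
      refine Gd.cj (g := g) ?_
      convert gd_B hC hR using 1
      rw [← hg, map_cj, subgroupOf_map_subtype, inf_assoc, inf_idem]
      rfl
  obtain ⟨S, hS, hES⟩ := Tr.exists_sylowIn_ge h.two le_top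
  have h6 : E ≤ L := fun e he => h5.inner (S ⊓ L) (hS.inf_of_le_normalizer le_top (norms_of_normal _))
    (inf_le_inf_right L hES) e (h.el2 he) (h.cents inf_le_left he) fun y hy =>
      ⟨commg_subl.2 (h.le_norm hS.isPGroup hES) (mem_commg he hy.1),
        L.mul_mem (hL.conj_mem y hy.2 e) (L.inv_mem hy.2)⟩
  rwa [inf_of_le_left h6] at h5

end Cfsg.Agent.GO
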